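import Cfsg.Agent.Lib.FiveOrders.Basic

/-!
# Conjugate subgroups
-/

set_option autoImplicit false
set_option linter.all false

namespace Cfsg.Agent.FiveOrders

universe u

variable {G : Type u} [Group G]

/-- The conjugate `g H g⁻¹`. -/
def conjS (g : G) (H : Subgroup G) : Subgroup G := H.map (MulAut.conj g).toMonoidHom

theorem mem_conjS {g x : G} {H : Subgroup G} : x ∈ conjS g H ↔ g⁻¹ * x * g ∈ H := by
  constructor
  · rintro ⟨y, hy, rfl⟩
    show g⁻¹ * (g * y * g⁻¹) * g ∈ H
    simpa [mul_assoc] using hy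
  · intro hx
    exact ⟨g⁻¹ * x * g, hx, by show g * (g⁻¹ * x * g) * g⁻¹ = x; group⟩

theorem conjS_conjS (g k : G) (H : Subgroup G) : conjS g (conjS k H) = conjS (g * k) H := by
  ext x; simp only [mem_conjS, mul_inv_rev, mul_assoc]

theorem conjS_one (H : Subgroup G) : conjS (1 : G) H = H := by
  ext x; simp [mem_conjS]

theorem card_conjS (g : G) (H : Subgroup G) : Nat.card (conjS g H) = Nat.card H :=
  Subgroup.card_map_of_injective (MulAut.conj g).injective

theorem conjS_mono (g : G) {H K : Subgroup G} (h : H ≤ K) : conjS g H ≤ conjS g K := Subgroup.map_mono h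

theorem le_conjS_iff {g : G} {H K : Subgroup G} : H ≤ conjS g K ↔ conjS g⁻¹ H ≤ K := by
  constructor
  · intro h x hx
    rw [mem_conjS, inv_inv] at hx
    have := mem_conjS.1 (h hx)
    simpa [mul_assoc] using this
  · intro h x hx
    refine mem_conjS.2 (h ?_)
    rw [mem_conjS, inv_inv]
    simpa [mul_assoc] using hx

theorem conjS_eq_iff_mem_normalizer {g : G} {H : Subgroup G} :
    conjS g H = H ↔ g ∈ Subgroup.normalizer (H : Set G) := by
  rw [Subgroup.mem_normalizer_iff]
  constructor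
  · intro e x
    conv_rhs => rw [← e, mem_conjS]
    simp [mul_assoc]
  · intro hn
    ext x
    rw [mem_conjS, hn]
    simp [mul_assoc]

variable [Finite G]

theorem conjS_eq_of_le {g : G} {H : Subgroup G} (h : conjS g H ≤ H) : conjS g H = H :=
  Subgroup.eq_of_le_of_card_ge h (card_conjS g H).ge

theorem mem_normalizer_of_conj {g : G} {H : Subgroup G} (h : ∀ x ∈ H, g * x * g⁻¹ ∈ H) :
    g ∈ Subgroup.normalizer (H : Set G) := by
  refine conjS_eq_iff_mem_normalizer.1 (conjS_eq_of_le ?_)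
  rintro _ ⟨x, hx, rfl⟩
  exact h x hx

/-- Every `p`-subgroup is conjugate into a given maximal `p`-subgroup. -/
theorem exists_conj_le {p : ℕ} [Fact p.Prime] {U X : Subgroup G} (hU : IsPGroup p U)
    (hmax : ∀ Y : Subgroup G, IsPGroup p Y → U ≤ Y → Y ≤ U) (hX : IsPGroup p X) :
    ∃ g : G, X ≤ conjS g U := by
  obtain ⟨P, hP⟩ := hX.exists_le_sylow
  obtain ⟨S, hS⟩ := hU.exists_le_sylow
  have hSU : (S : Subgroup G) = U := le_antisymm (hmax _ S.2 hS) hS
  obtain ⟨g, hg⟩ := MulAction.exists_smul_eq G S P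
  refine ⟨g, fun x hx => ?_⟩
  have h1 : x ∈ ((g • S : Sylow p G) : Subgroup G) := by rw [hg]; exact hP hx
  rw [Sylow.coe_subgroup_smul, Subgroup.mem_pointwise_smul_iff_inv_smul_mem, hSU,
    ← map_inv, MulAut.smul_def, MulAut.conj_apply, inv_inv] at h1
  exact mem_conjS.2 h1

end Cfsg.Agent.FiveOrders
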