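import Cfsg.Agent.Lib.FiveOrders.Sylow
import Cfsg.Agent.Lib.FiveOrders.Conj

/-!
# The class equation of a group with element orders at most five
-/

set_option autoImplicit false
set_option linter.all false

namespace Cfsg.Agent.FiveOrders

universe u

section
variable {G : Type u} [Group G] [Finite G]

/-- Counting through an equivariant map to the conjugates of `U`. -/
theorem fibre_count {A : Set G} (φ : G → Subgroup G) (U : Subgroup G)
    (hA : ∀ g : G, ∀ a ∈ A, g * a * g⁻¹ ∈ A)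
    (hφ : ∀ g : G, ∀ a ∈ A, φ (g * a * g⁻¹) = conjS g (φ a))
    (hsur : ∀ a ∈ A, ∃ g : G, φ a = conjS g U) :
    Nat.card A * Nat.card ↥(Subgroup.normalizer (U : Set G)) =
      Nat.card G * Nat.card {a : G | a ∈ A ∧ φ a = U} := by
  choose γ hγ using hsur
  rw [← Nat.card_prod, ← Nat.card_prod]
  let ψ : A × Subgroup.normalizer (U : Set G) → G × {a : G | a ∈ A ∧ φ a = U} := fun q =>
    (γ q.1 q.1.2 * q.2, ⟨(γ q.1 q.1.2 * q.2)⁻¹ * q.1 * (γ q.1 q.1.2 * q.2), by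
      have h1 := hA (γ q.1 q.1.2 * q.2)⁻¹ q.1 q.1.2
      have h2 := hφ (γ q.1 q.1.2 * q.2)⁻¹ q.1 q.1.2
      rw [inv_inv] at h1 h2
      refine ⟨h1, ?_⟩
      rw [h2, hγ q.1 q.1.2, conjS_conjS, mul_inv_rev, mul_assoc, inv_mul_cancel, mul_one]
      exact conjS_eq_iff_mem_normalizer.2 (inv_mem q.2.2)⟩)
  refine Nat.card_congr (Equiv.ofBijective ψ ⟨?_, ?_⟩)
  · rintro ⟨⟨a, ha⟩, n⟩ ⟨⟨a', ha'⟩, n'⟩ e
    have e1 : γ a ha * (n : G) = γ a' ha' * n' := congrArg Prod.fst e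
    have e2 : (γ a ha * (n : G))⁻¹ * a * (γ a ha * n) = (γ a' ha' * (n' : G))⁻¹ * a' * (γ a' ha' * n') :=
      congrArg (fun q : G × {a : G | a ∈ A ∧ φ a = U} => (q.2 : G)) e
    rw [← e1] at e2
    have e3 : a = a' := mul_left_cancel (mul_right_cancel e2)
    subst e3
    exact Prod.ext rfl (Subtype.ext (mul_left_cancel e1))
  · rintro ⟨g, x, hxA, hxU⟩
    have ha := hA g x hxA
    have hn : (γ _ ha)⁻¹ * g ∈ Subgroup.normalizer (U : Set G) := by
      refine conjS_eq_iff_mem_normalizer.1 ?_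
      rw [← conjS_conjS]
      have e1 := hγ _ ha
      rw [hφ g x hxA, hxU] at e1
      rw [e1, conjS_conjS, inv_mul_cancel, conjS_one]
    refine ⟨(⟨g * x * g⁻¹, ha⟩, ⟨_, hn⟩), ?_⟩
    show ((γ _ ha * ((γ _ ha)⁻¹ * g), _) : G × {a : G | a ∈ A ∧ φ a = U}) = _
    refine Prod.ext (mul_inv_cancel_left _ _) (Subtype.ext ?_)
    show (γ _ ha * ((γ _ ha)⁻¹ * g))⁻¹ * (g * x * g⁻¹) * (γ _ ha * ((γ _ ha)⁻¹ * g)) = x
    group

/-- The nontrivial elements of order dividing `n`. -/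
def ofExp (G : Type u) [Group G] (n : ℕ) : Set G := {x | x ≠ 1 ∧ x ^ n = 1}

theorem Ord5.partition (h : Ord5 G) :
    Nat.card G = 1 + Nat.card (ofExp G 4) + Nat.card (ofExp G 3) + Nat.card (ofExp G 5) := by
  have hu : (Set.univ : Set G) = ({1} ∪ ofExp G 4) ∪ ofExp G 3 ∪ ofExp G 5 := by
    refine (Set.eq_univ_of_forall fun x => ?_).symm
    by_cases hx : x = 1
    · exact Or.inl (Or.inl (Or.inl hx))
    rcases h.cases hx with e | e | e | e
    · exact Or.inl (Or.inl (Or.inr ⟨hx, orderOf_dvd_iff_pow_eq_one.1 (by rw [e]; norm_num)⟩))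
    · exact Or.inl (Or.inr ⟨hx, orderOf_dvd_iff_pow_eq_one.1 (by rw [e])⟩)
    · exact Or.inl (Or.inl (Or.inr ⟨hx, orderOf_dvd_iff_pow_eq_one.1 (by rw [e])⟩))
    · exact Or.inr ⟨hx, orderOf_dvd_iff_pow_eq_one.1 (by rw [e])⟩
  have hd : ∀ m n : ℕ, Nat.Coprime m n → ∀ x ∈ ofExp G m, x ∉ ofExp G n := by
    intro m n hmn x hx hx'
    have := Nat.dvd_gcd (orderOf_dvd_of_pow_eq_one hx.2) (orderOf_dvd_of_pow_eq_one hx'.2)
    rw [hmn.gcd_eq_one, Nat.dvd_one, orderOf_eq_one_iff] at this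
    exact hx.1 this
  have hfin : ∀ s : Set G, s.Finite := fun s => Set.toFinite s
  have d1 : Disjoint ({1} : Set G) (ofExp G 4) :=
    Set.disjoint_singleton_left.2 fun hx => hx.1 rfl
  have d2 : Disjoint ({1} ∪ ofExp G 4) (ofExp G 3) := Set.disjoint_left.2 fun x hx hx' =>
    hx.elim (fun e => hx'.1 e) fun hx => hd 4 3 (by decide) x hx hx'
  have d3 : Disjoint (({1} ∪ ofExp G 4) ∪ ofExp G 3) (ofExp G 5) := Set.disjoint_left.2 fun x hx hx' =>
    hx.elim (fun h0 => h0.elim (fun e => hx'.1 e) fun hx => hd 4 5 (by decide) x hx hx')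
      fun hx => hd 3 5 (by decide) x hx hx'
  rw [← Set.ncard_univ, hu, Set.ncard_union_eq d3 (hfin _) (hfin _), Set.ncard_union_eq d2 (hfin _) (hfin _),
    Set.ncard_union_eq d1 (hfin _) (hfin _), Set.ncard_singleton]
  simp only [Nat.card_coe_set_eq]

theorem Ord5.card_eq_three (h : Ord5 G) (S : Sylow 2 G) (P : Sylow 3 G) (Q : Sylow 5 G) :
    Nat.card G = Nat.card S * Nat.card P * Nat.card Q := by
  haveI : Fact (Nat.Prime 2) := ⟨Nat.prime_two⟩
  haveI : Fact (Nat.Prime 3) := ⟨Nat.prime_three⟩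
  haveI : Fact (Nat.Prime 5) := ⟨by norm_num⟩
  rw [S.card_eq_multiplicity, P.card_eq_multiplicity, Q.card_eq_multiplicity]
  set n := Nat.card G with hn
  have hn0 : n ≠ 0 := Nat.card_pos.ne'
  conv_lhs => rw [← Nat.prod_factorization_pow_eq_self hn0]
  rw [Nat.prod_factorization_eq_prod_primeFactors]
  rw [Finset.prod_subset (s₂ := {2, 3, 5}) ?_ ?_]
  · simp [Finset.prod_insert, mul_assoc]
  · intro p hp
    rw [Nat.mem_primeFactors] at hp
    rcases h.prime_cases hp.1 hp.2.1 with rfl | rfl | rfl <;> simp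
  · intro p hp hnp
    have : n.factorization p = 0 := Finsupp.notMem_support_iff.1 (by rwa [Nat.support_factorization])
    rw [this, pow_zero]

end

/-- A possible term of the class equation: bounds `lo`, `hi` for `12960000 · (X-1)/(e X)`. -/
structure Opt where
  lo : ℕ
  hi : ℕ
  X : ℕ
  e : ℕ
  ex : Bool
deriving DecidableEq

def opts2 : List Opt := [
  ⟨6480000, 6480000, 2, 1, true⟩,
  ⟨9720000, 9720000, 4, 1, true⟩,
  ⟨11340000, 11340000, 8, 1, true⟩,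
  ⟨12150000, 12150000, 16, 1, true⟩,
  ⟨12555000, 12960000, 32, 1, false⟩,
  ⟨3240000, 3240000, 4, 3, true⟩,
  ⟨4050000, 4050000, 16, 3, true⟩,
  ⟨4252500, 4320000, 64, 3, false⟩,
  ⟨2430000, 2430000, 16, 5, true⟩,
  ⟨2581875, 2592000, 256, 5, false⟩,
  ⟨4860000, 4860000, 8, 0, true⟩,
  ⟨2632500, 2632500, 64, 0, true⟩]

def opts3 : List Opt := [
  ⟨8640000, 8640000, 3, 1, true⟩,
  ⟨11520000, 11520000, 9, 1, true⟩,
  ⟨12480000, 12480000, 27, 1, true⟩,
  ⟨12800000, 12960000, 81, 1, false⟩,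
  ⟨4320000, 4320000, 3, 2, true⟩,
  ⟨5760000, 5760000, 9, 2, true⟩,
  ⟨6240000, 6240000, 27, 2, true⟩,
  ⟨6400000, 6480000, 81, 2, false⟩,
  ⟨2880000, 2880000, 9, 4, true⟩,
  ⟨3200000, 3240000, 81, 4, false⟩,
  ⟨1440000, 1440000, 9, 8, true⟩,
  ⟨1600000, 1620000, 81, 8, false⟩,
  ⟨2560000, 2592000, 81, 5, false⟩]

def opts5 : List Opt := [
  ⟨10368000, 10368000, 5, 1, true⟩,
  ⟨12441600, 12441600, 25, 1, true⟩,
  ⟨12856320, 12960000, 125, 1, false⟩,
  ⟨5184000, 5184000, 5, 2, true⟩,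
  ⟨6220800, 6220800, 25, 2, true⟩,
  ⟨6428160, 6480000, 125, 2, false⟩,
  ⟨2592000, 2592000, 5, 4, true⟩,
  ⟨3110400, 3110400, 25, 4, true⟩,
  ⟨3214080, 3240000, 125, 4, false⟩,
  ⟨1555200, 1555200, 25, 8, true⟩,
  ⟨1617408, 1620000, 625, 8, false⟩,
  ⟨4147200, 4147200, 25, 3, true⟩,
  ⟨4313088, 4320000, 625, 3, false⟩]

def good (a b c : Opt) : Bool :=
  if a.ex && b.ex && c.ex then decide ((a.lo + b.lo + c.lo) * (a.X * b.X * c.X) + 12960000 ≠ 12960000 * (a.X * b.X * c.X))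
  else decide (12960000 ≤ a.lo + b.lo + c.lo) ||
    decide ((a.hi + b.hi + c.hi) * (a.X * b.X * c.X) + 12960000 < 12960000 * (a.X * b.X * c.X)) ||
    (decide (a.hi + b.hi + c.hi ≤ 12960000) &&
      ((!a.ex && decide (a.e < b.X * c.X)) || (!b.ex && decide (b.e < a.X * c.X)) || (!c.ex && decide (c.e < a.X * b.X))))



theorem table : ∀ a ∈ opts2, ∀ b ∈ opts3, ∀ c ∈ opts5,
    good a b c = true ∨ ((a.ex = true ∧ b.ex = true ∧ c.ex = true) ∧
      (a.X * b.X * c.X = 60 ∨ a.X * b.X * c.X = 360)) := by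
  decide +kernel

/-- `y` is a value of the option `o` for the order `X`. -/
structure Rep (o : Opt) (X : ℕ) (y : ℚ) : Prop where
  lo : (o.lo : ℚ) ≤ y
  le : o.X ≤ X
  hi : y ≤ o.hi
  exact_ : o.ex = true → X = o.X ∧ y = o.lo
  tail : o.ex = false → 0 < o.e ∧ y = o.hi - 12960000 / ((o.e : ℚ) * X)

theorem rep_of {o : Opt} {X : ℕ} (he : 0 < o.e) (hX : 0 < o.X)
    (hlo : o.lo * (o.e * o.X) = 12960000 * (o.X - 1))
    (hhi : if o.ex then o.hi = o.lo else o.hi * o.e = 12960000)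
    (hle : if o.ex then X = o.X else o.X ≤ X) :
    Rep o X (12960000 * ((X : ℚ) - 1) / ((o.e : ℚ) * X)) := by
  have e1 : (o.lo : ℚ) * (o.e * o.X) = 12960000 * ((o.X : ℚ) - 1) := by
    have h := congrArg (Nat.cast : ℕ → ℚ) hlo
    push_cast [Nat.cast_sub hX] at h
    exact h
  have heq : (o.e : ℚ) ≠ 0 := by exact_mod_cast he.ne'
  have hX0 : (0 : ℚ) < o.X := by exact_mod_cast hX
  cases hb : o.ex
  · simp only [hb, Bool.false_eq_true, if_false] at hhi hle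
    have hXX : (o.X : ℚ) ≤ X := by exact_mod_cast hle
    have e2 : (o.hi : ℚ) * o.e = 12960000 := by exact_mod_cast hhi
    have ey : 12960000 * ((X : ℚ) - 1) / ((o.e : ℚ) * X) = o.hi - 12960000 / ((o.e : ℚ) * X) := by
      have : (X : ℚ) ≠ 0 := (lt_of_lt_of_le hX0 hXX).ne'
      field_simp
      linear_combination (-(X : ℚ)) * e2
    have hpos : (0 : ℚ) < (o.e : ℚ) * o.X := mul_pos (by exact_mod_cast he) hX0
    have hanti : (12960000 : ℚ) / ((o.e : ℚ) * X) ≤ 12960000 / ((o.e : ℚ) * o.X) :=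
      div_le_div_of_nonneg_left (by norm_num) hpos (mul_le_mul_of_nonneg_left hXX (by positivity))
    refine ⟨?_, hle, ?_, fun e => by rw [hb] at e; exact absurd e (by decide), fun _ => ⟨he, ey⟩⟩
    · rw [ey]
      have : (o.lo : ℚ) = o.hi - 12960000 / ((o.e : ℚ) * o.X) := by
        field_simp
        linear_combination e1 - (o.X : ℚ) * e2
      linarith
    · rw [ey]
      have : (0 : ℚ) ≤ 12960000 / ((o.e : ℚ) * X) := by positivity
      linarith
  · simp only [hb, if_true] at hhi hle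
    subst hle
    have ey : 12960000 * ((o.X : ℚ) - 1) / ((o.e : ℚ) * o.X) = o.lo := by
      rw [← e1, mul_div_assoc, div_self (mul_ne_zero heq hX0.ne'), mul_one]
    refine ⟨ey.ge, le_rfl, ?_, fun _ => ⟨rfl, ey⟩, fun e => by rw [hb] at e; exact absurd e (by decide)⟩
    rw [ey, hhi]

theorem exists_rep {p : ℕ} (hp : 1 < p) (l : List Opt) (es : List ℕ)
    (hl : ∀ o ∈ l, o.e ∈ es → 0 < o.e ∧ 0 < o.X ∧ o.lo * (o.e * o.X) = 12960000 * (o.X - 1) ∧
      if o.ex then o.hi = o.lo else o.hi * o.e = 12960000)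
    (hsmall : ∀ e ∈ es, ∀ k < 9, 1 ≤ k → (p ^ k - 1) % e = 0 →
      ∃ o ∈ l, o.e = e ∧ if o.ex then p ^ k = o.X else o.X ≤ p ^ k)
    (hbig : ∀ e ∈ es, ∃ o ∈ l, o.e = e ∧ o.ex = false ∧ o.X ≤ p ^ 9)
    {e k : ℕ} (he : e ∈ es) (hk : 1 ≤ k) (hd : e ∣ p ^ k - 1) :
    ∃ o ∈ l, Rep o (p ^ k) (12960000 * (((p ^ k : ℕ) : ℚ) - 1) / ((e : ℚ) * (p ^ k : ℕ))) := by
  obtain ⟨o, ho, hoe, hX⟩ : ∃ o ∈ l, o.e = e ∧ if o.ex then p ^ k = o.X else o.X ≤ p ^ k := by
    by_cases h9 : k < 9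
    · exact hsmall e he k h9 hk (Nat.mod_eq_zero_of_dvd hd)
    · obtain ⟨o, ho, hoe, hex, hX⟩ := hbig e he
      refine ⟨o, ho, hoe, ?_⟩
      simp only [hex, Bool.false_eq_true, if_false]
      exact hX.trans (Nat.pow_le_pow_right (by omega) (by omega))
  obtain ⟨h1, h2, h3, h4⟩ := hl o ho (hoe ▸ he)
  exact ⟨o, ho, hoe ▸ rep_of h1 h2 h3 h4 hX⟩

theorem rep_two {e k : ℕ} (he : e ∈ [1, 3, 5]) (hk : 1 ≤ k) (hd : e ∣ 2 ^ k - 1) :
    ∃ o ∈ opts2, Rep o (2 ^ k) (12960000 * (((2 ^ k : ℕ) : ℚ) - 1) / ((e : ℚ) * (2 ^ k : ℕ))) :=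
  exists_rep (by norm_num) opts2 [1, 3, 5] (by decide +kernel) (by decide +kernel) (by decide +kernel) he hk hd

theorem rep_three {e k : ℕ} (he : e ∈ [1, 2, 4, 8, 5]) (hk : 1 ≤ k) (hd : e ∣ 3 ^ k - 1) :
    ∃ o ∈ opts3, Rep o (3 ^ k) (12960000 * (((3 ^ k : ℕ) : ℚ) - 1) / ((e : ℚ) * (3 ^ k : ℕ))) :=
  exists_rep (by norm_num) opts3 [1, 2, 4, 8, 5] (by decide +kernel) (by decide +kernel) (by decide +kernel) he hk hd

theorem rep_five {e k : ℕ} (he : e ∈ [1, 2, 4, 8, 3]) (hk : 1 ≤ k) (hd : e ∣ 5 ^ k - 1) :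
    ∃ o ∈ opts5, Rep o (5 ^ k) (12960000 * (((5 ^ k : ℕ) : ℚ) - 1) / ((e : ℚ) * (5 ^ k : ℕ))) :=
  exists_rep (by norm_num) opts5 [1, 2, 4, 8, 3] (by decide +kernel) (by decide +kernel) (by decide +kernel) he hk hd

/-- The solutions of the class equation. -/
theorem solve {a b c : Opt} (ha : a ∈ opts2) (hb : b ∈ opts3) (hc : c ∈ opts5) {S A B : ℕ} {y z w : ℚ}
    (r1 : Rep a S y) (r2 : Rep b A z) (r3 : Rep c B w)
    (heq : 12960000 / ((S * A * B : ℕ) : ℚ) + y + z + w = 12960000) :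
    S * A * B = 60 ∨ S * A * B = 360 := by
  rcases table a ha b hb c hc with hg | ⟨⟨x1, x2, x3⟩, hN⟩
  swap
  · rw [(r1.exact_ x1).1, (r2.exact_ x2).1, (r3.exact_ x3).1]; exact hN
  exfalso
  have hpos : ∀ o ∈ opts2 ++ opts3 ++ opts5, 0 < o.X := by decide +kernel
  have pa : 0 < a.X := hpos a (by simp [ha])
  have pb : 0 < b.X := hpos b (by simp [hb])
  have pc : 0 < c.X := hpos c (by simp [hc])
  have ha0 : (0 : ℚ) < a.X := by exact_mod_cast pa
  have hb0 : (0 : ℚ) < b.X := by exact_mod_cast pb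
  have hc0 : (0 : ℚ) < c.X := by exact_mod_cast pc
  have la : (a.X : ℚ) ≤ S := by exact_mod_cast r1.le
  have lb : (b.X : ℚ) ≤ A := by exact_mod_cast r2.le
  have lc : (c.X : ℚ) ≤ B := by exact_mod_cast r3.le
  push_cast at heq
  have hS : (0 : ℚ) < S := ha0.trans_le la
  have hA : (0 : ℚ) < A := hb0.trans_le lb
  have hB : (0 : ℚ) < B := hc0.trans_le lc
  have hpos' : (0 : ℚ) < 12960000 / ((S : ℚ) * A * B) := by positivity
  have hmono : 12960000 / ((S : ℚ) * A * B) ≤ 12960000 / ((a.X : ℚ) * b.X * c.X) := by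
    refine div_le_div_of_nonneg_left (by norm_num) (by positivity) ?_
    exact mul_le_mul (mul_le_mul la lb hb0.le hS.le) lc hc0.le (by positivity)
  unfold good at hg
  split_ifs at hg with hex
  · simp only [Bool.and_eq_true] at hex
    obtain ⟨e1, e1'⟩ := r1.exact_ hex.1.1
    obtain ⟨e2, e2'⟩ := r2.exact_ hex.1.2
    obtain ⟨e3, e3'⟩ := r3.exact_ hex.2
    apply of_decide_eq_true hg
    rw [e1, e2, e3, e1', e2', e3'] at heq
    field_simp at heq
    have : ((a.lo : ℚ) + b.lo + c.lo) * (a.X * b.X * c.X) + 12960000 = 12960000 * (a.X * b.X * c.X) := by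
      linear_combination heq
    exact_mod_cast this
  · simp only [Bool.or_eq_true, Bool.and_eq_true, decide_eq_true_eq, Bool.not_eq_true'] at hg
    rcases hg with (hg | hg) | ⟨hsum, hg⟩
    · have : (12960000 : ℚ) ≤ (a.lo : ℚ) + b.lo + c.lo := by exact_mod_cast hg
      linarith [r1.lo, r2.lo, r3.lo]
    · have : ((a.hi : ℚ) + b.hi + c.hi) * (a.X * b.X * c.X) + 12960000 < 12960000 * (a.X * b.X * c.X) := by
        exact_mod_cast hg
      have hP : (0 : ℚ) < (a.X : ℚ) * b.X * c.X := by positivity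
      have h2 : (12960000 : ℚ) / (a.X * b.X * c.X) * (a.X * b.X * c.X) = 12960000 := by field_simp
      nlinarith [r1.hi, r2.hi, r3.hi]
    · have hs : (a.hi : ℚ) + b.hi + c.hi ≤ 12960000 := by exact_mod_cast hsum
      have key : ∀ (e X0 Y0 : ℕ) (X Y Z : ℚ), 0 < e → e < X0 * Y0 → (X0 : ℚ) ≤ X → (Y0 : ℚ) ≤ Y → 0 < Z →
          12960000 / (X * Y * Z) < 12960000 / ((e : ℚ) * Z) := by
        intro e X0 Y0 X Y Z he hlt hx hy hz
        have he' : (0 : ℚ) < e := by exact_mod_cast he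
        have h1 : (e : ℚ) < X0 * Y0 := by exact_mod_cast hlt
        refine div_lt_div_of_pos_left (by norm_num) (mul_pos he' hz) ?_
        refine mul_lt_mul_of_pos_right (lt_of_lt_of_le h1 ?_) hz
        exact mul_le_mul hx hy (by positivity) (le_trans (by positivity) hx)
      rcases hg with (⟨hx, hlt⟩ | ⟨hx, hlt⟩) | ⟨hx, hlt⟩
      · obtain ⟨he, e1⟩ := r1.tail hx
        have := key a.e b.X c.X A B S he hlt lb lc hS
        rw [show (A : ℚ) * B * S = S * A * B by ring] at this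
        linarith [r2.hi, r3.hi]
      · obtain ⟨he, e1⟩ := r2.tail hx
        have := key b.e a.X c.X S B A he hlt la lc hA
        rw [show (S : ℚ) * B * A = S * A * B by ring] at this
        linarith [r1.hi, r3.hi]
      · obtain ⟨he, e1⟩ := r3.tail hx
        have := key c.e a.X b.X S A B he hlt la lb hB
        linarith [r1.hi, r2.hi]

end Cfsg.Agent.FiveOrders
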