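import Cfsg.Agent.Lib.FiveOrders.Conj

/-!
# A maximal 2-local subgroup in a simple group with element orders at most five

`D` is elementary abelian, `W` elementary abelian normalizing it, all nontrivial elements of `W`
have the same fixed points `C` on `D`, with `|D| = |C|²`, and `D ⊔ W` is maximal among the
2-subgroups of the normalizer of `D`.
-/

set_option autoImplicit false
set_option linter.all false

namespace Cfsg.Agent.FiveOrders

universe u

structure Loc {G : Type u} [Group G] (D W C : Subgroup G) : Prop where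
  hD : ∀ d ∈ D, d * d = 1
  hW : ∀ w ∈ W, w * w = 1
  hWD : W ≤ Subgroup.normalizer (D : Set G)
  disj : ∀ x ∈ D, x ∈ W → x = 1
  hC : C ≤ D
  hCW : ∀ c ∈ C, ∀ w ∈ W, Commute w c
  hfix : ∀ w ∈ W, w ≠ 1 → ∀ d ∈ D, Commute w d → d ∈ C
  card_D : Nat.card D = Nat.card C * Nat.card C
  card_W : Nat.card W ≤ Nat.card C
  W_ne : W ≠ ⊥
  hmax : ∀ X : Subgroup G, IsPGroup 2 X → D ⊔ W ≤ X → X ≤ Subgroup.normalizer (D : Set G) → X ≤ D ⊔ W

variable {G : Type u} [Group G]

theorem inv_of_sq {a : G} (ha : a * a = 1) : a⁻¹ = a := inv_eq_of_mul_eq_one_right ha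

theorem commute_of_sq {E : Subgroup G} (hE : ∀ x ∈ E, x * x = 1) {a b : G} (ha : a ∈ E) (hb : b ∈ E) :
    Commute a b := by
  show a * b = b * a
  rw [← inv_of_sq (hE _ (mul_mem ha hb)), mul_inv_rev, inv_of_sq (hE a ha), inv_of_sq (hE b hb)]

theorem conj_sq {g x : G} (hx : x * x = 1) : g * x * g⁻¹ * (g * x * g⁻¹) = 1 := by
  rw [show g * x * g⁻¹ * (g * x * g⁻¹) = g * (x * x) * g⁻¹ by group, hx, mul_one, mul_inv_cancel]

theorem conjS_sq {g : G} {E : Subgroup G} (hE : ∀ x ∈ E, x * x = 1) {x : G} (hx : x ∈ conjS g E) :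
    x * x = 1 := by
  obtain ⟨y, hy, rfl⟩ := hx
  exact conj_sq (hE y hy)

namespace Loc

variable [Finite G] {D W C : Subgroup G}

theorem mem_U (L : Loc D W C) {x : G} : x ∈ D ⊔ W ↔ ∃ d ∈ D, ∃ w ∈ W, x = d * w := by
  constructor
  · intro hx
    rw [← SetLike.mem_coe, Subgroup.coe_mul_of_right_le_normalizer_left D W L.hWD] at hx
    obtain ⟨d, hd, w, hw, rfl⟩ := hx
    exact ⟨d, hd, w, hw, rfl⟩
  · rintro ⟨d, hd, w, hw, rfl⟩
    exact mul_mem (Subgroup.mem_sup_left hd) (Subgroup.mem_sup_right hw)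

theorem W_le_normalizer_C (L : Loc D W C) : W ≤ Subgroup.normalizer (C : Set G) := fun w hw =>
  mem_normalizer_of_conj fun c hc => by rw [(L.hCW c hc w hw).eq, mul_inv_cancel_right]; exact hc

theorem mem_D' (L : Loc D W C) {x : G} : x ∈ C ⊔ W ↔ ∃ c ∈ C, ∃ w ∈ W, x = c * w := by
  constructor
  · intro hx
    rw [← SetLike.mem_coe, Subgroup.coe_mul_of_right_le_normalizer_left C W L.W_le_normalizer_C] at hx
    obtain ⟨d, hd, w, hw, rfl⟩ := hx
    exact ⟨d, hd, w, hw, rfl⟩
  · rintro ⟨d, hd, w, hw, rfl⟩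
    exact mul_mem (Subgroup.mem_sup_left hd) (Subgroup.mem_sup_right hw)

theorem D'_le (L : Loc D W C) : C ⊔ W ≤ D ⊔ W := sup_le_sup_right L.hC W

theorem D'_sq (L : Loc D W C) {x : G} (hx : x ∈ C ⊔ W) : x * x = 1 := by
  obtain ⟨c, hc, w, hw, rfl⟩ := L.mem_D'.1 hx
  rw [show c * w * (c * w) = c * (w * c) * w by group, (L.hCW c hc w hw).eq,
    show c * (c * w) * w = (c * c) * (w * w) by group, L.hD c (L.hC hc), L.hW w hw, one_mul]

theorem mem_C_of_both (L : Loc D W C) {x : G} (hD : x ∈ D) (hD' : x ∈ C ⊔ W) : x ∈ C := by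
  obtain ⟨c, hc, w, hw, rfl⟩ := L.mem_D'.1 hD'
  have : w = 1 := L.disj w ((mul_mem_cancel_left (L.hC hc)).1 hD) hw
  rwa [this, mul_one]

/-- The square of `d * w` lies in `C`, and is trivial only for `w = 1` or `d ∈ C`. -/
theorem sq (L : Loc D W C) {d w : G} (hd : d ∈ D) (hw : w ∈ W) :
    d * w * (d * w) ∈ C ∧ (d * w * (d * w) = 1 → w = 1 ∨ d ∈ C) := by
  by_cases hw1 : w = 1
  · refine ⟨?_, fun _ => Or.inl hw1⟩
    rw [hw1, mul_one, L.hD d hd]
    exact one_mem C
  have hm : w * d * w ∈ D := by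
    have := (Subgroup.mem_normalizer_iff.1 (L.hWD hw) d).1 hd
    rwa [inv_of_sq (L.hW w hw)] at this
  have e : d * w * (d * w) = d * (w * d * w) := by group
  have hc : Commute w (d * (w * d * w)) := by
    show w * (d * (w * d * w)) = d * (w * d * w) * w
    calc w * (d * (w * d * w)) = (w * d * w) * d * w := by group
      _ = d * (w * d * w) * w := by rw [(commute_of_sq L.hD hm hd).eq]
  rw [e]
  refine ⟨L.hfix w hw hw1 _ (mul_mem hd hm) hc, fun h1 => Or.inr (L.hfix w hw hw1 d hd ?_)⟩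
  show w * d = d * w
  rw [mul_eq_one_iff_inv_eq, inv_of_sq (L.hD d hd)] at h1
  calc w * d = w * d * (w * w) := by rw [L.hW w hw, mul_one]
    _ = d * w := by rw [show w * d * (w * w) = w * d * w * w by group, ← h1]

theorem sq_mem (L : Loc D W C) {x : G} (hx : x ∈ D ⊔ W) : x * x ∈ C := by
  obtain ⟨d, hd, w, hw, rfl⟩ := L.mem_U.1 hx
  exact (L.sq hd hw).1

theorem pow_four (L : Loc D W C) {x : G} (hx : x ∈ D ⊔ W) : x * x * (x * x) = 1 :=
  L.hD _ (L.hC (L.sq_mem hx))

theorem isPGroup (L : Loc D W C) : IsPGroup 2 (D ⊔ W : Subgroup G) := fun x =>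
  ⟨2, Subtype.ext (by
    show (x : G) ^ (2 ^ 2) = 1
    rw [show (2 : ℕ) ^ 2 = 2 * 2 from rfl, pow_mul, pow_two, pow_two]
    exact L.pow_four x.2)⟩

theorem mem_or (L : Loc D W C) {x : G} (hx : x ∈ D ⊔ W) (h1 : x * x = 1) : x ∈ D ∨ x ∈ C ⊔ W := by
  obtain ⟨d, hd, w, hw, rfl⟩ := L.mem_U.1 hx
  rcases (L.sq hd hw).2 h1 with rfl | hc
  · exact Or.inl (by rwa [mul_one])
  · exact Or.inr (L.mem_D'.2 ⟨d, hc, w, hw, rfl⟩)

/-- An element outside `D` has its fixed points on `D` inside `C`. -/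
theorem mem_C_of_commute (L : Loc D W C) {v x : G} (hv : v ∈ D) (hx : x ∈ D ⊔ W) (hxD : x ∉ D)
    (hc : Commute v x) : v ∈ C := by
  obtain ⟨d, hd, w, hw, rfl⟩ := L.mem_U.1 hx
  have hw1 : w ≠ 1 := fun e => hxD (by rw [e, mul_one]; exact hd)
  refine L.hfix w hw hw1 v hv ?_
  have h1 : d * (v * w) = d * (w * v) := by
    rw [← mul_assoc, (commute_of_sq L.hD hd hv).eq, mul_assoc, hc.eq, mul_assoc]
  exact (mul_left_cancel h1).symm

/-- An elementary abelian subgroup of `D ⊔ W` lies in `D` or in `C ⊔ W`. -/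
theorem elem_le (L : Loc D W C) {E : Subgroup G} (hE : E ≤ D ⊔ W) (hsq : ∀ x ∈ E, x * x = 1) :
    E ≤ D ∨ E ≤ C ⊔ W := by
  by_cases h1 : E ≤ D
  · exact Or.inl h1
  obtain ⟨y, hy, hyD⟩ := SetLike.not_le_iff_exists.1 h1
  refine Or.inr fun x hx => ?_
  rcases L.mem_or (hE hx) (hsq x hx) with h | h
  · exact Subgroup.mem_sup_left (L.mem_C_of_commute h (hE hy) hyD (commute_of_sq hsq hx hy))
  · exact h

theorem card_U (L : Loc D W C) : Nat.card (D ⊔ W : Subgroup G) = Nat.card D * Nat.card W := by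
  rw [← Nat.card_prod]
  refine (Nat.card_congr (Equiv.ofBijective
    (fun p : D × W => (⟨p.1 * p.2, L.mem_U.2 ⟨p.1, p.1.2, p.2, p.2.2, rfl⟩⟩ : (D ⊔ W : Subgroup G))) ⟨?_, ?_⟩)).symm
  · rintro ⟨a, b⟩ ⟨a', b'⟩ e
    have e' : (a : G) * b = a' * b' := congrArg Subtype.val e
    have e2 : (a' : G)⁻¹ * a = b' * (b : G)⁻¹ := by
      rw [eq_mul_inv_iff_mul_eq, mul_assoc, e', inv_mul_cancel_left]
    have h1 := L.disj _ (D.mul_mem (D.inv_mem a'.2) a.2) (e2 ▸ W.mul_mem b'.2 (W.inv_mem b.2))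
    have ha : (a' : G) = a := inv_mul_eq_one.1 h1
    rw [ha] at e'
    exact Prod.ext (Subtype.ext ha.symm) (Subtype.ext (mul_left_cancel e'))
  · rintro ⟨x, hx⟩
    obtain ⟨d, hd, w, hw, rfl⟩ := L.mem_U.1 hx
    exact ⟨(⟨d, hd⟩, ⟨w, hw⟩), rfl⟩

theorem card_D' (L : Loc D W C) : Nat.card (C ⊔ W : Subgroup G) = Nat.card C * Nat.card W := by
  rw [← Nat.card_prod]
  refine (Nat.card_congr (Equiv.ofBijective
    (fun p : C × W => (⟨p.1 * p.2, L.mem_D'.2 ⟨p.1, p.1.2, p.2, p.2.2, rfl⟩⟩ : (C ⊔ W : Subgroup G))) ⟨?_, ?_⟩)).symm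
  · rintro ⟨a, b⟩ ⟨a', b'⟩ e
    have e' : (a : G) * b = a' * b' := congrArg Subtype.val e
    have e2 : (a' : G)⁻¹ * a = b' * (b : G)⁻¹ := by
      rw [eq_mul_inv_iff_mul_eq, mul_assoc, e', inv_mul_cancel_left]
    have h1 := L.disj _ (D.mul_mem (D.inv_mem (L.hC a'.2)) (L.hC a.2)) (e2 ▸ W.mul_mem b'.2 (W.inv_mem b.2))
    have ha : (a' : G) = a := inv_mul_eq_one.1 h1
    rw [ha] at e'
    exact Prod.ext (Subtype.ext ha.symm) (Subtype.ext (mul_left_cancel e'))
  · rintro ⟨x, hx⟩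
    obtain ⟨d, hd, w, hw, rfl⟩ := L.mem_D'.1 hx
    exact ⟨(⟨d, hd⟩, ⟨w, hw⟩), rfl⟩

theorem card_D'_le (L : Loc D W C) : Nat.card (C ⊔ W : Subgroup G) ≤ Nat.card D := by
  rw [L.card_D', L.card_D]
  exact Nat.mul_le_mul_left _ L.card_W

/-- A conjugate of `D` inside `D ⊔ W` is `D` or `C ⊔ W`; the latter only for `|W| = |C|`. -/
theorem conj_D_cases (L : Loc D W C) {g : G} (h : conjS g D ≤ D ⊔ W) :
    conjS g D = D ∨ (conjS g D = C ⊔ W ∧ Nat.card W = Nat.card C) := by
  rcases L.elem_le h fun x hx => conjS_sq L.hD hx with h1 | h1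
  · exact Or.inl (Subgroup.eq_of_le_of_card_ge h1 (card_conjS g D).ge)
  · right
    have h2 := Subgroup.card_le_of_le h1
    rw [card_conjS] at h2
    refine ⟨Subgroup.eq_of_le_of_card_ge h1 (by rw [card_conjS]; exact L.card_D'_le), ?_⟩
    rw [L.card_D', L.card_D] at h2
    exact le_antisymm L.card_W (Nat.le_of_mul_le_mul_left h2 Nat.card_pos)

theorem D_ne_D' (L : Loc D W C) : D ≠ C ⊔ W := fun e => L.W_ne ((Subgroup.eq_bot_iff_forall W).2
  fun w hw => L.disj w (e ▸ Subgroup.mem_sup_right hw) hw)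

/-- An element normalizing `D ⊔ W` normalizes `D` or interchanges `D` and `C ⊔ W`. -/
theorem normU (L : Loc D W C) {x : G} (hx : x ∈ Subgroup.normalizer ((D ⊔ W : Subgroup G) : Set G)) :
    x ∈ Subgroup.normalizer (D : Set G) ∨ (conjS x D = C ⊔ W ∧ conjS x (C ⊔ W) = D) := by
  have hU := conjS_eq_iff_mem_normalizer.2 hx
  rcases L.conj_D_cases (g := x) ((conjS_mono x le_sup_left).trans hU.le) with h | ⟨h, -⟩
  · exact Or.inl (conjS_eq_iff_mem_normalizer.1 h)
  · refine Or.inr ⟨h, ?_⟩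
    have hc : Nat.card (conjS x (C ⊔ W)) = Nat.card D := by
      rw [card_conjS, ← h, card_conjS]
    rcases L.elem_le ((conjS_mono x L.D'_le).trans hU.le) fun y hy => conjS_sq (fun z hz => L.D'_sq hz) hy with h1 | h1
    · exact Subgroup.eq_of_le_of_card_ge h1 hc.ge
    · exfalso
      have heq : conjS x (C ⊔ W) = conjS x D := by
        rw [h]; exact Subgroup.eq_of_le_of_card_ge h1 (card_conjS x _).ge
      apply L.D_ne_D'
      have := congrArg (conjS x⁻¹) heq
      rw [conjS_conjS, conjS_conjS, inv_mul_cancel, conjS_one, conjS_one] at this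
      exact this.symm

/-- No element with square in `D ⊔ W` interchanges `D` and `C ⊔ W`. -/
theorem swap_false (L : Loc D W C) (h : Ord5 G) {x : G} (hxx : x * x ∈ D ⊔ W)
    (hxD : conjS x D = C ⊔ W) (hxD' : conjS x (C ⊔ W) = D) : False := by
  have hfix : x * (x * x) * x⁻¹ = x * x := by group
  have h8 : x ^ 8 = 1 := by
    calc x ^ 8 = x * x * (x * x) * (x * x * (x * x)) := by simp only [pow_succ, pow_zero, one_mul, mul_assoc]
      _ = 1 := by simp [L.pow_four hxx]
  have h4 : x * x * (x * x) = 1 := by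
    obtain ⟨k, -, hk⟩ := (Nat.dvd_prime_pow Nat.prime_two).1 (orderOf_dvd_of_pow_eq_one (show x ^ (2 ^ 3) = 1 from h8))
    rw [← h.pow_four hk]
    simp only [pow_succ, pow_zero, one_mul, mul_assoc]
  have hC : x * x ∈ C := by
    rcases L.mem_or hxx h4 with h1 | h1
    · refine L.mem_C_of_both h1 ?_
      rw [← hxD, ← hfix]
      exact ⟨_, h1, rfl⟩
    · refine L.mem_C_of_both ?_ h1
      rw [← hxD', ← hfix]
      exact ⟨_, h1, rfl⟩
  obtain ⟨w, hw, hw1⟩ := (Subgroup.bot_or_exists_ne_one W).resolve_left L.W_ne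
  have hv : x⁻¹ * w * x ∈ D := mem_conjS.1 (by rw [hxD]; exact Subgroup.mem_sup_right hw)
  have hvC : x⁻¹ * w * x ∉ C := by
    intro hc
    refine hw1 (L.disj w ?_ hw)
    rw [← hxD']
    exact mem_conjS.2 (Subgroup.mem_sup_left hc)
  have hd : x * x * (x⁻¹ * w * x) ∈ D := mul_mem (L.hC hC) hv
  have hdC : x * x * (x⁻¹ * w * x) ∉ C := fun hc => hvC ((mul_mem_cancel_left hC).1 hc)
  set d := x * x * (x⁻¹ * w * x) with hddef
  have e : x * w * (x * w) = d * w := by rw [hddef]; group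
  have hne : d * w * (d * w) ≠ 1 := fun h1 => ((L.sq hd hw).2 h1).elim hw1 hdC
  have h16 : (x * w) ^ 8 = 1 := by
    calc (x * w) ^ 8 = (x * w * (x * w)) * (x * w * (x * w)) * ((x * w * (x * w)) * (x * w * (x * w))) := by
          simp only [pow_succ, pow_zero, one_mul, mul_assoc]
      _ = 1 := by rw [e, L.hD _ (L.hC (L.sq hd hw).1)]
  obtain ⟨k, -, hk⟩ := (Nat.dvd_prime_pow Nat.prime_two).1
    (orderOf_dvd_of_pow_eq_one (show (x * w) ^ (2 ^ 3) = 1 from h16))
  apply hne
  rw [← e, ← h.pow_four hk]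
  simp only [pow_succ, pow_zero, one_mul, mul_assoc]

/-- `D ⊔ W` is a Sylow 2-subgroup. -/
theorem maximal (L : Loc D W C) (h : Ord5 G) (X : Subgroup G) (hX : IsPGroup 2 X) (hUX : D ⊔ W ≤ X) :
    X ≤ D ⊔ W := by
  haveI : Fact (Nat.Prime 2) := ⟨Nat.prime_two⟩
  by_contra hlt
  haveI := hX.isNilpotent
  set U' := (D ⊔ W).subgroupOf X with hU'
  have hne : U' < Subgroup.normalizer (U' : Set X) :=
    Group.normalizerCondition_of_isNilpotent U' (lt_top_iff_ne_top.2 fun e => hlt (Subgroup.subgroupOf_eq_top.1 e))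
  obtain ⟨y, hyn, hyU⟩ := SetLike.exists_of_lt hne
  have hyU' : (y : G) ∉ D ⊔ W := fun hy => hyU (Subgroup.mem_subgroupOf.2 hy)
  have hn : (y : G) ∈ Subgroup.normalizer ((D ⊔ W : Subgroup G) : Set G) := by
    refine mem_normalizer_of_conj fun u hu => ?_
    have := (Subgroup.mem_normalizer_iff.1 hyn ⟨u, hUX hu⟩).1 (Subgroup.mem_subgroupOf.2 hu)
    exact Subgroup.mem_subgroupOf.1 this
  obtain ⟨x, hxX, hxn, hxU, hxx⟩ : ∃ x ∈ X, x ∈ Subgroup.normalizer ((D ⊔ W : Subgroup G) : Set G) ∧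
      x ∉ D ⊔ W ∧ x * x ∈ D ⊔ W := by
    have h4 := h.two_pow_four hX y.2
    by_cases hyy : (y : G) * y ∈ D ⊔ W
    · exact ⟨y, y.2, hn, hyU', hyy⟩
    · refine ⟨y * y, mul_mem y.2 y.2, mul_mem hn hn, hyy, ?_⟩
      rw [show (y : G) * y * (y * y) = (y : G) ^ 4 by simp only [pow_succ, pow_zero, one_mul, mul_assoc], h4]
      exact one_mem _
  rcases L.normU hxn with hxD | ⟨h1, h2⟩
  · apply hxU
    refine L.hmax ((D ⊔ W) ⊔ Subgroup.zpowers x) (hX.to_le (sup_le hUX (Subgroup.zpowers_le.2 hxX))) le_sup_left ?_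
      (Subgroup.mem_sup_right (Subgroup.mem_zpowers x))
    exact sup_le (sup_le Subgroup.le_normalizer L.hWD) (Subgroup.zpowers_le.2 hxD)
  · exact L.swap_false h hxx h1 h2

theorem normalizer_le (L : Loc D W C) (h : Ord5 G) :
    Subgroup.normalizer ((D ⊔ W : Subgroup G) : Set G) ≤ Subgroup.normalizer (D : Set G) := by
  haveI : Fact (Nat.Prime 2) := ⟨Nat.prime_two⟩
  intro x hx
  rcases L.normU hx with hxD | ⟨h1, h2⟩
  · exact hxD
  have hstep : ∀ n : ℕ, conjS (x ^ n) D = if Even n then D else C ⊔ W := by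
    intro n
    induction n with
    | zero => simp [conjS_one]
    | succ n ih =>
      rw [pow_succ', ← conjS_conjS, ih]
      by_cases he : Even n
      · rw [if_pos he, if_neg (by simp [Nat.even_add_one, he]), h1]
      · rw [if_neg he, if_pos (by simp [Nat.even_add_one, he]), h2]
  have hodd : ∀ n, x ^ n = 1 → Even n := fun n hn => by
    by_contra he
    apply L.D_ne_D'
    have := hstep n
    rwa [hn, conjS_one, if_neg he] at this
  have he := hodd _ (pow_orderOf_eq_one x)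
  have hx1 : x ≠ 1 := by
    rintro rfl
    rw [orderOf_one] at he
    exact absurd he (by decide)
  have hx4 : x ^ 4 = 1 := by
    rcases h.cases hx1 with e | e | e | e
    · exact h.pow_four (k := 1) (by rw [e]; rfl)
    · rw [e] at he; exact absurd he (by decide)
    · exact h.pow_four (k := 2) (by rw [e]; rfl)
    · rw [e] at he; exact absurd he (by decide)
  have hz : IsPGroup 2 (Subgroup.zpowers x) := by
    intro z
    refine ⟨2, Subtype.ext ?_⟩
    obtain ⟨m, hm⟩ := Subgroup.mem_zpowers_iff.1 z.2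
    show (z : G) ^ (2 ^ 2) = 1
    rw [← hm, ← zpow_natCast, ← zpow_mul, mul_comm, zpow_mul, zpow_natCast]
    norm_num [hx4]
  have hX := hz.to_sup_of_normal_right' L.isPGroup (Subgroup.zpowers_le.2 hx)
  have hxU := L.maximal h _ hX le_sup_right (Subgroup.mem_sup_left (Subgroup.mem_zpowers x))
  exact (sup_le Subgroup.le_normalizer L.hWD) hxU

theorem exists_conj_U (L : Loc D W C) (h : Ord5 G) {X : Subgroup G} (hX : IsPGroup 2 X) :
    ∃ g : G, X ≤ conjS g (D ⊔ W) := by
  haveI : Fact (Nat.Prime 2) := ⟨Nat.prime_two⟩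
  exact exists_conj_le L.isPGroup (L.maximal h) hX

/-- An involution not conjugate into `D` normalizes `D`. -/
theorem key (L : Loc D W C) (h : Ord5 G) {t : G} (ht : t * t = 1) (ht1 : t ≠ 1)
    (hno : ∀ g : G, t ∉ conjS g D) : t ∈ Subgroup.normalizer (D : Set G) := by
  haveI : Fact (Nat.Prime 2) := ⟨Nat.prime_two⟩
  refine mem_normalizer_of_conj fun d hd => ?_
  rcases eq_or_ne d 1 with rfl | hd1
  · simp
  -- it suffices to normalize `D`; split on the order of `d * t`
  suffices hN : t ∈ Subgroup.normalizer (D : Set G) from (Subgroup.mem_normalizer_iff.1 hN d).1 hd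
  have hdd := L.hD d hd
  have hti : t⁻¹ = t := inv_of_sq ht
  have hdi : d⁻¹ = d := inv_of_sq hdd
  have hdC : D ≤ Subgroup.centralizer ({d} : Set G) := fun a ha => Subgroup.mem_centralizer_iff.2 fun b hb => by
    rw [Set.mem_singleton_iff.1 hb]; exact (commute_of_sq L.hD hd ha).eq
  have hCd := h.centralizer_two hdd hd1
  have hconj : (t * d) * t * (t * d)⁻¹ = t * d * (t * (d * t)) := by rw [mul_inv_rev, hti, hdi]; group
  rcases eq_or_ne (d * t) 1 with e | hne
  · exfalso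
    apply hno 1
    rw [conjS_one]
    have : t = d := by rw [mul_eq_one_iff_inv_eq, hdi] at e; exact e.symm
    rw [this]; exact hd
  have hpow : ∀ n, (d * t) ^ n = 1 → orderOf (d * t) ∣ n := fun n hn => orderOf_dvd_of_pow_eq_one hn
  rcases h.cases hne with e | e | e | e
  · -- `t` commutes with `d`
    have e2 : d * t * (d * t) = 1 := by rw [← pow_two, ← e]; exact pow_orderOf_eq_one _
    have hc : d * t = t * d := by
      rw [← inv_of_sq e2, mul_inv_rev, hti, hdi]
    have htC : t ∈ Subgroup.centralizer ({d} : Set G) := Subgroup.mem_centralizer_iff.2 fun b hb => by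
      rw [Set.mem_singleton_iff.1 hb]; exact hc
    obtain ⟨k, hk⟩ := L.exists_conj_U h hCd
    have hDk : conjS k⁻¹ D ≤ D ⊔ W := le_conjS_iff.1 (hdC.trans hk)
    have htk := mem_conjS.1 (hk htC)
    rcases L.conj_D_cases hDk with hD1 | ⟨hD1, -⟩
    · have hkN : k⁻¹ ∈ Subgroup.normalizer (D : Set G) := conjS_eq_iff_mem_normalizer.1 hD1
      have := sup_le Subgroup.le_normalizer L.hWD htk
      have h2 := mul_mem (mul_mem (inv_mem hkN) this) hkN
      simpa [mul_assoc] using h2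
    · exfalso
      rcases L.mem_or htk (by rw [show k⁻¹ * t * k * (k⁻¹ * t * k) = k⁻¹ * (t * t) * k by group, ht, mul_one, inv_mul_cancel]) with h1 | h1
      · exact hno k (mem_conjS.2 h1)
      · rw [← hD1] at h1
        refine hno 1 ?_
        rw [conjS_one]
        have := mem_conjS.1 h1
        simpa [mul_assoc] using this
  · exfalso
    have e3 : d * t * (d * t * (d * t)) = 1 := by
      rw [← mul_assoc, ← pow_two, ← pow_succ, show 2 + 1 = orderOf (d * t) from e.symm, pow_orderOf_eq_one]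
    refine hno (d * t) (mem_conjS.2 ?_)
    have : (d * t)⁻¹ * t * (d * t) = d := by
      rw [mul_inv_rev, hti, hdi]
      calc t * d * t * (d * t) = d⁻¹ * (d * t * (d * t * (d * t))) := by group
        _ = d := by rw [e3, mul_one, hdi]
    rw [this]; exact hd
  · -- order four
    set i := d * t * (d * t) with hi
    have hii : i * i = 1 := by
      rw [hi, ← pow_two (d * t), ← pow_add, show 2 + 2 = orderOf (d * t) from e.symm, pow_orderOf_eq_one]
    have hi1 : i ≠ 1 := fun e1 => by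
      have := hpow 2 (by rw [pow_two]; exact e1)
      rw [e] at this; norm_num at this
    have hiinv : t * d * (t * d) = i := by
      rw [← inv_of_sq hii, hi]; simp only [mul_inv_rev, hti, hdi, mul_assoc]
    have hci : ∀ a, a = d ∨ a = t → a ∈ Subgroup.centralizer ({i} : Set G) := by
      intro a ha
      refine Subgroup.mem_centralizer_iff.2 fun b hb => ?_
      rw [Set.mem_singleton_iff.1 hb]
      rcases ha with ha | ha <;> rw [ha]
      · show i * d = d * i
        conv_rhs => rw [← hiinv]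
        rw [hi]; simp only [mul_assoc]
      · show i * t = t * i
        conv_lhs => rw [← hiinv]
        rw [hi]; simp only [mul_assoc]
    obtain ⟨g, hg⟩ := L.exists_conj_U h (h.centralizer_two hii hi1)
    have hd' := mem_conjS.1 (hg (hci d (Or.inl rfl)))
    have ht' := mem_conjS.1 (hg (hci t (Or.inr rfl)))
    have hsq' : ∀ a : G, a * a = 1 → g⁻¹ * a * g * (g⁻¹ * a * g) = 1 := fun a ha => by
      rw [show g⁻¹ * a * g * (g⁻¹ * a * g) = g⁻¹ * (a * a) * g by group, ha, mul_one, inv_mul_cancel]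
    have ht'D : g⁻¹ * t * g ∉ D := fun hm => hno g (mem_conjS.2 hm)
    have ht'D' : g⁻¹ * t * g ∈ C ⊔ W := (L.mem_or ht' (hsq' t ht)).resolve_left ht'D
    have hd'D : g⁻¹ * d * g ∈ D := by
      refine (L.mem_or hd' (hsq' d hdd)).resolve_right fun hm => hi1 ?_
      have hc := (commute_of_sq (fun z hz => L.D'_sq hz) hm ht'D').eq
      have hc' : d * t = t * d := by
        calc d * t = g * (g⁻¹ * d * g * (g⁻¹ * t * g)) * g⁻¹ := by group
          _ = t * d := by rw [hc]; group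
      rw [hi]
      calc d * t * (d * t) = d * (t * d) * t := by group
        _ = (d * d) * (t * t) := by rw [← hc']; group
        _ = 1 := by rw [hdd, ht, one_mul]
    have hgD : conjS g D ≤ Subgroup.centralizer ({d} : Set G) := fun a ha => Subgroup.mem_centralizer_iff.2 fun b hb => by
      rw [Set.mem_singleton_iff.1 hb]
      exact (commute_of_sq (fun z hz => conjS_sq L.hD hz) (mem_conjS.2 hd'D) ha).eq
    obtain ⟨k, hk⟩ := L.exists_conj_U h hCd
    have hDk : conjS k⁻¹ D ≤ D ⊔ W := le_conjS_iff.1 (hdC.trans hk)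
    have hEk : conjS (k⁻¹ * g) D ≤ D ⊔ W := conjS_conjS k⁻¹ g D ▸ le_conjS_iff.1 (hgD.trans hk)
    by_cases heq : conjS g D = D
    · have hgN : g ∈ Subgroup.normalizer (D : Set G) := conjS_eq_iff_mem_normalizer.1 heq
      have := sup_le Subgroup.le_normalizer L.hWD ht'
      have h2 := mul_mem (mul_mem hgN this) (inv_mem hgN)
      simpa [mul_assoc] using h2
    · exfalso
      have hne2 : conjS k⁻¹ D ≠ conjS (k⁻¹ * g) D := by
        intro e1
        apply heq
        have := congrArg (conjS k) e1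
        rw [conjS_conjS, conjS_conjS, mul_inv_cancel, conjS_one, mul_inv_cancel_left] at this
        exact this.symm
      obtain ⟨a, ha⟩ : ∃ a, conjS a D = C ⊔ W := by
        rcases L.conj_D_cases hDk with h1 | ⟨h1, -⟩
        · rcases L.conj_D_cases hEk with h2 | ⟨h2, -⟩
          · exact absurd (h1.trans h2.symm) hne2
          · exact ⟨_, h2⟩
        · exact ⟨_, h1⟩
      refine hno (g * a) ?_
      rw [← conjS_conjS, ha]
      exact mem_conjS.2 ht'D'
  · exfalso
    have e5 : (d * t) ^ 5 = 1 := e ▸ pow_orderOf_eq_one _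
    refine hno ((d * t) ^ 2) (mem_conjS.2 ?_)
    have : ((d * t) ^ 2)⁻¹ * t * (d * t) ^ 2 = d := by
      rw [pow_two, mul_inv_rev, mul_inv_rev, hti, hdi]
      calc t * d * (t * d) * t * (d * t * (d * t)) = d⁻¹ * (d * t) ^ 5 := by
            simp only [pow_succ, pow_zero, one_mul]; group
        _ = d := by rw [e5, mul_one, hdi]
    rw [this]; exact hd

theorem _root_.Cfsg.Agent.FiveOrders.closure_normal' {S : Set G}
    (hS : ∀ a s, s ∈ S → a * s * a⁻¹ ∈ Subgroup.closure S) : (Subgroup.closure S).Normal := by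
  refine ⟨fun n hn a => ?_⟩
  have hle : Subgroup.closure S ≤ (Subgroup.closure S).comap (MulAut.conj a).toMonoidHom :=
    (Subgroup.closure_le _).2 fun s hs => hS a s hs
  exact hle hn

variable [IsSimpleGroup G]

/-- In a simple group all involutions are conjugate into `D`. -/
theorem fused (L : Loc D W C) (h : Ord5 G) (hns : ¬ Group.IsSolvable G) {t : G} (ht : t * t = 1)
    (ht1 : t ≠ 1) : ∃ g : G, t ∈ conjS g D := by
  by_contra hno
  push Not at hno
  let S : Set G := {s | s * s = 1 ∧ s ≠ 1 ∧ ∀ g : G, s ∉ conjS g D}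
  set K := Subgroup.closure S with hK
  have hKle : K ≤ Subgroup.normalizer (D : Set G) :=
    (Subgroup.closure_le _).2 fun s hs => L.key h hs.1 hs.2.1 hs.2.2
  haveI : K.Normal := closure_normal' fun a s hs => Subgroup.subset_closure
    (show a * s * a⁻¹ ∈ S from ⟨conj_sq hs.1, fun e => hs.2.1 (conj_eq_one_iff.1 e), fun g hg => hs.2.2 (a⁻¹ * g) (by
      rw [mem_conjS] at hg ⊢
      simpa [mul_assoc] using hg)⟩)
  rcases IsSimpleGroup.eq_bot_or_eq_top_of_normal K inferInstance with h1 | h1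
  · exact ht1 ((Subgroup.eq_bot_iff_forall K).1 h1 t (Subgroup.subset_closure ⟨ht, ht1, hno⟩))
  · haveI : D.Normal := Subgroup.normalizer_eq_top_iff.1 (top_le_iff.1 (h1 ▸ hKle))
    rcases IsSimpleGroup.eq_bot_or_eq_top_of_normal D inferInstance with h2 | h2
    · have := L.card_D
      rw [h2, Subgroup.card_bot] at this
      have h3 := L.card_W
      have h4 : Nat.card C = 1 := Nat.eq_one_of_mul_eq_one_right this.symm
      rw [h4] at h3
      exact L.W_ne (Subgroup.eq_bot_of_card_le W h3)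
    · apply hns
      exact Group.isSolvable_of_comm fun a b =>
        (commute_of_sq L.hD (h2 ▸ Subgroup.mem_top a) (h2 ▸ Subgroup.mem_top b)).eq
/-- In a simple group `|W| = |C|`. -/
theorem card_W_eq (L : Loc D W C) (h : Ord5 G) (hns : ¬ Group.IsSolvable G) : Nat.card W = Nat.card C := by
  haveI : Fact (Nat.Prime 2) := ⟨Nat.prime_two⟩
  refine le_antisymm L.card_W ?_
  by_contra hlt
  have hD1 : ∀ {g : G}, conjS g D ≤ D ⊔ W → conjS g D = D := fun hg =>
    (L.conj_D_cases hg).resolve_right fun h1 => hlt h1.2.ge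
  obtain ⟨w, hw, hw1⟩ := (Subgroup.bot_or_exists_ne_one W).resolve_left L.W_ne
  have hww := L.hW w hw
  obtain ⟨g, hg⟩ := L.fused h hns hww hw1
  have hEC : conjS g D ≤ Subgroup.centralizer ({w} : Set G) := fun a ha =>
    Subgroup.mem_centralizer_iff.2 fun b hb => by
      rw [Set.mem_singleton_iff.1 hb]; exact (commute_of_sq (fun z hz => conjS_sq L.hD hz) hg ha).eq
  have hCC : C ≤ Subgroup.centralizer ({w} : Set G) := fun a ha =>
    Subgroup.mem_centralizer_iff.2 fun b hb => by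
      rw [Set.mem_singleton_iff.1 hb]; exact (L.hCW a ha w hw).eq
  obtain ⟨k, hk⟩ := L.exists_conj_U h (h.centralizer_two hww hw1)
  have hkE : conjS (k⁻¹ * g) D = D := hD1 (conjS_conjS k⁻¹ g D ▸ le_conjS_iff.1 (hEC.trans hk))
  have hkC : conjS k⁻¹ C ≤ D ⊔ W := le_conjS_iff.1 (hCC.trans hk)
  obtain ⟨x, hxC, hxD, hx1⟩ : ∃ x, x ∈ conjS k⁻¹ C ∧ x ∈ D ∧ x ≠ 1 := by
    by_contra hno
    push Not at hno
    apply hlt
    have hinj := Nat.card_le_card_of_injective
      (fun q : conjS k⁻¹ C × D => (⟨q.1 * q.2, mul_mem (hkC q.1.2) (Subgroup.mem_sup_left q.2.2)⟩ : (D ⊔ W : Subgroup G)))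
      (fun ⟨a, b⟩ ⟨a', b'⟩ e => by
        have e' : (a : G) * b = a' * b' := congrArg Subtype.val e
        have e2 : (a' : G)⁻¹ * a = b' * (b : G)⁻¹ := by
          rw [eq_mul_inv_iff_mul_eq, mul_assoc, e', inv_mul_cancel_left]
        have h1 := hno _ ((conjS k⁻¹ C).mul_mem ((conjS k⁻¹ C).inv_mem a'.2) a.2)
          (e2 ▸ D.mul_mem b'.2 (D.inv_mem b.2))
        have ha : (a' : G) = a := inv_mul_eq_one.1 h1
        rw [ha] at e'
        exact Prod.ext (Subtype.ext ha.symm) (Subtype.ext (mul_left_cancel e')))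
    rw [Nat.card_prod, card_conjS, L.card_U, mul_comm] at hinj
    exact Nat.le_of_mul_le_mul_left hinj Nat.card_pos
  have hy : k * x * k⁻¹ ∈ C := by
    have := mem_conjS.1 hxC
    rwa [inv_inv] at this
  have hyE : k * x * k⁻¹ ∈ conjS g D := by
    have h1 : x ∈ conjS (k⁻¹ * g) D := by rw [hkE]; exact hxD
    rw [mem_conjS] at h1 ⊢
    simpa [mul_assoc] using h1
  have hy1 : k * x * k⁻¹ ≠ 1 := fun e => hx1 (conj_eq_one_iff.1 e)
  obtain ⟨m, hm⟩ := L.exists_conj_U h (h.centralizer_two (L.hD _ (L.hC hy)) hy1)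
  have h1 : D ≤ Subgroup.centralizer ({k * x * k⁻¹} : Set G) := fun a ha =>
    Subgroup.mem_centralizer_iff.2 fun b hb => by
      rw [Set.mem_singleton_iff.1 hb]; exact (commute_of_sq L.hD (L.hC hy) ha).eq
  have h2 : conjS g D ≤ Subgroup.centralizer ({k * x * k⁻¹} : Set G) := fun a ha =>
    Subgroup.mem_centralizer_iff.2 fun b hb => by
      rw [Set.mem_singleton_iff.1 hb]; exact (commute_of_sq (fun z hz => conjS_sq L.hD hz) hyE ha).eq
  have e1 := hD1 (le_conjS_iff.1 (h1.trans hm))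
  have e2 := hD1 (conjS_conjS m⁻¹ g D ▸ le_conjS_iff.1 (h2.trans hm))
  have := congrArg (conjS m) (e1.trans e2.symm)
  rw [conjS_conjS, conjS_conjS, mul_inv_cancel, conjS_one, mul_inv_cancel_left] at this
  rw [← this] at hg
  exact hw1 (L.disj w hg hw)

end Loc

/-- The involution in the cyclic group of a nontrivial element of order dividing four. -/
noncomputable def invol {G : Type u} [Group G] (x : G) : G :=
  letI := Classical.propDecidable (x * x = 1)
  if x * x = 1 then x else x * x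

theorem invol_spec {G : Type u} [Group G] {x : G} (hx : x ≠ 1) (h4 : x ^ 4 = 1) :
    invol x * invol x = 1 ∧ invol x ≠ 1 ∧ x ∈ Subgroup.centralizer ({invol x} : Set G) := by
  rw [invol]
  split_ifs with h1
  · exact ⟨h1, hx, Subgroup.mem_centralizer_iff.2 fun b hb => by rw [Set.mem_singleton_iff.1 hb]⟩
  · refine ⟨?_, h1, Subgroup.mem_centralizer_iff.2 fun b hb => by rw [Set.mem_singleton_iff.1 hb, mul_assoc]⟩
    rw [← h4]; simp only [pow_succ, pow_zero, one_mul, mul_assoc]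

theorem invol_conj {G : Type u} [Group G] (g x : G) : invol (g * x * g⁻¹) = g * invol x * g⁻¹ := by
  have e : g * x * g⁻¹ * (g * x * g⁻¹) = g * (x * x) * g⁻¹ := by group
  rw [invol, invol]
  by_cases h1 : x * x = 1
  · rw [if_pos h1, if_pos (conj_sq h1)]
  · rw [if_neg h1, if_neg (by rw [e, conj_eq_one_iff]; exact h1), e]

theorem centralizer_conj {G : Type u} [Group G] (g a : G) :
    Subgroup.centralizer ({g * a * g⁻¹} : Set G) = conjS g (Subgroup.centralizer ({a} : Set G)) := by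
  ext x
  simp only [mem_conjS, Subgroup.mem_centralizer_iff, Set.mem_singleton_iff, forall_eq]
  constructor
  · intro e
    calc a * (g⁻¹ * x * g) = g⁻¹ * (g * a * g⁻¹ * x) * g := by group
      _ = g⁻¹ * x * g * a := by rw [e]; group
  · intro e
    calc g * a * g⁻¹ * x = g * (a * (g⁻¹ * x * g)) * g⁻¹ := by group
      _ = x * (g * a * g⁻¹) := by rw [e]; group

namespace Loc

variable [Finite G] {D W C : Subgroup G}

theorem C_ne (L : Loc D W C) : C ≠ ⊥ := fun e => by
  have h3 := L.card_W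
  rw [e, Subgroup.card_bot] at h3
  exact L.W_ne (Subgroup.eq_bot_of_card_le W h3)

theorem centralizer_C (L : Loc D W C) (h : Ord5 G) {d : G} (hd : d ∈ C) (hd1 : d ≠ 1) :
    Subgroup.centralizer ({d} : Set G) = D ⊔ W := by
  have hle : D ⊔ W ≤ Subgroup.centralizer ({d} : Set G) := by
    refine sup_le (fun a ha => ?_) (fun a ha => ?_) <;>
      refine Subgroup.mem_centralizer_iff.2 fun b hb => ?_ <;> rw [Set.mem_singleton_iff.1 hb]
    · exact (commute_of_sq L.hD (L.hC hd) ha).eq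
    · exact (L.hCW d hd a ha).symm.eq
  exact le_antisymm (L.maximal h _ (h.centralizer_two (L.hD d (L.hC hd)) hd1) hle) hle

/-- The involutions with centralizer `D ⊔ W` lie in `C`. -/
theorem mem_C_of_centralizer (L : Loc D W C) {i : G} (hi : i * i = 1)
    (hc : Subgroup.centralizer ({i} : Set G) = D ⊔ W) : i ∈ C := by
  have hcomm : ∀ a ∈ D ⊔ W, Commute i a := fun a ha => by
    rw [← hc, Subgroup.mem_centralizer_iff] at ha
    exact ha i rfl
  have hiU : i ∈ D ⊔ W := hc ▸ Subgroup.mem_centralizer_iff.2 fun b hb => by rw [Set.mem_singleton_iff.1 hb]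
  by_cases hiD : i ∈ D
  · obtain ⟨w, hw, hw1⟩ := (Subgroup.bot_or_exists_ne_one W).resolve_left L.W_ne
    exact L.hfix w hw hw1 i hiD (hcomm w (Subgroup.mem_sup_right hw)).symm
  · exfalso
    have hle : D ≤ C := fun v hv => L.mem_C_of_commute hv hiU hiD (hcomm v (Subgroup.mem_sup_left hv)).symm
    have h1 := Subgroup.card_le_of_le hle
    rw [L.card_D] at h1
    have h2 : Nat.card C ≤ 1 := Nat.le_of_mul_le_mul_left (by rwa [mul_one]) Nat.card_pos
    exact L.C_ne (Subgroup.eq_bot_of_card_le C h2)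

/-- The nontrivial elements whose involution has centralizer `D ⊔ W`. -/
def fibre (D W C : Subgroup G) : Set G := {x | x ≠ 1 ∧ x ∈ D ⊔ W ∧ invol x ∈ C}

theorem mem_fibre (L : Loc D W C) (h : Ord5 G) {x : G} :
    x ∈ fibre D W C ↔ x ≠ 1 ∧ x ^ 4 = 1 ∧ Subgroup.centralizer ({invol x} : Set G) = D ⊔ W := by
  constructor
  · rintro ⟨hx1, hxU, hxC⟩
    have h4 : x ^ 4 = 1 := by
      rw [← L.pow_four hxU]; simp only [pow_succ, pow_zero, one_mul, mul_assoc]
    exact ⟨hx1, h4, L.centralizer_C h hxC (invol_spec hx1 h4).2.1⟩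
  · rintro ⟨hx1, h4, hc⟩
    exact ⟨hx1, hc ▸ (invol_spec hx1 h4).2.2, L.mem_C_of_centralizer (invol_spec hx1 h4).1 hc⟩

/-- The size of the fibre. -/
theorem card_fibre (L : Loc D W C) (he : Nat.card W = Nat.card C) :
    Nat.card (fibre D W C) + 2 * (Nat.card C * Nat.card C) + 1 =
      Nat.card C * Nat.card C * Nat.card C + 2 * Nat.card C := by
  set A : Set G := (D : Set G) ∪ ((C ⊔ W : Subgroup G) : Set G) with hA
  have hAU : A ⊆ ((D ⊔ W : Subgroup G) : Set G) :=
    Set.union_subset (fun x hx => Subgroup.mem_sup_left hx) (fun x hx => L.D'_le hx)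
  have hI : (D : Set G) ∩ ((C ⊔ W : Subgroup G) : Set G) = (C : Set G) := by
    ext x
    exact ⟨fun hx => L.mem_C_of_both hx.1 hx.2, fun hx => ⟨L.hC hx, Subgroup.mem_sup_left hx⟩⟩
  have hF : fibre D W C = (((D ⊔ W : Subgroup G) : Set G) \ A) ∪ ((C : Set G) \ {1}) := by
    ext x
    simp only [fibre, Set.mem_setOf_eq, Set.mem_union, Set.mem_sdiff, Set.mem_singleton_iff, SetLike.mem_coe, hA]
    constructor
    · rintro ⟨hx1, hxU, hxC⟩
      rw [invol] at hxC
      split_ifs at hxC with hxx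
      · exact Or.inr ⟨hxC, hx1⟩
      · refine Or.inl ⟨hxU, ?_⟩
        rintro (hx | hx)
        exacts [hxx (L.hD x hx), hxx (L.D'_sq hx)]
    · rintro (⟨hxU, hx⟩ | ⟨hxC, hx1⟩)
      · refine ⟨fun e => hx (Or.inl (e ▸ one_mem D)), hxU, ?_⟩
        rw [invol, if_neg fun e => hx (L.mem_or hxU e)]
        exact L.sq_mem hxU
      · refine ⟨hx1, Subgroup.mem_sup_left (L.hC hxC), ?_⟩
        rw [invol, if_pos (L.hD x (L.hC hxC))]
        exact hxC
  have hdis : Disjoint (((D ⊔ W : Subgroup G) : Set G) \ A) ((C : Set G) \ {1}) :=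
    Set.disjoint_left.2 fun x hx hx' => hx.2 (Or.inl (L.hC hx'.1))
  have hfin : ∀ s : Set G, s.Finite := fun s => Set.toFinite s
  have e1 := Set.ncard_union_eq hdis (hfin _) (hfin _)
  have e2 := Set.ncard_sdiff_add_ncard_of_subset hAU (hfin _)
  have e3 := Set.ncard_sdiff_singleton_add_one (show (1 : G) ∈ (C : Set G) from one_mem C) (hfin _)
  have e4 := Set.ncard_union_add_ncard_inter (D : Set G) ((C ⊔ W : Subgroup G) : Set G) (hfin _) (hfin _)
  rw [hI, ← hA] at e4
  have n1 : ∀ K : Subgroup G, (K : Set G).ncard = Nat.card K := fun K => Nat.card_coe_set_eq _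
  simp only [n1, L.card_U, L.card_D', L.card_D, he] at e1 e2 e3 e4
  rw [Nat.card_coe_set_eq, hF, e1]
  omega

variable [IsSimpleGroup G]

/-- With `N(D)` transitive on `D`, every involution centralizer is conjugate to `D ⊔ W`. -/
theorem centralizer_conj_U (L : Loc D W C) (h : Ord5 G) (hns : ¬ Group.IsSolvable G)
    (htr : ∀ a ∈ C, a ≠ 1 → ∀ d ∈ D, d ≠ 1 → ∃ m : G, m * a * m⁻¹ = d) {i : G} (hi : i * i = 1)
    (hi1 : i ≠ 1) : ∃ g : G, Subgroup.centralizer ({i} : Set G) = conjS g (D ⊔ W) := by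
  obtain ⟨g, hg⟩ := L.fused h hns hi hi1
  obtain ⟨d, hd, rfl⟩ := hg
  obtain ⟨a, ha, ha1⟩ := (Subgroup.bot_or_exists_ne_one C).resolve_left L.C_ne
  obtain ⟨m, hm⟩ := htr a ha ha1 d hd (fun e => hi1 (by rw [e]; exact map_one _))
  refine ⟨g * m, ?_⟩
  rw [← L.centralizer_C h ha ha1, ← centralizer_conj]
  congr 2
  show g * d * g⁻¹ = g * m * a * (g * m)⁻¹
  rw [← hm]; group

end Loc

end Cfsg.Agent.FiveOrders
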