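import Cfsg.Agent.Lib.FiveOrders.Count

/-!
# Numbers of elements of prime power order
-/

set_option autoImplicit false
set_option linter.all false

namespace Cfsg.Agent.FiveOrders

universe u

variable {G : Type u} [Group G] [Finite G]

/-- Counting the nontrivial `p`-elements when the Sylow `p`-subgroups intersect trivially. -/
theorem ti_count {p : ℕ} [hp : Fact p.Prime] (P : Sylow p G)
    (hti : ∀ P Q : Sylow p G, P ≠ Q → (P : Subgroup G) ⊓ Q = ⊥) {A : Set G}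
    (hA : ∀ x : G, x ∈ A ↔ x ≠ 1 ∧ IsPGroup p (Subgroup.zpowers x)) :
    Nat.card A * Nat.card ↥(Subgroup.normalizer ((P : Subgroup G) : Set G)) =
      Nat.card G * (Nat.card P - 1) := by
  classical
  have hex : ∀ a ∈ A, ∃ g : G, a ∈ conjS g (P : Subgroup G) := by
    intro a ha
    obtain ⟨g, hg⟩ := exists_conj_le P.2 (fun Y hY hle => (P.3 hY hle).le) ((hA a).1 ha).2
    exact ⟨g, hg (Subgroup.mem_zpowers a)⟩
  have huniq : ∀ a ∈ A, ∀ g k : G, a ∈ conjS g (P : Subgroup G) → a ∈ conjS k (P : Subgroup G) →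
      conjS g (P : Subgroup G) = conjS k (P : Subgroup G) := by
    intro a ha g k hg hk
    by_contra hne
    have e : ∀ g : G, ((g • P : Sylow p G) : Subgroup G) = conjS g (P : Subgroup G) := by
      intro g; ext x
      rw [Sylow.coe_subgroup_smul, Subgroup.mem_pointwise_smul_iff_inv_smul_mem, ← map_inv,
        MulAut.smul_def, MulAut.conj_apply, inv_inv, mem_conjS]
    have hmem : a ∈ ((g • P : Sylow p G) : Subgroup G) ⊓ ((k • P : Sylow p G) : Subgroup G) :=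
      ⟨(e g).symm ▸ hg, (e k).symm ▸ hk⟩
    rw [hti (g • P) (k • P) (fun h => hne (by rw [← e, h, e])), Subgroup.mem_bot] at hmem
    exact ((hA a).1 ha).1 hmem
  let φ : G → Subgroup G := fun a =>
    if h : ∃ g : G, a ∈ conjS g (P : Subgroup G) then conjS h.choose (P : Subgroup G) else ⊥
  have hφ : ∀ a ∈ A, ∀ g : G, a ∈ conjS g (P : Subgroup G) → φ a = conjS g (P : Subgroup G) := by
    intro a ha g hg
    show dite _ _ _ = _
    rw [dif_pos ⟨g, hg⟩]
    exact huniq a ha _ g (Exists.choose_spec (⟨g, hg⟩ : ∃ g : G, a ∈ conjS g (P : Subgroup G))) hg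
  have hA' : ∀ g : G, ∀ a ∈ A, g * a * g⁻¹ ∈ A := by
    intro g a ha
    obtain ⟨h1, h2⟩ := (hA a).1 ha
    refine (hA _).2 ⟨fun e => h1 (conj_eq_one_iff.1 e), ?_⟩
    have e : Subgroup.zpowers (g * a * g⁻¹) = (Subgroup.zpowers a).map (MulAut.conj g).toMonoidHom := by
      rw [MonoidHom.map_zpowers]; rfl
    rw [e]; exact h2.map _
  have key := fibre_count (A := A) φ (P : Subgroup G) hA'
    (fun g a ha => by
      obtain ⟨k, hk⟩ := hex a ha
      rw [hφ a ha k hk, conjS_conjS]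
      refine hφ _ (hA' g a ha) _ ?_
      rw [← conjS_conjS]
      exact ⟨a, hk, rfl⟩)
    (fun a ha => (hex a ha).imp fun g hg => hφ a ha g hg)
  rw [key]
  congr 1
  have e1 : {a : G | a ∈ A ∧ φ a = (P : Subgroup G)} = ((P : Subgroup G) : Set G) \ {1} := by
    ext a
    constructor
    · rintro ⟨ha, he⟩
      refine ⟨?_, ((hA a).1 ha).1⟩
      obtain ⟨g, hg⟩ := hex a ha
      rw [hφ a ha g hg] at he
      exact he ▸ hg
    · rintro ⟨haP, ha1⟩
      have ha : a ∈ A := (hA a).2 ⟨ha1, P.2.to_le (Subgroup.zpowers_le.2 haP)⟩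
      refine ⟨ha, ?_⟩
      rw [hφ a ha 1 (by rw [conjS_one]; exact haP), conjS_one]
  have e2 := Set.ncard_sdiff_singleton_add_one
    (show (1 : G) ∈ ((P : Subgroup G) : Set G) from one_mem _) (Set.toFinite _)
  rw [Nat.card_coe_set_eq, e1]
  have e3 : ((P : Subgroup G) : Set G).ncard = Nat.card P := Nat.card_coe_set_eq _
  omega

theorem Ord5.mem_ofExp (h : Ord5 G) {p : ℕ} [hp : Fact p.Prime] (hp2 : p ≠ 2) (x : G) :
    x ∈ ofExp G p ↔ x ≠ 1 ∧ IsPGroup p (Subgroup.zpowers x) := by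
  refine and_congr_right fun hx => ⟨fun hxp => ?_, fun hxp => h.pgroup_pow hp2 hxp (Subgroup.mem_zpowers x)⟩
  exact IsPGroup.of_card (n := 1) (by rw [Nat.card_zpowers, orderOf_eq_prime hxp hx, pow_one])

/-- The term of an odd prime in the class equation. -/
theorem Ord5.odd_term (h : Ord5 G) {p : ℕ} [hp : Fact p.Prime] (hp2 : p ≠ 2) (hd : p ∣ Nat.card G)
    (P : Sylow p G) :
    ∃ e k : ℕ, 1 ≤ k ∧ Nat.card P = p ^ k ∧ e ∣ p ^ k - 1 ∧
      (e = 1 ∨ e = 2 ∨ e = 4 ∨ e = 8 ∨ (e.Prime ∧ e ≠ 2 ∧ e ≠ p ∧ e ∣ Nat.card G)) ∧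
      Nat.card (ofExp G p) * (e * p ^ k) = Nat.card G * (p ^ k - 1) := by
  obtain ⟨k, hk⟩ := P.2.exists_card_eq
  have hk1 : 1 ≤ k := by
    refine Nat.one_le_iff_ne_zero.2 fun e => ?_
    have := Sylow.dvd_card_of_dvd_card P hd
    rw [hk, e, pow_zero, Nat.dvd_one] at this
    exact hp.out.ne_one this
  have hP1 : (P : Subgroup G) ≠ ⊥ := Subgroup.one_lt_card_iff_ne_bot _ |>.1
    (hk ▸ Nat.one_lt_pow (by omega) hp.out.one_lt)
  obtain ⟨e, hN, hdvd, hcase⟩ := h.odd_index hp2 P hP1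
  refine ⟨e, k, hk1, hk, hk ▸ hdvd, hcase, ?_⟩
  rw [← hk, ← hN]
  exact ti_count P (fun P Q hne => h.odd_ti hp2 hne) (h.mem_ofExp hp2)

/-- The 2-term when the Sylow 2-subgroups intersect trivially. -/
theorem Ord5.two_term (h : Ord5 G) [Fact (Nat.Prime 2)] (h2 : 2 ∣ Nat.card G) (S : Sylow 2 G)
    (hti : ∀ P Q : Sylow 2 G, P ≠ Q → (P : Subgroup G) ⊓ Q = ⊥) :
    ∃ e k : ℕ, 1 ≤ k ∧ Nat.card S = 2 ^ k ∧ e ∣ 2 ^ k - 1 ∧ (e = 1 ∨ e = 3 ∨ e = 5) ∧
      Nat.card (ofExp G 4) * (e * 2 ^ k) = Nat.card G * (2 ^ k - 1) := by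
  obtain ⟨k, hk⟩ := S.2.exists_card_eq
  have hk1 : 1 ≤ k := by
    refine Nat.one_le_iff_ne_zero.2 fun e => ?_
    have := Sylow.dvd_card_of_dvd_card S h2
    rw [hk, e, pow_zero, Nat.dvd_one] at this
    norm_num at this
  have hS1 : (S : Subgroup G) ≠ ⊥ := Subgroup.one_lt_card_iff_ne_bot _ |>.1
    (hk ▸ Nat.one_lt_pow (by omega) one_lt_two)
  have hA : ∀ x : G, x ∈ ofExp G 4 ↔ x ≠ 1 ∧ IsPGroup 2 (Subgroup.zpowers x) := by
    intro x
    refine and_congr_right fun hx => ⟨fun hx4 => ?_, fun hxp => h.two_pow_four hxp (Subgroup.mem_zpowers x)⟩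
    intro z
    refine ⟨2, Subtype.ext ?_⟩
    obtain ⟨m, hm⟩ := Subgroup.mem_zpowers_iff.1 z.2
    show (z : G) ^ (2 ^ 2) = 1
    rw [← hm, ← zpow_natCast, ← zpow_mul, mul_comm, zpow_mul, zpow_natCast]
    norm_num [hx4]
  have hc := ti_count S hti hA
  set N := Subgroup.normalizer ((S : Subgroup G) : Set G) with hNdef
  set SN := (S : Subgroup G).subgroupOf N with hSN
  haveI : SN.Normal := Subgroup.normal_subgroupOf_iff_le_normalizer Subgroup.le_normalizer |>.2 le_rfl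
  have hcard : Nat.card N = SN.index * Nat.card S := by
    rw [← Nat.card_congr (Subgroup.subgroupOfEquivOfLe (Subgroup.le_normalizer : (S : Subgroup G) ≤ N)).toEquiv,
      mul_comm]
    exact (Subgroup.card_mul_index _).symm
  set e := SN.index with he
  have hodd : ¬ 2 ∣ e := fun hd => S.not_dvd_index (hd.trans
    (Dvd.intro _ (Subgroup.relIndex_mul_index (Subgroup.le_normalizer : (S : Subgroup G) ≤ N))))
  have he0 : e ≠ 0 := fun e0 => hodd (e0 ▸ dvd_zero 2)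
  have hedvd : e ∣ Nat.card G := ((Dvd.intro _ hcard.symm).trans (Subgroup.card_subgroup_dvd_card N))
  have hpr : ∀ r : ℕ, r.Prime → r ∣ e → r = 3 ∨ r = 5 := by
    intro r hr hrd
    rcases h.prime_cases hr (hrd.trans hedvd) with e1 | e1
    · exact absurd (e1 ▸ hrd) hodd
    · exact e1
  haveI hsol : Group.IsSolvable N := by
    haveI h1 : Group.IsSolvable SN :=
      S3992.isSolvable_of_isPGroup (S.2.of_equiv (Subgroup.subgroupOfEquivOfLe Subgroup.le_normalizer).symm)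
    haveI h3 : Group.IsSolvable (N ⧸ SN) := by
      by_contra hns
      apply hodd
      rw [he, Subgroup.index_eq_card]
      exact (((h.sub N).quot SN).dvd_of_not_solvable hns).1
    exact Group.isSolvable_of_ker_le_range SN.subtype (QuotientGroup.mk' SN)
      (by rw [QuotientGroup.ker_mk', Subgroup.range_subtype])
  have hnot15 : ¬ (3 ∣ e ∧ 5 ∣ e) := by
    rintro ⟨h3, h5⟩
    refine (h.sub N).not_all_dvd (dvd_trans ?_ (Dvd.intro_left _ hcard.symm))
      (h3.trans (Dvd.intro _ hcard.symm)) (h5.trans (Dvd.intro _ hcard.symm))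
    rw [hk]; exact dvd_pow_self 2 (by omega)
  refine ⟨e, k, hk1, hk, ?_⟩
  suffices hh : e ∣ 2 ^ k - 1 ∧ (e = 1 ∨ e = 3 ∨ e = 5) from
    ⟨hh.1, hh.2, by rw [← hk, ← hcard]; exact hc⟩
  rcases eq_or_ne e 1 with e1 | e1
  · exact ⟨by rw [e1]; exact one_dvd _, Or.inl e1⟩
  obtain ⟨r, hr, hrd⟩ := Nat.exists_prime_and_dvd e1
  haveI := Fact.mk hr
  have hall : ∀ {s : ℕ}, s.Prime → s ∣ e → s = r := fun {s} hs hsd => by
    rcases hpr s hs hsd with rfl | rfl <;> rcases hpr r hr hrd with rfl | rfl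
    exacts [rfl, absurd ⟨hsd, hrd⟩ hnot15, absurd ⟨hrd, hsd⟩ hnot15, rfl]
  have hr2 : r ≠ 2 := fun e2 => hodd (e2 ▸ hrd)
  obtain ⟨T0⟩ : Nonempty (Sylow r N) := inferInstance
  set T := (T0 : Subgroup N).map N.subtype with hT
  have hTN : T ≤ N := Subgroup.map_subtype_le _
  have hTr : IsPGroup r T := T0.2.map _
  have hej := Nat.eq_prime_pow_of_unique_prime_dvd he0 hall
  have hTc : Nat.card T = e := by
    rw [hT, Subgroup.card_map_of_injective N.subtype_injective, T0.card_eq_multiplicity, hcard,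
      Nat.factorization_mul he0 Nat.card_pos.ne', hk, Nat.prime_two.factorization_pow, Finsupp.coe_add,
      Pi.add_apply, Finsupp.single_apply, if_neg hr2.symm, add_zero]
    conv_rhs => rw [hej]
    conv_lhs => rw [hej, hr.factorization_pow, Finsupp.single_eq_same]
  have hle : e ≤ r := hTc ▸ h.card_le hr2 hr2 hTr S.2 hS1 hTN
  have her : e = r := le_antisymm hle (Nat.le_of_dvd (Nat.pos_of_ne_zero he0) hrd)
  refine ⟨?_, Or.inr (her ▸ hpr r hr hrd)⟩
  rw [← hTc, ← hk]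
  refine dvd_card_sub_one hTN fun t ht ht1 x hx hx1 hcomm => ?_
  obtain ⟨i, hi⟩ := IsPGroup.iff_orderOf.1 hTr ⟨t, ht⟩
  obtain ⟨j, hj⟩ := IsPGroup.iff_orderOf.1 S.2 ⟨x, hx⟩
  rw [Subgroup.orderOf_mk] at hi hj
  have hi0 : i ≠ 0 := fun e0 => ht1 (orderOf_eq_one_iff.1 (by rw [hi, e0, pow_zero]))
  have hj0 : j ≠ 0 := fun e0 => hx1 (orderOf_eq_one_iff.1 (by rw [hj, e0, pow_zero]))
  exact hr2 (h.eq_of_commute hr Nat.prime_two (hcomm.pow_right (orderOf x / 2)) (hi ▸ dvd_pow_self r hi0)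
    (orderOf_pow_orderOf_div (orderOf_pos x).ne' (hj ▸ dvd_pow_self 2 hj0)))

end Cfsg.Agent.FiveOrders
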