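import Cfsg.Agent.Lib.FiveOrders.Almost
import Cfsg.Agent.Lib.FiveOrders.SylowCount
import Cfsg.Agent.S0494
import Cfsg.Agent.S0497

/-!
# The structure of non-solvable groups with element orders at most five
-/

set_option autoImplicit false
set_option linter.all false

namespace Cfsg.Agent.FiveOrders

universe u

/-- Elementary abelian by `A₅`, or `A₆`. -/
def Concl (G : Type u) [Group G] : Prop :=
  (∃ (N : Subgroup G) (_ : N.Normal), Cfsg.IsElementaryAbelian 2 N ∧ Nonempty (G ⧸ N ≃* A5.A)) ∨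
    Nonempty (G ≃* Almost.B)

theorem isPGroup_of_elementary {G : Type u} [Group G] {N : Subgroup G} (hN : Cfsg.IsElementaryAbelian 2 N) :
    IsPGroup 2 N := fun x => ⟨1, by
  apply Subtype.ext
  rw [pow_one]
  exact hN.2 x x.2⟩

theorem card_B : Nat.card Almost.B = 360 := by
  rw [nat_card_alternatingGroup, Nat.card_eq_fintype_card, Fintype.card_fin]
  rfl

variable {G : Type u} [Group G] [Finite G]

/-- With trivial 2-core the alternatives are `A₅` and `A₆`. -/
theorem Concl.core_free (hc : Concl G) (hR : Cfsg.pCore 2 G = ⊥) :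
    Nonempty (G ≃* A5.A) ∨ Nonempty (G ≃* Almost.B) := by
  rcases hc with ⟨N, hN, hel, ⟨e⟩⟩ | hB
  · haveI := hN
    have h1 : N = ⊥ := le_bot_iff.1 (hR ▸ Cores.le_pCore (isPGroup_of_elementary hel))
    subst h1
    exact Or.inl ⟨QuotientGroup.quotientBot.symm.trans e⟩
  · exact Or.inr hB

theorem Ord5.smaller_normal (h : Ord5 G) (hns : ¬ Group.IsSolvable G) (hR : Cfsg.pCore 2 G = ⊥)
    (N : Subgroup G) [hN : N.Normal] (hN1 : N ≠ ⊥) :
    ¬ Group.IsSolvable N ∧ Cfsg.pCore 2 N = ⊥ := by
  haveI : Fact (Nat.Prime 2) := ⟨Nat.prime_two⟩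
  constructor
  · intro hs
    haveI := hs
    haveI : Nontrivial N := N.nontrivial_iff_ne_bot.2 hN1
    obtain ⟨q, hq, hq1⟩ := S1475.exists_pCore_ne_bot (G := N)
    haveI := Fact.mk hq
    haveI : ((Cfsg.pCore q N).map N.subtype).Normal := Cores.normal_map_subtype N _
    have hp : IsPGroup q ((Cfsg.pCore q N).map N.subtype) := (Cores.pCore_isPGroup q).map _
    have hbot : (Cfsg.pCore q N).map N.subtype = ⊥ := by
      by_cases hq2 : q = 2
      · subst hq2; exact le_bot_iff.1 (hR ▸ Cores.le_pCore hp)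
      · exact h.not_normal_odd hns hq2 _ hp
    exact hq1 ((Subgroup.map_eq_bot_iff_of_injective _ N.subtype_injective).1 hbot)
  · haveI : ((Cfsg.pCore 2 N).map N.subtype).Normal := Cores.normal_map_subtype N _
    have hp : IsPGroup 2 ((Cfsg.pCore 2 N).map N.subtype) := (Cores.pCore_isPGroup 2).map _
    exact (Subgroup.map_eq_bot_iff_of_injective _ N.subtype_injective).1 (le_bot_iff.1 (hR ▸ Cores.le_pCore hp))

/-- The local subgroup at a maximal Sylow intersection. -/
theorem Ord5.exists_local (h : Ord5 G) [IsSimpleGroup G] (hns : ¬ Group.IsSolvable G)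
    (IH : ∀ (K : Subgroup G), K ≠ ⊤ → ¬ Group.IsSolvable K → Concl K)
    (hne : ∃ P Q : Sylow 2 G, P ≠ Q ∧ (P : Subgroup G) ⊓ Q ≠ ⊥) :
    ∃ D W C : Subgroup G, Loc D W C ∧ LocalOK D W C := by
  haveI : Fact (Nat.Prime 2) := ⟨Nat.prime_two⟩
  obtain ⟨D, hD1, hD, hmax, hnot⟩ := exists_max_inter hne
  set H := Subgroup.normalizer (D : Set G) with hH
  have hHT : H ≠ ⊤ := fun e => by
    haveI : D.Normal := Subgroup.normalizer_eq_top_iff.1 e
    rcases IsSimpleGroup.eq_bot_or_eq_top_of_normal D inferInstance with h1 | h1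
    · exact hD1 h1
    · exact hns (S3992.isSolvable_of_isPGroup (p := 2) (fun g => by
        obtain ⟨k, hk⟩ := hD ⟨g, h1 ▸ Subgroup.mem_top g⟩
        exact ⟨k, congrArg Subtype.val hk⟩))
  set D' := D.subgroupOf H with hD'
  haveI : D'.Normal := Subgroup.normal_subgroupOf_iff_le_normalizer Subgroup.le_normalizer |>.2 le_rfl
  have hD'p : IsPGroup 2 D' := hD.of_equiv (Subgroup.subgroupOfEquivOfLe Subgroup.le_normalizer).symm
  have hD'1 : D' ≠ ⊥ := fun e => hD1 (by
    rw [← Subgroup.map_subgroupOf_eq_of_le (Subgroup.le_normalizer : D ≤ H), ← hD', e, Subgroup.map_bot])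
  have hcore : Cfsg.pCore 2 H ≤ D' := by
    intro x hx
    refine Subgroup.mem_subgroupOf.2 (hmax ((Cfsg.pCore 2 H).map H.subtype) ((Cores.pCore_isPGroup 2).map _)
      (Subgroup.map_subtype_le _) ?_ ⟨x, hx, rfl⟩)
    intro n hn
    refine mem_normalizer_of_conj ?_
    rintro _ ⟨y, hy, rfl⟩
    exact ⟨⟨n, hn⟩ * y * ⟨n, hn⟩⁻¹, Subgroup.Normal.conj_mem inferInstance y hy _, rfl⟩
  obtain ⟨W, C, L, hok⟩ : ∃ W C : Subgroup H, Loc D' W C ∧ LocalOK D' W C := by
    by_cases hs : Group.IsSolvable H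
    · exact local_solvable (h.sub H) D' hD'p hD'1 hcore hnot
    rcases IH H hHT hs with ⟨N, hN, hel, ⟨e⟩⟩ | hB
    · haveI := hN
      let π : H →* A5.A := e.toMonoidHom.comp (QuotientGroup.mk' N)
      have hπ : Function.Surjective π := e.surjective.comp (QuotientGroup.mk'_surjective N)
      have hker : π.ker = N := by
        ext x
        rw [MonoidHom.mem_ker, ← QuotientGroup.eq_one_iff]
        exact e.map_eq_one_iff
      have hND : N ≤ D' := (Cores.le_pCore (isPGroup_of_elementary hel)).trans hcore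
      have hDN : D' ≤ N := by
        haveI : (D'.map π).Normal := Subgroup.Normal.map inferInstance π hπ
        haveI : IsSimpleGroup A5.A := alternatingGroup.isSimpleGroup_five
        rcases IsSimpleGroup.eq_bot_or_eq_top_of_normal (D'.map π) inferInstance with h1 | h1
        · rwa [Subgroup.map_eq_bot_iff, hker] at h1
        · exfalso
          obtain ⟨k, hk⟩ := (hD'p.map π).exists_card_eq
          rw [h1, Subgroup.card_top, A5.card_A] at hk
          have := Nat.prime_three.dvd_of_dvd_pow (show 3 ∣ 2 ^ k from hk ▸ (by norm_num))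
          norm_num at this
      exact local_a5 (h.sub H) π hπ D' (hker.trans (le_antisymm hND hDN)) hD'p hD'1
    · exfalso
      obtain ⟨e⟩ := hB
      haveI : Nontrivial H := e.toEquiv.nontrivial
      haveI : IsSimpleGroup Almost.B := alternatingGroup.isSimpleGroup (by simp)
      haveI : IsSimpleGroup H := IsSimpleGroup.isSimpleGroup_of_surjective e.symm.toMonoidHom e.symm.surjective
      rcases IsSimpleGroup.eq_bot_or_eq_top_of_normal D' inferInstance with h1 | h1
      · exact hD'1 h1
      · obtain ⟨k, hk⟩ := hD'p.exists_card_eq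
        rw [h1, Subgroup.card_top, Nat.card_congr e.toEquiv, card_B] at hk
        have := Nat.prime_three.dvd_of_dvd_pow (show 3 ∣ 2 ^ k from hk ▸ (by norm_num))
        norm_num at this
  exact ⟨D, _, _, L.ofNormalizer, hok.ofNormalizer h L⟩

/-- The order of a simple such group. -/
theorem Ord5.card_simple (h : Ord5 G) [IsSimpleGroup G] (hns : ¬ Group.IsSolvable G)
    (IH : ∀ (K : Subgroup G), K ≠ ⊤ → ¬ Group.IsSolvable K → Concl K) :
    Nat.card G = 60 ∨ Nat.card G = 360 := by
  haveI : Fact (Nat.Prime 2) := ⟨Nat.prime_two⟩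
  haveI : Fact (Nat.Prime 3) := ⟨Nat.prime_three⟩
  haveI : Fact (Nat.Prime 5) := ⟨by norm_num⟩
  obtain ⟨h2, h3, h5⟩ := h.dvd_of_not_solvable hns
  obtain ⟨S⟩ : Nonempty (Sylow 2 G) := inferInstance
  obtain ⟨P⟩ : Nonempty (Sylow 3 G) := inferInstance
  obtain ⟨Q⟩ : Nonempty (Sylow 5 G) := inferInstance
  set n := Nat.card G with hn
  have hn0 : (n : ℚ) ≠ 0 := by exact_mod_cast (Nat.card_pos (α := G)).ne'
  -- the term of 2
  obtain ⟨o2, ho2, r2⟩ : ∃ o ∈ opts2, Rep o (Nat.card S) (12960000 * (Nat.card (ofExp G 4) : ℚ) / n) := by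
    by_cases hne : ∃ P Q : Sylow 2 G, P ≠ Q ∧ (P : Subgroup G) ⊓ Q ≠ ⊥
    · obtain ⟨D, W, C, L, hok⟩ := h.exists_local hns IH hne
      have he := L.card_W_eq h hns
      obtain ⟨htr, hcase⟩ := hok he
      set U := D ⊔ W with hU
      have hUS : Nat.card S = Nat.card U := by
        obtain ⟨g, hg⟩ := L.exists_conj_U h S.2
        obtain ⟨T, hT⟩ := L.exists_sylow h
        rw [hU, ← hT]
        exact Sylow.card_eq_multiplicity S |>.trans T.card_eq_multiplicity.symm
      have hA : ∀ g : G, ∀ a ∈ ofExp G 4, g * a * g⁻¹ ∈ ofExp G 4 := fun g a ha =>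
        ⟨fun e => ha.1 (conj_eq_one_iff.1 e), by rw [conj_pow, ha.2, mul_one, mul_inv_cancel]⟩
      have key := fibre_count (A := ofExp G 4) (fun x => Subgroup.centralizer ({invol x} : Set G)) U hA
        (fun g a ha => by rw [invol_conj, centralizer_conj])
        (fun a ha => L.centralizer_conj_U h hns htr (invol_spec ha.1 ha.2).1 (invol_spec ha.1 ha.2).2.1)
      have hset : {a : G | a ∈ ofExp G 4 ∧ Subgroup.centralizer ({invol a} : Set G) = U} = Loc.fibre D W C := by
        ext a
        rw [L.mem_fibre h]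
        exact ⟨fun ha => ⟨ha.1.1, ha.1.2, ha.2⟩, fun ha => ⟨⟨ha.1, ha.2.1⟩, ha.2.2⟩⟩
      rw [hset] at key
      have hf := L.card_fibre he
      have hUc : Nat.card U = Nat.card C * Nat.card C * Nat.card C := by rw [hU, L.card_U, L.card_D, he]
      rcases hcase with ⟨hc, hN⟩ | ⟨hc, hN⟩
      · rw [hc] at hf hUc
        have hf3 : Nat.card (Loc.fibre D W C) = 3 := by omega
        rw [hN, hf3] at key
        refine ⟨⟨4860000, 4860000, 8, 0, true⟩, by decide, ?_⟩
        have e1 : (12960000 * (Nat.card (ofExp G 4) : ℚ) / n) = 4860000 := by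
          have hk : (Nat.card (ofExp G 4) : ℚ) * 8 = n * 3 := by exact_mod_cast key
          rw [div_eq_iff hn0]; linarith
        refine ⟨e1.ge, by rw [hUS, hUc], e1.le, fun _ => ⟨by rw [hUS, hUc], e1⟩, fun e => absurd e (by decide)⟩
      · rw [hc] at hf hUc
        have hf39 : Nat.card (Loc.fibre D W C) = 39 := by omega
        rw [hN, hf39] at key
        refine ⟨⟨2632500, 2632500, 64, 0, true⟩, by decide, ?_⟩
        have e1 : (12960000 * (Nat.card (ofExp G 4) : ℚ) / n) = 2632500 := by
          have hk : (Nat.card (ofExp G 4) : ℚ) * 192 = n * 39 := by exact_mod_cast key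
          rw [div_eq_iff hn0]; linarith
        refine ⟨e1.ge, by rw [hUS, hUc], e1.le, fun _ => ⟨by rw [hUS, hUc], e1⟩, fun e => absurd e (by decide)⟩
    · push Not at hne
      obtain ⟨e, k, hk, hS, hd, he, heq⟩ := h.two_term h2 S hne
      obtain ⟨o, ho, r⟩ := rep_two (e := e) (by rcases he with rfl | rfl | rfl <;> simp) hk hd
      refine ⟨o, ho, ?_⟩
      rw [hS]
      convert r using 1
      exact term_eq heq (Nat.one_le_two_pow) (by rcases he with rfl | rfl | rfl <;> norm_num) hn0
  obtain ⟨o3, ho3, r3⟩ : ∃ o ∈ opts3, Rep o (Nat.card P) (12960000 * (Nat.card (ofExp G 3) : ℚ) / n) := by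
    obtain ⟨e, k, hk, hP, hd, he, heq⟩ := h.odd_term (by norm_num : (3 : ℕ) ≠ 2) h3 P
    have hes : e ∈ [1, 2, 4, 8, 5] := by
      rcases he with rfl | rfl | rfl | rfl | ⟨hp, e2, ep, ed⟩
      any_goals simp
      rcases h.prime_cases hp ed with e1 | e1 | e1 <;> simp_all
    obtain ⟨o, ho, r⟩ := rep_three hes hk hd
    refine ⟨o, ho, ?_⟩
    rw [hP]
    convert r using 1
    exact term_eq heq (Nat.one_le_pow _ _ (by norm_num)) (by fin_cases hes <;> norm_num) hn0
  obtain ⟨o5, ho5, r5⟩ : ∃ o ∈ opts5, Rep o (Nat.card Q) (12960000 * (Nat.card (ofExp G 5) : ℚ) / n) := by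
    obtain ⟨e, k, hk, hP, hd, he, heq⟩ := h.odd_term (by norm_num : (5 : ℕ) ≠ 2) h5 Q
    have hes : e ∈ [1, 2, 4, 8, 3] := by
      rcases he with rfl | rfl | rfl | rfl | ⟨hp, e2, ep, ed⟩
      any_goals simp
      rcases h.prime_cases hp ed with e1 | e1 | e1 <;> simp_all
    obtain ⟨o, ho, r⟩ := rep_five hes hk hd
    refine ⟨o, ho, ?_⟩
    rw [hP]
    convert r using 1
    exact term_eq heq (Nat.one_le_pow _ _ (by norm_num)) (by fin_cases hes <;> norm_num) hn0
  have hc := h.card_eq_three S P Q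
  rw [← hn] at hc
  have hsum := h.partition
  rw [← hn] at hsum
  rw [hc]
  refine solve ho2 ho3 ho5 r2 r3 r5 ?_
  rw [← hc]
  have hq : (n : ℚ) = 1 + Nat.card (ofExp G 4) + Nat.card (ofExp G 3) + Nat.card (ofExp G 5) := by
    exact_mod_cast hsum
  field_simp
  linarith
where
  term_eq {a n e X : ℕ} (heq : a * (e * X) = n * (X - 1)) (hX : 1 ≤ X) (he : 0 < e) (hn : (n : ℚ) ≠ 0) :
      12960000 * (a : ℚ) / n = 12960000 * ((X : ℚ) - 1) / ((e : ℚ) * X) := by
    have h := congrArg (Nat.cast : ℕ → ℚ) heq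
    push_cast [Nat.cast_sub hX] at h
    have hd : (e : ℚ) * X ≠ 0 := by
      have h1 : (0 : ℚ) < X := by exact_mod_cast hX
      have h2 : (0 : ℚ) < e := by exact_mod_cast he
      positivity
    rw [div_eq_div_iff hn hd]
    linear_combination 12960000 * h

/-- The structure theorem. -/
theorem Ord5.concl : ∀ (n : ℕ) (G : Type u) [Group G] [Finite G], Nat.card G = n → Ord5 G →
    ¬ Group.IsSolvable G → Concl G := by
  intro n
  induction n using Nat.strong_induction_on with
  | _ n ih =>
  intro G _ _ hn h hns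
  haveI : Fact (Nat.Prime 2) := ⟨Nat.prime_two⟩
  set R := Cfsg.pCore 2 G with hR
  have hRp : IsPGroup 2 R := Cores.pCore_isPGroup 2
  by_cases hR1 : R = ⊥
  · -- the group is simple
    have hsimple : ∀ N : Subgroup G, N.Normal → N = ⊥ ∨ N = ⊤ := by
      intro N hN
      by_contra hno
      push Not at hno
      haveI := hN
      obtain ⟨hNs, hNc⟩ := h.smaller_normal hns hR1 N hno.1
      have hlt : Nat.card N < n := hn ▸ lt_of_le_of_ne (Subgroup.card_le_card_group N)
        (fun e => hno.2 (Subgroup.eq_top_of_card_eq N e))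
      rcases (ih _ hlt N rfl (h.sub N) hNs).core_free hNc with he | he
      · obtain ⟨e⟩ := he; exact hno.2 (Almost.not_five h N e)
      · obtain ⟨e⟩ := he; exact hno.2 (Almost.not_six h N e)
    haveI : Nontrivial G := by
      by_contra hsub
      haveI := not_nontrivial_iff_subsingleton.1 hsub
      exact hns inferInstance
    haveI : IsSimpleGroup G := ⟨hsimple⟩
    have IH : ∀ (K : Subgroup G), K ≠ ⊤ → ¬ Group.IsSolvable K → Concl K := fun K hK hKs =>
      ih _ (hn ▸ lt_of_le_of_ne (Subgroup.card_le_card_group K) (fun e => hK (Subgroup.eq_top_of_card_eq K e)))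
        K rfl (h.sub K) hKs
    rcases h.card_simple hns IH with hc | hc
    · obtain ⟨e⟩ := S0494.result hc
      refine Or.inl ⟨⊥, inferInstance, ⟨inferInstance, fun a ha => ?_⟩, ⟨QuotientGroup.quotientBot.trans e⟩⟩
      rw [Subgroup.mem_bot] at ha
      rw [ha, one_pow]
    · exact Or.inr (S0497.result hc)
  · have hlt : Nat.card (G ⧸ R) < n := by
      rw [← hn, Subgroup.card_eq_card_quotient_mul_card_subgroup R]
      exact lt_mul_of_one_lt_right Nat.card_pos ((Subgroup.one_lt_card_iff_ne_bot R).2 hR1)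
    have hQs : ¬ Group.IsSolvable (G ⧸ R) := by
      intro hs
      haveI := hs
      haveI := S3992.isSolvable_of_isPGroup hRp
      exact hns (Group.isSolvable_of_ker_le_range R.subtype (QuotientGroup.mk' R)
        (by rw [QuotientGroup.ker_mk', Subgroup.range_subtype]))
    rcases (ih _ hlt (G ⧸ R) rfl (h.quot R) hQs).core_free (Cores.pCore_quotient_self 2) with he | he <;>
      obtain ⟨e⟩ := he
    · refine Or.inl ⟨R, inferInstance, ?_, ⟨e⟩⟩
      let π : G →* A5.A := e.toMonoidHom.comp (QuotientGroup.mk' R)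
      have hπ : Function.Surjective π := e.surjective.comp (QuotientGroup.mk'_surjective R)
      have hker : π.ker = R := by
        ext x
        rw [MonoidHom.mem_ker, ← QuotientGroup.eq_one_iff]
        exact e.map_eq_one_iff
      obtain ⟨y, t, -, hd⟩ := h.exists_dih π hπ hker hRp
      exact ⟨⟨⟨fun a b => Subtype.ext (hd.comm h hRp a.2 b.2)⟩⟩,
        fun a ha => (pow_two _).trans (hd.elementary h hRp ha)⟩
    · exfalso
      haveI : Fact (Nat.Prime 3) := ⟨Nat.prime_three⟩
      obtain ⟨P⟩ : Nonempty (Sylow 3 (G ⧸ R)) := inferInstance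
      have hP : Nat.card P = 9 := by
        have h3 : (360 : ℕ).factorization 3 = 2 := by
          rw [show (360 : ℕ) = 3 ^ 2 * 40 by norm_num, Nat.factorization_mul (by norm_num) (by norm_num),
            Nat.prime_three.factorization_pow, Finsupp.coe_add, Pi.add_apply, Finsupp.single_eq_same,
            Nat.factorization_eq_zero_of_not_dvd (by norm_num)]
        rw [P.card_eq_multiplicity, Nat.card_congr e.toEquiv, card_B, h3]
        rfl
      obtain ⟨T, hT, hTmap, -⟩ := exists_lift (p := 2) (q := 3) (by norm_num) R hRp P P.2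
      have h1 : 9 ≤ Nat.card T := by
        rw [← hP, ← hTmap]
        exact Nat.le_of_dvd Nat.card_pos (Subgroup.card_map_dvd T _)
      have h2 := h.card_le (p := 3) (q := 2) (by norm_num) (by norm_num) hT hRp hR1
        (by rw [Subgroup.normalizer_eq_top]; exact le_top)
      omega

end Cfsg.Agent.FiveOrders
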