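import Mathlib

/-!
# A 2-group with a fixed point free automorphism of odd order inverted by involutions

If `σ` has odd order and no nontrivial fixed point on the 2-group `D` and
`((σ^i τ) d · d)² = 1` for all `i` and `d`, then `D` has exponent two.
-/

set_option autoImplicit false
set_option linter.all false

namespace Cfsg.Agent.FiveOrders.Elementary

open scoped IsMulCommutative

universe u

section
variable {D : Type u} [Group D]

/-- The ordered product `x · σ x · … · σ^{k-1} x`. -/
def ordProd (σ : MulAut D) (x : D) : ℕ → D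
  | 0 => 1
  | k + 1 => ordProd σ x k * (σ ^ k) x

theorem ordProd_succ' (σ : MulAut D) (x : D) : ∀ k, ordProd σ x (k + 1) = x * σ (ordProd σ x k)
  | 0 => by simp [ordProd]
  | k + 1 => by
    show ordProd σ x (k + 1) * (σ ^ (k + 1)) x = x * σ (ordProd σ x k * (σ ^ k) x)
    rw [ordProd_succ' σ x k, map_mul, pow_succ' σ k, MulAut.mul_apply, mul_assoc]

theorem apply_ordProd (σ : MulAut D) (x : D) {n : ℕ} (hn : σ ^ n = 1) :
    σ (ordProd σ x n) = x⁻¹ * ordProd σ x n * x := by
  have h := ordProd_succ' σ x n
  change ordProd σ x n * (σ ^ n) x = _ at h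
  rw [hn, MulAut.one_apply] at h
  rw [mul_assoc, h, inv_mul_cancel_left]

theorem ordProd_eq_one {σ : MulAut D} (hfpf : ∀ d, σ d = d → d = 1) {n : ℕ} (hn : σ ^ n = 1)
    {z : D} (hz : z ∈ Subgroup.center D) : ordProd σ z n = 1 := by
  apply hfpf
  rw [apply_ordProd σ z hn, mul_assoc, (Subgroup.mem_center_iff.1 hz _), inv_mul_cancel_left]

theorem map_center_mem (σ : MulAut D) {z : D} (hz : z ∈ Subgroup.center D) :
    σ z ∈ Subgroup.center D := by
  rw [Subgroup.mem_center_iff] at hz ⊢
  intro g
  have := congrArg σ (hz (σ.symm g))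
  rwa [map_mul, map_mul, MulEquiv.apply_symm_apply] at this

theorem map_center (σ : MulAut D) :
    (Subgroup.center D).map σ.toMonoidHom = Subgroup.center D := by
  ext z
  constructor
  · rintro ⟨w, hw, rfl⟩; exact map_center_mem σ hw
  · intro hz; exact ⟨σ.symm z, map_center_mem σ.symm hz, σ.apply_symm_apply z⟩

/-- The automorphism induced on the central quotient. -/
def qAut (σ : MulAut D) : MulAut (D ⧸ Subgroup.center D) :=
  QuotientGroup.congr _ _ σ (map_center σ)

theorem qAut_mk (σ : MulAut D) (d : D) :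
    qAut σ (QuotientGroup.mk d) = QuotientGroup.mk (σ d) := rfl

theorem qAut_pow_mk (σ : MulAut D) : ∀ (i : ℕ) (d : D),
    (qAut σ ^ i) (QuotientGroup.mk d) = QuotientGroup.mk ((σ ^ i) d)
  | 0, d => rfl
  | i + 1, d => by
    rw [pow_succ' (qAut σ), MulAut.mul_apply, qAut_pow_mk σ i d, qAut_mk, ← MulAut.mul_apply,
      ← pow_succ']

/-- The commutator `v w v⁻¹ w⁻¹`. -/
def com (v w : D) : D := v * w * v⁻¹ * w⁻¹

theorem com_mul_left {a b w : D} (hb : com b w ∈ Subgroup.center D) :
    com (a * b) w = com a w * com b w := by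
  have h := Subgroup.mem_center_iff.1 hb
  calc com (a * b) w = a * com b w * (w * a⁻¹ * w⁻¹) := by simp only [com]; group
    _ = com b w * a * (w * a⁻¹ * w⁻¹) := by rw [h a]
    _ = com b w * com a w := by simp only [com]; group
    _ = com a w * com b w := (h _).symm

theorem com_mul_right {a b w : D} (hw : com a w ∈ Subgroup.center D) :
    com a (b * w) = com a b * com a w := by
  have h := Subgroup.mem_center_iff.1 hw
  calc com a (b * w) = a * b * a⁻¹ * com a w * b⁻¹ := by simp only [com]; group
    _ = a * b * a⁻¹ * (com a w * b⁻¹) := by rw [mul_assoc]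
    _ = a * b * a⁻¹ * (b⁻¹ * com a w) := by rw [h b⁻¹]
    _ = com a b * com a w := by simp only [com]; group

theorem com_map (σ : MulAut D) (v w : D) : com (σ v) (σ w) = σ (com v w) := by
  simp only [com, map_mul, map_inv]

theorem com_eq_one {v w : D} : com v w = 1 ↔ Commute v w := by
  rw [com, mul_inv_eq_one, mul_inv_eq_iff_eq_mul]
  exact Iff.rfl

end

theorem eq_one_of_pow_odd {D : Type u} [Group D] {n : ℕ} (hn : Odd n) {u : D} (hP : IsPGroup 2 D)
    (hu : u ^ n = 1) : u = 1 := by
  haveI : Fact (Nat.Prime 2) := ⟨Nat.prime_two⟩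
  obtain ⟨k, hk⟩ := IsPGroup.iff_orderOf.1 hP u
  have h1 := orderOf_dvd_of_pow_eq_one hu
  rw [hk] at h1
  rcases k with _ | k
  · rwa [pow_zero, orderOf_eq_one_iff] at hk
  · exact absurd (even_iff_two_dvd.2 ((dvd_pow_self 2 k.succ_ne_zero).trans h1))
      (Nat.not_even_iff_odd.2 hn)

theorem sq_eq_one : ∀ (N : ℕ) (D : Type u) [Group D] [Finite D], Nat.card D = N → IsPGroup 2 D →
    ∀ (σ τ : MulAut D) (n : ℕ), Odd n → σ ^ n = 1 → (∀ d, σ d = d → d = 1) →
      (∀ (i : ℕ) (d : D), ((σ ^ i) (τ d) * d) * ((σ ^ i) (τ d) * d) = 1) → ∀ d : D, d * d = 1 := by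
  intro N
  induction N using Nat.strong_induction_on with
  | _ N ih =>
  intro D _ _ hN hP σ τ n hnodd hn hfpf hrel
  haveI : Fact (Nat.Prime 2) := ⟨Nat.prime_two⟩
  rcases subsingleton_or_nontrivial D with hs | hs
  · exact fun d => Subsingleton.elim _ _
  -- no fixed points on the central quotient
  have hfq : ∀ d : D, σ d * d⁻¹ ∈ (Subgroup.center D) → d ∈ (Subgroup.center D) := by
    intro d hd
    let f : (Subgroup.center D) → (Subgroup.center D) := fun z => ⟨σ z * (z : D)⁻¹, mul_mem (map_center_mem σ z.2) (inv_mem z.2)⟩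
    have hinj : Function.Injective f := by
      intro a b hab
      have hab' : σ (a : D) * (a : D)⁻¹ = σ (b : D) * (b : D)⁻¹ := congrArg Subtype.val hab
      have hb' := Subgroup.mem_center_iff.1 (map_center_mem σ b.2)
      apply Subtype.ext
      rw [← inv_mul_eq_one]
      apply hfpf
      rw [map_mul, map_inv, eq_comm, ← inv_mul_eq_one]
      have h2 : σ (a : D) = σ (b : D) * (b : D)⁻¹ * a := by rw [← hab', inv_mul_cancel_right]
      rw [h2]
      have hc1 := Subgroup.mem_center_iff.1 b.2
      calc ((a : D)⁻¹ * b)⁻¹ * ((σ (b : D) * (b : D)⁻¹ * a)⁻¹ * σ (b : D))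
          = (b : D)⁻¹ * (b * (σ (b : D))⁻¹) * σ (b : D) := by group
        _ = 1 := by group
    obtain ⟨w, hw⟩ := (Finite.injective_iff_surjective.1 hinj) ⟨(σ d * d⁻¹)⁻¹, inv_mem hd⟩
    have hw' : σ (w : D) * (w : D)⁻¹ = (σ d * d⁻¹)⁻¹ := congrArg Subtype.val hw
    have hfix : σ (d * w) = d * w := by
      have hc := Subgroup.mem_center_iff.1 w.2
      have h3 : σ (w : D) = (σ d * d⁻¹)⁻¹ * w := by rw [← hw', inv_mul_cancel_right]
      rw [map_mul, h3]
      have h4 := Subgroup.mem_center_iff.1 hd
      calc σ d * ((σ d * d⁻¹)⁻¹ * w) = (σ d * d⁻¹) * d * (σ d * d⁻¹)⁻¹ * w := by group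
        _ = d * (σ d * d⁻¹) * (σ d * d⁻¹)⁻¹ * w := by rw [h4 d]
        _ = d * w := by group
    have h1 := hfpf _ hfix
    rw [mul_eq_one_iff_eq_inv] at h1
    exact h1 ▸ inv_mem w.2
  -- the central quotient has exponent two
  have hlt : Nat.card (D ⧸ (Subgroup.center D)) < N := by
    rw [← hN, Subgroup.card_eq_card_quotient_mul_card_subgroup (Subgroup.center D)]
    refine lt_mul_of_one_lt_right Nat.card_pos ?_
    haveI := hP.center_nontrivial
    exact Finite.one_lt_card
  have hquot : ∀ d : D, d * d ∈ (Subgroup.center D) := by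
    intro d
    refine (QuotientGroup.eq_one_iff _).1 (ih _ hlt (D ⧸ (Subgroup.center D)) rfl (hP.to_quotient (Subgroup.center D)) (qAut σ) (qAut τ) n
      hnodd ?_ ?_ ?_ (QuotientGroup.mk d))
    · refine MulEquiv.ext fun x => ?_
      induction x using QuotientGroup.induction_on with
      | _ x => rw [qAut_pow_mk, hn]; rfl
    · intro x
      induction x using QuotientGroup.induction_on with
      | _ x =>
        intro hx
        rw [qAut_mk] at hx
        refine (QuotientGroup.eq_one_iff _).2 (hfq x ?_)
        rw [← QuotientGroup.eq_one_iff, QuotientGroup.mk_mul, QuotientGroup.mk_inv, hx, mul_inv_cancel]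
    · intro i x
      induction x using QuotientGroup.induction_on with
      | _ x =>
        rw [qAut_mk, qAut_pow_mk, ← QuotientGroup.mk_mul, ← QuotientGroup.mk_mul, hrel,
          QuotientGroup.mk_one]
  have hcomq : ∀ v w : D, com v w ∈ (Subgroup.center D) := by
    intro v w
    rw [← QuotientGroup.eq_one_iff]
    have he : ∀ x : D ⧸ (Subgroup.center D), x * x = 1 := fun x => by
      induction x using QuotientGroup.induction_on with
      | _ x => exact (QuotientGroup.eq_one_iff _).2 (hquot x)
    have hinv : ∀ x : D ⧸ (Subgroup.center D), x⁻¹ = x := fun x => inv_eq_of_mul_eq_one_right (he x)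
    simp only [com, QuotientGroup.mk_mul, QuotientGroup.mk_inv, hinv]
    rw [mul_assoc, he]
  have hPn : ∀ x : D, ordProd σ x n ∈ (Subgroup.center D) := by
    intro x
    refine hfq _ ?_
    rw [apply_ordProd σ x hn]
    have := hcomq x⁻¹ (ordProd σ x n)
    simpa [com] using this
  -- central elements have order at most two
  have hZ2 : ∀ z ∈ (Subgroup.center D), z * z = 1 := by
    intro z hz
    have hw : τ (z * z) ∈ (Subgroup.center D) := map_center_mem τ (mul_mem hz hz)
    have hcon : ∀ i, (σ ^ i) (τ (z * z)) = (z * z)⁻¹ := by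
      intro i
      have h := hrel i z
      have hc := Subgroup.mem_center_iff.1 hz ((σ ^ i) (τ z))
      rw [map_mul, map_mul, eq_inv_iff_mul_eq_one, ← h]
      simp only [mul_assoc]
      congr 1
      rw [← mul_assoc z, ← hc, mul_assoc]
    have hpow : ∀ k, ordProd σ (τ (z * z)) k = ((z * z)⁻¹) ^ k := by
      intro k
      induction k with
      | zero => rw [ordProd, pow_zero]
      | succ k ihk => rw [ordProd, ihk, hcon, pow_succ]
    have h1 := ordProd_eq_one hfpf hn hw
    rw [hpow, inv_pow, inv_eq_one] at h1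
    exact eq_one_of_pow_odd hnodd hP h1
  -- commutators vanish
  have hcomm : ∀ v w : D, com v w = 1 := by
    intro v w
    have hinvol : ∀ i, com ((σ ^ i) (τ v) * v) ((σ ^ i) (τ w) * w) = 1 := by
      intro i
      set a := (σ ^ i) (τ v) * v with hadef
      set b := (σ ^ i) (τ w) * w with hbdef
      set e := (σ ^ i) (τ (v * w)) * (v * w) with hedef
      have ha : a * a = 1 := hrel i v
      have hb : b * b = 1 := hrel i w
      have he : e * e = 1 := hrel i (v * w)
      -- `a * b` differs from `e` by a central element of order two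
      set c := com v ((σ ^ i) (τ w)) with hcdef
      have hc : c ∈ (Subgroup.center D) := hcomq _ _
      have hab : a * b = c * e := by
        have hh := Subgroup.mem_center_iff.1 hc
        calc a * b = (σ ^ i) (τ v) * c * ((σ ^ i) (τ w) * (v * w)) := by
              simp only [hadef, hbdef, hcdef, com]; group
          _ = c * (σ ^ i) (τ v) * ((σ ^ i) (τ w) * (v * w)) := by rw [hh]
          _ = c * e := by simp only [hedef, map_mul, mul_assoc]
      have hsq : (a * b) * (a * b) = 1 := by
        rw [hab, mul_assoc, ← mul_assoc e c e, Subgroup.mem_center_iff.1 hc e, mul_assoc c e e, he,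
          mul_one, hZ2 c hc]
      refine com_eq_one.2 ?_
      show a * b = b * a
      rw [← inv_eq_of_mul_eq_one_right hsq, mul_inv_rev, inv_eq_of_mul_eq_one_right ha,
        inv_eq_of_mul_eq_one_right hb]
    -- products along the orbit of `σ`
    let A : ℕ → (Subgroup.center D) := fun i => ⟨com ((σ ^ i) (τ v)) ((σ ^ i) (τ w)), hcomq _ _⟩
    let B : ℕ → (Subgroup.center D) := fun i => ⟨com ((σ ^ i) (τ v)) w, hcomq _ _⟩
    let C : ℕ → (Subgroup.center D) := fun i => ⟨com v ((σ ^ i) (τ w)), hcomq _ _⟩
    have hA : ∀ k, ((∏ i ∈ Finset.range k, A i : (Subgroup.center D)) : D) = ordProd σ (τ (com v w)) k := by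
      intro k
      induction k with
      | zero => rfl
      | succ k ihk =>
        rw [Finset.prod_range_succ, Subgroup.coe_mul, ihk, ordProd]
        show _ * com _ _ = _
        rw [com_map, com_map]
    have hB : ∀ k, ((∏ i ∈ Finset.range k, B i : (Subgroup.center D)) : D) = com (ordProd σ (τ v) k) w := by
      intro k
      induction k with
      | zero => simp [ordProd, com]
      | succ k ihk => rw [Finset.prod_range_succ, Subgroup.coe_mul, ihk, ordProd, com_mul_left (hcomq _ _)]
    have hC : ∀ k, ((∏ i ∈ Finset.range k, C i : (Subgroup.center D)) : D) = com v (ordProd σ (τ w) k) := by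
      intro k
      induction k with
      | zero => simp [ordProd, com]
      | succ k ihk => rw [Finset.prod_range_succ, Subgroup.coe_mul, ihk, ordProd, com_mul_right (hcomq _ _)]
    have hprod : ∀ i, A i * B i * (C i * ⟨com v w, hcomq v w⟩) = 1 := by
      intro i
      apply Subtype.ext
      show com _ _ * com _ _ * (com _ _ * com _ _) = 1
      rw [← com_mul_right (hcomq _ _), ← com_mul_right (hcomq _ _), ← com_mul_left (hcomq _ _)]
      exact hinvol i
    have hall : (∏ i ∈ Finset.range n, A i * B i * (C i * ⟨com v w, hcomq v w⟩)) = (1 : (Subgroup.center D)) :=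
      Finset.prod_eq_one fun i _ => hprod i
    rw [Finset.prod_mul_distrib, Finset.prod_mul_distrib, Finset.prod_mul_distrib, Finset.prod_const,
      Finset.card_range] at hall
    have hall' := congrArg (Subtype.val) hall
    simp only [Subgroup.coe_mul, hA, hB, hC, SubmonoidClass.coe_pow, Subgroup.coe_one] at hall'
    rw [ordProd_eq_one hfpf hn (map_center_mem τ (hcomq v w))] at hall'
    have h1 : com (ordProd σ (τ v) n) w = 1 :=
      com_eq_one.2 (show _ = _ from (Subgroup.mem_center_iff.1 (hPn _) w).symm)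
    have h2 : com v (ordProd σ (τ w) n) = 1 :=
      com_eq_one.2 (show _ = _ from Subgroup.mem_center_iff.1 (hPn _) v)
    rw [h1, h2, one_mul, one_mul, one_mul] at hall'
    exact eq_one_of_pow_odd hnodd hP hall'
  intro d
  exact hZ2 d (Subgroup.mem_center_iff.2 fun g => com_eq_one.1 (hcomm g d))

end Cfsg.Agent.FiveOrders.Elementary
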