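import Cfsg.Agent.Lib.FiveOrders.Local

/-!
# Extensions of a 2-group by the alternating group of degree five
-/

set_option autoImplicit false
set_option linter.all false

namespace Cfsg.Agent.FiveOrders

universe u

namespace A5

abbrev A : Type := ↥(alternatingGroup (Fin 5))

def yb : A := ⟨Equiv.swap 0 1 * Equiv.swap 1 4, Equiv.Perm.mem_alternatingGroup.2 (by decide)⟩
def tb : A := ⟨Equiv.swap 1 2 * Equiv.swap 2 3, Equiv.Perm.mem_alternatingGroup.2 (by decide)⟩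
def w1 : A := ⟨Equiv.swap 0 1 * Equiv.swap 2 3, Equiv.Perm.mem_alternatingGroup.2 (by decide)⟩
def w2 : A := tb * w1 * tb⁻¹
def w3 : A := tb * w2 * tb⁻¹
def fb : A := ⟨Equiv.swap 0 1 * Equiv.swap 1 2 * Equiv.swap 2 3 * Equiv.swap 3 4, Equiv.Perm.mem_alternatingGroup.2 (by decide)⟩

theorem facts : yb * yb * yb = 1 ∧ yb ≠ 1 ∧ w1 * yb * w1⁻¹ = yb⁻¹ ∧ w1 * w1 = 1 ∧ w1 ≠ 1 ∧
    tb * tb * tb = 1 ∧ tb ≠ 1 ∧ w1 * w2 * w3 = 1 := by decide +kernel

theorem facts' : w2 ≠ 1 ∧ w3 ≠ 1 ∧ w1 ≠ w2 ∧ w1 ≠ w3 ∧ w2 ≠ w3 ∧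
    (w1 * tb) ^ 3 = 1 ∧ w1 * tb ≠ 1 ∧ (w2 * tb) ^ 3 = 1 ∧ w2 * tb ≠ 1 ∧
    (w3 * tb) ^ 3 = 1 ∧ w3 * tb ≠ 1 ∧ fb ^ 5 = 1 ∧ fb ≠ 1 := by decide +kernel

theorem four : ∀ g : A, g ^ 4 = 1 → (g * w1) ^ 4 = 1 → (g * w2) ^ 4 = 1 → (g * w3) ^ 4 = 1 →
    g = 1 ∨ g = w1 ∨ g = w2 ∨ g = w3 := by decide +kernel

theorem five : ∀ g : A, g ^ 5 = 1 → (g * w1 * g⁻¹ = w1 ∨ g * w1 * g⁻¹ = w2 ∨ g * w1 * g⁻¹ = w3) → g = 1 := by
  decide +kernel

theorem card_A : Nat.card A = 60 := by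
  rw [nat_card_alternatingGroup, Nat.card_eq_fintype_card, Fintype.card_fin]
  rfl

end A5

variable {H : Type u} [Group H] [Finite H]

theorem Ord5.lift_order (h : Ord5 H) (π : H →* A5.A) {g : H} {a : A5.A} {p : ℕ} [Fact p.Prime]
    (hp2 : p ≠ 2) (hg : π g = a) (ha : a ^ p = 1) (ha1 : a ≠ 1) : orderOf g = p :=
  h.orderOf_lift π Fact.out hp2 (hg ▸ orderOf_eq_prime ha ha1)

theorem Ord5.fpf_two (h : Ord5 H) {D : Subgroup H} (hD : IsPGroup 2 D) {g d : H} {p : ℕ} (hp : p.Prime)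
    (hp2 : p ≠ 2) (hg : orderOf g = p) (hd : d ∈ D) (hc : Commute g d) : d = 1 := by
  haveI : Fact (Nat.Prime 2) := ⟨Nat.prime_two⟩
  by_contra hd1
  obtain ⟨k, hk⟩ := IsPGroup.iff_orderOf.1 hD ⟨d, hd⟩
  rw [Subgroup.orderOf_mk] at hk
  have hk0 : k ≠ 0 := fun e => hd1 (orderOf_eq_one_iff.1 (by rw [hk, e, pow_zero]))
  exact hp2 (h.eq_of_commute Nat.prime_two hp hc.symm (hk ▸ dvd_pow_self 2 hk0) hg).symm

/-- An involution over a given involution inverting a given element of order three. -/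
theorem Ord5.exists_dih (h : Ord5 H) (π : H →* A5.A) (hπ : Function.Surjective π) {D : Subgroup H}
    [D.Normal] (hker : π.ker = D) (hD : IsPGroup 2 D) :
    ∃ y t : H, π t = A5.w1 ∧ Dih D 3 y t := by
  haveI : Fact (Nat.Prime 3) := ⟨Nat.prime_three⟩
  obtain ⟨hy3, hy1, hinv, hw, hw1, -⟩ := A5.facts
  obtain ⟨y, hy⟩ := hπ A5.yb
  obtain ⟨n, hn⟩ := hπ A5.w1
  have hyo : orderOf y = 3 := h.lift_order π (by norm_num) hy (by rw [pow_succ, pow_two]; exact hy3) hy1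
  have hyo' : orderOf y⁻¹ = 3 := by rw [orderOf_inv, hyo]
  have hmemD : ∀ x : H, π x = 1 → x ∈ D := fun x hx => hker ▸ MonoidHom.mem_ker.2 hx
  have hconj : ∀ d : D, y * ((d : H) * y⁻¹ * (d : H)⁻¹) ∈ D := fun d => by
    have := D.mul_mem (Subgroup.Normal.conj_mem inferInstance (d : H) d.2 y) (D.inv_mem d.2)
    simpa [mul_assoc] using this
  let f : D → D := fun d => ⟨y * ((d : H) * y⁻¹ * (d : H)⁻¹), hconj d⟩
  have hf : Function.Injective f := by
    intro a b e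
    have e' : (a : H) * y⁻¹ * (a : H)⁻¹ = b * y⁻¹ * (b : H)⁻¹ := mul_left_cancel (congrArg Subtype.val e)
    apply Subtype.ext
    rw [eq_comm, ← inv_mul_eq_one]
    refine h.fpf_two hD Nat.prime_three (by norm_num) hyo' (mul_mem (inv_mem b.2) a.2) ?_
    show y⁻¹ * ((b : H)⁻¹ * a) = (b : H)⁻¹ * a * y⁻¹
    calc y⁻¹ * ((b : H)⁻¹ * a) = (b : H)⁻¹ * (b * y⁻¹ * (b : H)⁻¹) * a := by group
      _ = (b : H)⁻¹ * a * y⁻¹ := by rw [← e']; group
  have htarget : y * (n * y * n⁻¹) ∈ D := hmemD _ (by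
    rw [map_mul, map_mul, map_mul, map_inv, hn, hy, hinv, mul_inv_cancel])
  obtain ⟨d, hd⟩ := (Finite.injective_iff_surjective.1 hf) ⟨_, htarget⟩
  have hd' : (d : H) * y⁻¹ * (d : H)⁻¹ = n * y * n⁻¹ := mul_left_cancel (congrArg Subtype.val hd)
  set t := (d : H)⁻¹ * n with ht
  have hdker : π (d : H) = 1 := MonoidHom.mem_ker.1 (hker.symm ▸ d.2)
  have hπt : π t = A5.w1 := by rw [ht, map_mul, map_inv, hdker, inv_one, one_mul, hn]
  have hty : t * y * t⁻¹ = y⁻¹ := by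
    rw [ht]
    calc (d : H)⁻¹ * n * y * ((d : H)⁻¹ * n)⁻¹ = (d : H)⁻¹ * (n * y * n⁻¹) * d := by group
      _ = y⁻¹ := by rw [← hd']; group
  have htt : t * t = 1 := by
    refine h.fpf_two hD Nat.prime_three (by norm_num) hyo (hmemD _ (by rw [map_mul, hπt, hw])) ?_
    show y * (t * t) = t * t * y
    symm
    calc t * t * y = t * (t * y * t⁻¹) * t⁻¹ * (t * t) := by group
      _ = (t * y * t⁻¹)⁻¹ * (t * t) := by rw [hty]; nth_rewrite 2 [← hty]; group
      _ = y * (t * t) := by rw [hty, inv_inv]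
  have hti : t⁻¹ = t := inv_eq_of_mul_eq_one_right htt
  exact ⟨y, t, hπt, Or.inl rfl, by rw [Subgroup.normalizer_eq_top]; trivial,
    by rw [Subgroup.normalizer_eq_top]; trivial, hyo, htt, by rw [hti] at hty; exact hty,
    fun e => hw1 (by rw [← hπt, e, map_one])⟩

/-- The local subgroup with quotient `A₅`. -/
theorem local_a5 (h : Ord5 H) (π : H →* A5.A) (hπ : Function.Surjective π) (D : Subgroup H) [D.Normal]
    (hker : π.ker = D) (hD : IsPGroup 2 D) (hD1 : D ≠ ⊥) :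
    ∃ W C : Subgroup H, Loc D W C ∧ LocalOK D W C := by
  haveI : Fact (Nat.Prime 2) := ⟨Nat.prime_two⟩
  haveI : Fact (Nat.Prime 3) := ⟨Nat.prime_three⟩
  haveI : Fact (Nat.Prime 5) := ⟨by norm_num⟩
  obtain ⟨-, -, -, hw, hw1, htb, htb1, hprod⟩ := A5.facts
  obtain ⟨hw2ne, hw3ne, h12, h13, h23, g1, g1', g2, g2', g3, g3', hf5, hf1⟩ := A5.facts'
  obtain ⟨y, t, hπt, hd⟩ := h.exists_dih π hπ hker hD
  have hmemD : ∀ x : H, π x = 1 → x ∈ D := fun x hx => hker ▸ MonoidHom.mem_ker.2 hx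
  have hπD : ∀ x ∈ D, π x = 1 := fun x hx => MonoidHom.mem_ker.1 (hker.symm ▸ hx)
  obtain ⟨τ, hτ⟩ := hπ A5.tb
  have hτo : orderOf τ = 3 := h.lift_order π (by norm_num) hτ (by rw [pow_succ, pow_two]; exact htb) htb1
  have hτ3 : τ * τ * τ = 1 := by rw [← pow_two, ← pow_succ, show 2 + 1 = orderOf τ from hτo.symm]; exact pow_orderOf_eq_one τ
  have htt := hd.t_sq
  have hti : t⁻¹ = t := hd.t_inv
  set t2 := τ * t * τ⁻¹ with ht2
  set t3 := τ * t2 * τ⁻¹ with ht3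
  have hπ2 : π t2 = A5.w2 := by rw [ht2, map_mul, map_mul, map_inv, hτ, hπt]; rfl
  have hπ3 : π t3 = A5.w3 := by rw [ht3, map_mul, map_mul, map_inv, hτ, hπ2]; rfl
  have ht2s : t2 * t2 = 1 := conj_sq htt
  have ht3s : t3 * t3 = 1 := conj_sq ht2s
  have hτ3' : τ * t3 * τ⁻¹ = t := by
    rw [ht3, ht2]
    calc τ * (τ * (τ * t * τ⁻¹) * τ⁻¹) * τ⁻¹ = (τ * τ * τ) * t * (τ * τ * τ)⁻¹ := by group
      _ = t := by rw [hτ3, one_mul, inv_one, mul_one]
  -- the product of the three involutions is trivial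
  have hz : t * t2 * t3 = 1 := by
    refine h.fpf_two hD Nat.prime_three (by norm_num)
      (h.lift_order π (g := t * τ) (a := A5.w1 * A5.tb) (by norm_num) (by rw [map_mul, hπt, hτ]) g1 g1')
      (hmemD _ (by rw [map_mul, map_mul, hπt, hπ2, hπ3, hprod])) ?_
    apply mul_inv_eq_iff_eq_mul.1
    calc t * τ * (t * t2 * t3) * (t * τ)⁻¹
        = t * ((τ * t * τ⁻¹) * (τ * t2 * τ⁻¹) * (τ * t3 * τ⁻¹)) * t⁻¹ := by group
      _ = t * t2 * t3 := by rw [← ht2, ← ht3, hτ3']; group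
  have m12 : t * t2 = t3 := by
    rw [mul_eq_one_iff_eq_inv, inv_of_sq ht3s] at hz; exact hz
  have m23 : t2 * t3 = t := by
    calc t2 * t3 = (τ * t * τ⁻¹) * (τ * t2 * τ⁻¹) := by rw [← ht2, ← ht3]
      _ = τ * (t * t2) * τ⁻¹ := by group
      _ = t := by rw [m12, hτ3']
  have m31 : t3 * t = t2 := by
    calc t3 * t = (τ * t2 * τ⁻¹) * (τ * t3 * τ⁻¹) := by rw [← ht3, hτ3']
      _ = τ * (t2 * t3) * τ⁻¹ := by group
      _ = t2 := by rw [m23]
  have m21 : t2 * t = t3 := by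
    rw [← inv_of_sq ht3s, ← m12, mul_inv_rev, inv_of_sq ht2s, hti]
  have m32 : t3 * t2 = t := by
    conv_rhs => rw [← hti, ← m23, mul_inv_rev, inv_of_sq ht3s, inv_of_sq ht2s]
  have m13 : t * t3 = t2 := by
    rw [← inv_of_sq ht2s, ← m31, mul_inv_rev, inv_of_sq ht3s, hti]
  let W : Subgroup H :=
    { carrier := {x | x = 1 ∨ x = t ∨ x = t2 ∨ x = t3}
      one_mem' := Or.inl rfl
      mul_mem' := by
        rintro a b (rfl | rfl | rfl | rfl) (rfl | rfl | rfl | rfl) <;>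
          simp [htt, ht2s, ht3s, m12, m23, m31, m21, m32, m13]
      inv_mem' := by
        rintro a (rfl | rfl | rfl | rfl) <;> simp [hti, inv_of_sq ht2s, inv_of_sq ht3s] }
  have hW : ∀ w : H, w ∈ W ↔ w = 1 ∨ w = t ∨ w = t2 ∨ w = t3 := fun w => Iff.rfl
  have hne : t ≠ 1 ∧ t2 ≠ 1 ∧ t3 ≠ 1 ∧ t ≠ t2 ∧ t ≠ t3 ∧ t2 ≠ t3 :=
    ⟨hd.t_ne, fun e => hw2ne (by rw [← hπ2, e, map_one]), fun e => hw3ne (by rw [← hπ3, e, map_one]),
      fun e => h12 (by rw [← hπt, ← hπ2, e]), fun e => h13 (by rw [← hπt, ← hπ3, e]),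
      fun e => h23 (by rw [← hπ2, ← hπ3, e])⟩
  obtain ⟨n1, n2, n3, n12, n13, n23⟩ := hne
  have hcW : Nat.card W = 4 := by
    rw [show Nat.card W = ({1, t, t2, t3} : Set H).ncard from Nat.card_coe_set_eq _,
      Set.ncard_insert_of_notMem (by simp [Ne.symm n1, Ne.symm n2, Ne.symm n3]),
      Set.ncard_insert_of_notMem (by simp [n12, n13]), Set.ncard_pair n23]
  -- the action on `D`
  have hcomm : ∀ a b : D, a * b = b * a := fun a b => Subtype.ext (hd.comm h hD a.2 b.2)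
  letI : CommGroup D := { (inferInstance : Group D) with mul_comm := hcomm }
  let σ : H →* MulAut D := MulAut.conjNormal
  have hσ : ∀ (g : H) (x : D), ((σ g x : D) : H) = g * x * g⁻¹ := fun g x => MulAut.conjNormal_apply g x
  have hsq : ∀ x : D, x * x = 1 := fun x => Subtype.ext (hd.elementary h hD x.2)
  have horb : ∀ g : H, orderOf g = 3 → ∀ x : D, x * σ g x * σ (g * g) x = 1 := by
    intro g hg x
    have h3 : σ (g * (g * g)) x = x := by
      rw [← mul_assoc, ← pow_two, ← pow_succ, show 2 + 1 = orderOf g from hg.symm, pow_orderOf_eq_one,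
        map_one, MulAut.one_apply]
    have hfix : σ g (x * σ g x * σ (g * g) x) = x * σ g x * σ (g * g) x := by
      rw [map_mul (σ g), map_mul (σ g), ← MulAut.mul_apply, ← map_mul σ g g, ← MulAut.mul_apply,
        ← map_mul σ g (g * g), h3]
      ac_rfl
    have e := congrArg Subtype.val hfix
    rw [hσ] at e
    exact Subtype.ext (h.fpf_two hD Nat.prime_three (by norm_num) hg (x * σ g x * σ (g * g) x).2
      (mul_inv_eq_iff_eq_mul.1 e))
  have hN : ∀ d : D, d * σ t d * (σ t2 d * σ t3 d) = 1 := by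
    intro d
    have o0 := horb τ hτo d
    have o1 := horb (t * τ) (h.lift_order π (g := t * τ) (a := A5.w1 * A5.tb) (by norm_num) (by rw [map_mul, hπt, hτ]) g1 g1') d
    have o2 := horb (t2 * τ) (h.lift_order π (g := t2 * τ) (a := A5.w2 * A5.tb) (by norm_num) (by rw [map_mul, hπ2, hτ]) g2 g2') d
    have o3 := horb (t3 * τ) (h.lift_order π (g := t3 * τ) (a := A5.w3 * A5.tb) (by norm_num) (by rw [map_mul, hπ3, hτ]) g3 g3') d
    have e1 : t * τ * (t * τ) = t3 * (τ * τ) := by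
      calc t * τ * (t * τ) = t * (τ * t * τ⁻¹) * (τ * τ) := by group
        _ = t3 * (τ * τ) := by rw [← ht2, m12]
    have e2 : t2 * τ * (t2 * τ) = t * (τ * τ) := by
      calc t2 * τ * (t2 * τ) = t2 * (τ * t2 * τ⁻¹) * (τ * τ) := by group
        _ = t * (τ * τ) := by rw [← ht3, m23]
    have e3 : t3 * τ * (t3 * τ) = t2 * (τ * τ) := by
      calc t3 * τ * (t3 * τ) = t3 * (τ * t3 * τ⁻¹) * (τ * τ) := by group
        _ = t2 * (τ * τ) := by rw [hτ3', m31]
    rw [e1, map_mul σ t, map_mul σ t3, MulAut.mul_apply, MulAut.mul_apply] at o1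
    rw [e2, map_mul σ t2, map_mul σ t, MulAut.mul_apply, MulAut.mul_apply] at o2
    rw [e3, map_mul σ t3, map_mul σ t2, MulAut.mul_apply, MulAut.mul_apply] at o3
    set a := σ τ d with ha
    set b := σ (τ * τ) d with hb
    have hab : a * σ t a * (σ t2 a * σ t3 a) * (b * σ t b * (σ t2 b * σ t3 b)) = 1 := by
      calc a * σ t a * (σ t2 a * σ t3 a) * (b * σ t b * (σ t2 b * σ t3 b))
          = (d * d) * (d * d) * (a * σ t a * (σ t2 a * σ t3 a) * (b * σ t b * (σ t2 b * σ t3 b))) := by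
            rw [hsq d, one_mul, one_mul]
        _ = (d * a * b) * (d * σ t a * σ t3 b) * ((d * σ t2 a * σ t b) * (d * σ t3 a * σ t2 b)) := by ac_rfl
        _ = 1 := by rw [o0, o1, o2, o3, one_mul, one_mul]
    calc d * σ t d * (σ t2 d * σ t3 d)
        = d * σ t d * (σ t2 d * σ t3 d) * (a * σ t a * (σ t2 a * σ t3 a) * (b * σ t b * (σ t2 b * σ t3 b))) := by
          rw [hab, mul_one]
      _ = (d * a * b) * σ t (d * a * b) * (σ t2 (d * a * b) * σ t3 (d * a * b)) := by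
          simp only [map_mul]; ac_rfl
      _ = 1 := by rw [o0, map_one, map_one, map_one, one_mul, one_mul]
  -- all involutions of `W` have the same fixed points
  have k12 : ∀ v ∈ D, Commute t v → Commute t2 v := by
    intro v hv hc
    obtain ⟨d, hdD, hdv⟩ := hd.exists_preimage h hD hv (by rw [hc.eq, mul_assoc, htt, mul_one])
    have hve : (⟨v, hv⟩ : D) = ⟨d, hdD⟩ * σ t ⟨d, hdD⟩ := Subtype.ext (by
      show v = d * (σ t ⟨d, hdD⟩ : D)
      rw [hσ, hti, ← hdv])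
    have hfix : σ t2 ⟨v, hv⟩ = ⟨v, hv⟩ := by
      rw [hve, map_mul (σ t2), ← MulAut.mul_apply, ← map_mul σ t2 t, m21]
      calc σ t2 ⟨d, hdD⟩ * σ t3 ⟨d, hdD⟩
          = ((⟨d, hdD⟩ : D) * σ t ⟨d, hdD⟩ * (⟨d, hdD⟩ * σ t ⟨d, hdD⟩)) * (σ t2 ⟨d, hdD⟩ * σ t3 ⟨d, hdD⟩) := by
            rw [hsq, one_mul]
        _ = (⟨d, hdD⟩ * σ t ⟨d, hdD⟩) * ((⟨d, hdD⟩ : D) * σ t ⟨d, hdD⟩ * (σ t2 ⟨d, hdD⟩ * σ t3 ⟨d, hdD⟩)) := by
            ac_rfl
        _ = ⟨d, hdD⟩ * σ t ⟨d, hdD⟩ := by rw [hN, mul_one]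
    have e := congrArg Subtype.val hfix
    rw [hσ] at e
    exact mul_inv_eq_iff_eq_mul.1 e
  have hstep : ∀ a b : H, τ * a * τ⁻¹ = b → ∀ v : H, Commute b v ↔ Commute a (τ⁻¹ * v * τ) := by
    intro a b hab v
    subst hab
    constructor <;> intro e
    · show a * (τ⁻¹ * v * τ) = τ⁻¹ * v * τ * a
      calc a * (τ⁻¹ * v * τ) = τ⁻¹ * ((τ * a * τ⁻¹) * v) * τ := by group
        _ = τ⁻¹ * v * τ * a := by rw [e.eq]; group
    · show τ * a * τ⁻¹ * v = v * (τ * a * τ⁻¹)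
      calc τ * a * τ⁻¹ * v = τ * (a * (τ⁻¹ * v * τ)) * τ⁻¹ := by group
        _ = v * (τ * a * τ⁻¹) := by rw [e.eq]; group
  have hDc : ∀ v ∈ D, τ⁻¹ * v * τ ∈ D := fun v hv => by
    have := Subgroup.Normal.conj_mem inferInstance v hv τ⁻¹
    rwa [inv_inv] at this
  have k23 : ∀ v ∈ D, Commute t2 v → Commute t3 v := fun v hv hc =>
    (hstep t2 t3 ht3.symm v).2 (k12 _ (hDc v hv) ((hstep t t2 ht2.symm v).1 hc))
  have k31 : ∀ v ∈ D, Commute t3 v → Commute t v := fun v hv hc =>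
    (hstep t3 t hτ3' v).2 (k23 _ (hDc v hv) ((hstep t2 t3 ht3.symm v).1 hc))
  set C := D ⊓ Subgroup.centralizer ({t} : Set H) with hC
  have hmemC : ∀ v : H, v ∈ C ↔ v ∈ D ∧ Commute t v := by
    intro v
    rw [hC, Subgroup.mem_inf, Subgroup.mem_centralizer_iff]
    exact and_congr_right fun _ => ⟨fun e => e t rfl, fun e b hb => by rw [Set.mem_singleton_iff.1 hb]; exact e⟩
  have hcD := hd.card_eq h hD
  rw [← hC] at hcD
  obtain ⟨f, hf⟩ := hπ A5.fb
  have hfo : orderOf f = 5 := h.lift_order π (by norm_num) hf hf5 hf1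
  have hC4 : 4 ≤ Nat.card C := by
    obtain ⟨k, hk⟩ := (hD.to_le (inf_le_left : C ≤ D)).exists_card_eq
    have hk2 : 2 ≤ k := by
      by_contra hlt
      have hf' : IsPGroup 5 (Subgroup.zpowers f) :=
        IsPGroup.of_card (n := 1) (by rw [Nat.card_zpowers, hfo, pow_one])
      rcases k with _ | _ | k
      · rw [hk, pow_zero, one_mul] at hcD
        exact hD1 (Subgroup.card_eq_one.1 hcD)
      · obtain ⟨z, hzD, hz1, hzc⟩ := exists_commute hf'
          (K := D) (by rw [Subgroup.normalizer_eq_top]; trivial) (by rw [hcD, hk]; norm_num)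
        exact hz1 (h.fpf_two hD (by norm_num : Nat.Prime 5) (by norm_num) hfo hzD hzc)
      · omega
    rw [hk]; exact Nat.pow_le_pow_right two_pos hk2
  have hπW : ∀ w ∈ W, π w = 1 ∨ π w = A5.w1 ∨ π w = A5.w2 ∨ π w = A5.w3 := by
    rintro w (rfl | rfl | rfl | rfl) <;> simp [hπt, hπ2, hπ3]
  have L : Loc D W C :=
    { hD := fun d hdd => hd.elementary h hD hdd
      hW := by rintro w (rfl | rfl | rfl | rfl); exacts [one_mul 1, htt, ht2s, ht3s]
      hWD := fun w _ => by rw [Subgroup.normalizer_eq_top]; trivial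
      disj := by
        rintro x hxD (rfl | rfl | rfl | rfl)
        · rfl
        · exact absurd (hπt.symm.trans (hπD _ hxD)) hw1
        · exact absurd (hπ2.symm.trans (hπD _ hxD)) hw2ne
        · exact absurd (hπ3.symm.trans (hπD _ hxD)) hw3ne
      hC := inf_le_left
      hCW := by
        intro c hc w hwW
        obtain ⟨hcD', hc1⟩ := (hmemC c).1 hc
        rcases hwW with rfl | rfl | rfl | rfl
        exacts [Commute.one_left c, hc1, k12 c hcD' hc1, k23 c hcD' (k12 c hcD' hc1)]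
      hfix := by
        intro w hwW hne d hdd hc
        refine (hmemC d).2 ⟨hdd, ?_⟩
        rcases hwW with rfl | rfl | rfl | rfl
        exacts [absurd rfl hne, hc, k31 d hdd (k23 d hdd hc), k31 d hdd hc]
      card_D := hcD
      card_W := hcW ▸ hC4
      W_ne := fun e => by rw [e, Subgroup.card_bot] at hcW; norm_num at hcW
      hmax := by
        intro X hX hle _ x hx
        have hmem : ∀ w ∈ W, π (x * w) ^ 4 = 1 := fun w hwW => by
          rw [← map_pow, h.two_pow_four hX (mul_mem hx (hle (Subgroup.mem_sup_right hwW))), map_one]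
        have m0 := hmem 1 (one_mem W)
        have m1 := hmem t (Or.inr (Or.inl rfl))
        have m2 := hmem t2 (Or.inr (Or.inr (Or.inl rfl)))
        have m3 := hmem t3 (Or.inr (Or.inr (Or.inr rfl)))
        rw [mul_one] at m0
        rw [map_mul, hπt] at m1
        rw [map_mul, hπ2] at m2
        rw [map_mul, hπ3] at m3
        obtain ⟨w, hwW, hxw⟩ : ∃ w ∈ W, π w = π x := by
          rcases A5.four (π x) m0 m1 m2 m3 with e | e | e | e <;> rw [e]
          exacts [⟨1, one_mem W, map_one π⟩, ⟨t, Or.inr (Or.inl rfl), hπt⟩,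
            ⟨t2, Or.inr (Or.inr (Or.inl rfl)), hπ2⟩, ⟨t3, Or.inr (Or.inr (Or.inr rfl)), hπ3⟩]
        have hmD : x * w⁻¹ ∈ D := hmemD _ (by rw [map_mul, map_inv, hxw, mul_inv_cancel])
        rw [← inv_mul_cancel_right x w]
        exact mul_mem (Subgroup.mem_sup_left hmD) (Subgroup.mem_sup_right hwW) }
  refine ⟨W, C, L, fun he => ?_⟩
  rw [hcW] at he
  have hH : Nat.card H = 960 := by
    rw [← Subgroup.card_mul_index π.ker, Subgroup.index_ker, MonoidHom.range_eq_top.2 hπ, Subgroup.card_top,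
      A5.card_A, hker, hcD, ← he]
  have hD16 : Nat.card D = 16 := by rw [hcD, ← he]
  have hU : Nat.card (D ⊔ W : Subgroup H) = 64 := by rw [L.card_U, hD16, hcW]
  refine ⟨L.trans_of_card h (by rw [hH, hU, hD16]), Or.inr ⟨he.symm, ?_⟩⟩
  set N := Subgroup.normalizer ((D ⊔ W : Subgroup H) : Set H) with hNdef
  have hτN : τ ∈ N := by
    refine mem_normalizer_of_conj fun x hx => ?_
    obtain ⟨d, hdd, w, hwW, rfl⟩ := L.mem_U.1 hx
    rw [show τ * (d * w) * τ⁻¹ = (τ * d * τ⁻¹) * (τ * w * τ⁻¹) by group]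
    refine mul_mem (Subgroup.mem_sup_left (Subgroup.Normal.conj_mem inferInstance d hdd τ)) (Subgroup.mem_sup_right ?_)
    rcases hwW with rfl | rfl | rfl | rfl
    · simp
    · exact Or.inr (Or.inr (Or.inl rfl))
    · exact Or.inr (Or.inr (Or.inr rfl))
    · exact Or.inr (Or.inl hτ3')
  have h192 : 192 ∣ Nat.card N :=
    Nat.Coprime.mul_dvd_of_dvd_of_dvd (by norm_num : Nat.Coprime 64 3)
      (hU ▸ Subgroup.card_dvd_of_le Subgroup.le_normalizer) (hτo ▸ Subgroup.orderOf_dvd_natCard N hτN)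
  have hdvd : Nat.card N ∣ 192 * 5 := by
    rw [show (192 : ℕ) * 5 = Nat.card H by rw [hH]]
    exact Subgroup.card_subgroup_dvd_card N
  obtain ⟨j, hj⟩ := h192
  rw [hj] at hdvd
  rcases (Nat.dvd_prime (by norm_num : Nat.Prime 5)).1 (Nat.dvd_of_mul_dvd_mul_left (by norm_num) hdvd) with e | e
  · rw [hj, e]
  · exfalso
    have hfN : f ∈ N := by
      rw [Subgroup.eq_top_of_card_eq N (by rw [hj, e, hH])]; exact Subgroup.mem_top f
    obtain ⟨d, hdd, w, hwW, hdw⟩ := L.mem_U.1 ((Subgroup.mem_normalizer_iff.1 hfN t).1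
      (Subgroup.mem_sup_right (Or.inr (Or.inl rfl))))
    have e1 := congrArg π hdw
    rw [map_mul, map_mul, map_mul, map_inv, hf, hπt, hπD d hdd, one_mul] at e1
    apply hf1
    refine A5.five _ hf5 ?_
    rcases hπW w hwW with e2 | e2 | e2 | e2 <;> rw [e2] at e1
    · exact absurd (conj_eq_one_iff.1 e1) hw1
    · exact Or.inl e1
    · exact Or.inr (Or.inl e1)
    · exact Or.inr (Or.inr e1)

end Cfsg.Agent.FiveOrders
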