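import Cfsg.Agent.Lib.FiveOrders.Main
import Cfsg.Agent.Recognition.TriangleFive

/-!
# The natural extension of `A₅` by a group of order sixteen
-/

set_option autoImplicit false
set_option linter.all false

namespace Cfsg.Agent.FiveOrders

universe u v

namespace Affine

open A5

def sb : A := ⟨Equiv.swap 2 3 * Equiv.swap 0 4, Equiv.Perm.mem_alternatingGroup.2 (by decide)⟩

theorem sb_facts : sb * sb = 1 ∧ sb * tb * sb⁻¹ = tb⁻¹ ∧ (w1 * sb) ^ 3 = 1 ∧ w1 * sb ≠ 1 ∧ tb ≠ 1 ∧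
    tb * tb * tb = 1 := by decide +kernel

theorem conj_w : ∃ n : A, n * w1 * n⁻¹ = Recognition.TriangleFive.xA * Recognition.TriangleFive.yA := by
  decide +kernel

theorem gen_A : ∀ q : A, ∃ v ∈ [1, w1, w2, w3], ∃ i ∈ [1, tb, tb * tb],
    q = v * i ∨ ∃ v' ∈ [1, w1, w2, w3], ∃ i' ∈ [1, tb, tb * tb], q = v * i * sb * (v' * i') := by
  decide +kernel

theorem pow_four_A : ∀ q : A, q ^ 4 = 1 → q ^ 2 = 1 := by decide +kernel

attribute [local irreducible] sb A5.tb A5.w1 A5.fb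

variable {G : Type u} [Group G] [Finite G]

/-- An extension of a 2-group by `A₅` splits. -/
theorem exists_section (h : Ord5 G) (π : G →* A) (hπ : Function.Surjective π) (N : Subgroup G) [N.Normal]
    (hker : π.ker = N) (hN : IsPGroup 2 N) : ∃ σ : A →* G, ∀ q, π (σ q) = q := by
  open Recognition.TriangleFive in
  haveI : Fact (Nat.Prime 3) := ⟨Nat.prime_three⟩
  haveI : Fact (Nat.Prime 5) := ⟨by norm_num⟩
  obtain ⟨y, t, hπt, hd⟩ := h.exists_dih π hπ hker hN
  obtain ⟨n, hn⟩ := conj_w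
  obtain ⟨n', hn'⟩ := hπ n
  set T := n' * t * n'⁻¹ with hT
  have hπT : π T = xA * yA := by rw [hT, map_mul, map_mul, map_inv, hn', hπt, hn]
  have hTT : T * T = 1 := conj_sq hd.t_sq
  obtain ⟨X, hX⟩ := hπ xA
  have hX3 : X ^ 3 = 1 := by
    rw [← h.lift_order π (by norm_num) hX xA_pow xA_ne]; exact pow_orderOf_eq_one X
  set Y := X⁻¹ * T with hY
  have hπY : π Y = yA := by rw [hY, map_mul, map_inv, hX, hπT, inv_mul_cancel_left]
  have hY5 : Y ^ 5 = 1 := by
    rw [← h.lift_order π (by norm_num) hπY yA_pow yA_ne]; exact pow_orderOf_eq_one Y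
  set K := Subgroup.closure ({X, Y} : Set G) with hK
  let X' : K := ⟨X, Subgroup.subset_closure (Or.inl rfl)⟩
  let Y' : K := ⟨Y, Subgroup.subset_closure (Or.inr rfl)⟩
  have hgen : Subgroup.closure ({X', Y'} : Set K) = ⊤ := by
    apply Subgroup.map_injective K.subtype_injective
    rw [MonoidHom.map_closure, ← MonoidHom.range_eq_map, Subgroup.range_subtype, Set.image_pair]
    rfl
  obtain ⟨-, hle⟩ := card_le_sixty X' Y' hgen (Subtype.ext hX3) (Subtype.ext hY5) (Subtype.ext (by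
    show (X * Y) ^ 2 = 1
    rw [hY, mul_inv_cancel_left, pow_two, hTT]))
  have hsur : Function.Surjective (π.comp K.subtype) := by
    refine surjective_of_image (π.comp K.subtype) (MonoidHom.id _) 1 (fun g hg => Or.inl hg) (one_mem _) X' Y' hX hπY
  have hbij : Function.Bijective (π.comp K.subtype) := (Nat.bijective_iff_surjective_and_card _).2
    ⟨hsur, le_antisymm (hle.trans card_A.ge) (Nat.card_le_card_of_surjective _ hsur)⟩
  let e := MulEquiv.ofBijective _ hbij
  exact ⟨K.subtype.comp e.symm.toMonoidHom, fun q => e.apply_symm_apply q⟩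

/-- The data of an extension with a section. -/
structure Ext (G : Type u) [Group G] (π : G →* A) (σ : A →* G) (N : Subgroup G) : Prop where
  ord : Ord5 G
  ker : π.ker = N
  sec : ∀ q, π (σ q) = q
  sq : ∀ x ∈ N, x * x = 1
  ne : N ≠ ⊥

variable {π : G →* A} {σ : A →* G} {N : Subgroup G}

theorem Ext.two (E : Ext G π σ N) : IsPGroup 2 N := fun x =>
  ⟨1, Subtype.ext (by show (x : G) ^ (2 ^ 1) = 1; rw [pow_one, pow_two]; exact E.sq x x.2)⟩

theorem Ext.normal (E : Ext G π σ N) : N.Normal := E.ker ▸ inferInstance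

theorem Ext.conj_mem (E : Ext G π σ N) {x : G} (hx : x ∈ N) (g : G) : g * x * g⁻¹ ∈ N :=
  E.normal.conj_mem x hx g

theorem Ext.fpf (E : Ext G π σ N) {p : ℕ} [Fact p.Prime] (hp2 : p ≠ 2) {q : A} (hq : q ^ p = 1) (hq1 : q ≠ 1)
    {x : G} (hx : x ∈ N) (hc : Commute (σ q) x) : x = 1 :=
  E.ord.fpf_two E.two Fact.out hp2 (E.ord.lift_order π hp2 (E.sec q) hq hq1) hx hc

theorem Ext.orbit (E : Ext G π σ N) {q : A} (hq : q ^ 3 = 1) (hq1 : q ≠ 1) {x : G} (hx : x ∈ N) :
    x * (σ q * x * (σ q)⁻¹) * (σ q * σ q * x * (σ q * σ q)⁻¹) = 1 := by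
  haveI : Fact (Nat.Prime 3) := ⟨Nat.prime_three⟩
  set g := σ q with hg
  have m1 := E.conj_mem hx g
  have m2 := E.conj_mem hx (g * g)
  refine E.fpf (p := 3) (by norm_num) hq hq1 (mul_mem (mul_mem hx m1) m2) ?_
  have h3 : g * g * g = 1 := by
    rw [hg, ← map_mul, ← map_mul, ← pow_two, ← pow_succ, hq, map_one]
  apply mul_inv_eq_iff_eq_mul.1
  rw [← hg]
  calc g * (x * (g * x * g⁻¹) * (g * g * x * (g * g)⁻¹)) * g⁻¹
      = (g * x * g⁻¹) * (g * g * x * (g * g)⁻¹) * ((g * g * g) * x * (g * g * g)⁻¹) := by group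
    _ = x * (g * x * g⁻¹) * (g * g * x * (g * g)⁻¹) := by
      rw [h3, one_mul, inv_one, mul_one]
      exact ((commute_of_sq E.sq hx (mul_mem m1 m2)).symm.eq).trans (mul_assoc _ _ _).symm

/-- The element with coordinates `x` in a four-element family. -/
def coord {H : Type v} [Group H] (e : Fin 4 → H) (x : Bool × Bool × Bool × Bool) : H :=
  (cond x.1 (e 0) 1) * (cond x.2.1 (e 1) 1) * ((cond x.2.2.1 (e 2) 1) * (cond x.2.2.2 (e 3) 1))

def add4 (x y : Bool × Bool × Bool × Bool) : Bool × Bool × Bool × Bool :=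
  (xor x.1 y.1, xor x.2.1 y.2.1, xor x.2.2.1 y.2.2.1, xor x.2.2.2 y.2.2.2)

theorem Ext.coord_mem (E : Ext G π σ N) {e : Fin 4 → G} (he : ∀ i, e i ∈ N) (x : Bool × Bool × Bool × Bool) :
    coord e x ∈ N := by
  have : ∀ (b : Bool) (i : Fin 4), cond b (e i) 1 ∈ N := fun b i => by
    cases b; exacts [one_mem N, he i]
  exact mul_mem (mul_mem (this _ _) (this _ _)) (mul_mem (this _ _) (this _ _))

theorem Ext.coord_mul (E : Ext G π σ N) {e : Fin 4 → G} (he : ∀ i, e i ∈ N) (x y : Bool × Bool × Bool × Bool) :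
    coord e x * coord e y = coord e (add4 x y) := by
  have hcomm : ∀ a b : N, a * b = b * a := fun a b => Subtype.ext (commute_of_sq E.sq a.2 b.2).eq
  letI : CommGroup N := { (inferInstance : Group N) with mul_comm := hcomm }
  let E' : Fin 4 → N := fun i => ⟨e i, he i⟩
  have hlift : ∀ z, ((coord E' z : N) : G) = coord e z := by
    intro z
    obtain ⟨a, b, c, d⟩ := z
    cases a <;> cases b <;> cases c <;> cases d <;> rfl
  rw [← hlift, ← hlift, ← hlift, ← Subgroup.coe_mul]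
  congr 1
  have hx : ∀ (b b' : Bool) (i : Fin 4), cond b (E' i) 1 * cond b' (E' i) 1 = cond (xor b b') (E' i) 1 := by
    intro b b' i
    cases b <;> cases b' <;> simp
    exact Subtype.ext (E.sq _ (he i))
  simp only [coord, add4, ← hx]
  ac_rfl

theorem Ext.conj_coord (E : Ext G π σ N) {e : Fin 4 → G} (he : ∀ i, e i ∈ N) (g : G)
    (M : Fin 4 → Bool × Bool × Bool × Bool) (hM : ∀ i, g * e i * g⁻¹ = coord e (M i))
    (x : Bool × Bool × Bool × Bool) :
    g * coord e x * g⁻¹ = coord e (add4 (add4 (cond x.1 (M 0) (false, false, false, false))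
      (cond x.2.1 (M 1) (false, false, false, false)))
      (add4 (cond x.2.2.1 (M 2) (false, false, false, false)) (cond x.2.2.2 (M 3) (false, false, false, false)))) := by
  have h0 : coord e (false, false, false, false) = 1 := by simp [coord]
  have hc : ∀ (b : Bool) (i : Fin 4),
      g * cond b (e i) 1 * g⁻¹ = coord e (cond b (M i) (false, false, false, false)) := by
    intro b i
    cases b
    · simp only [cond_false, mul_one, mul_inv_cancel, h0]
    · exact hM i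
  rw [← E.coord_mul he, ← E.coord_mul he, ← E.coord_mul he, ← hc, ← hc, ← hc, ← hc]
  simp only [coord]
  group

def mt : Fin 4 → Bool × Bool × Bool × Bool :=
  ![(false, true, false, false), (true, true, false, false), (false, false, true, true), (false, false, true, false)]

def ms : Fin 4 → Bool × Bool × Bool × Bool :=
  ![(false, false, true, false), (false, false, false, true), (true, false, false, false), (false, true, false, false)]

def mw : Fin 4 → Bool × Bool × Bool × Bool :=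
  ![(true, false, false, false), (false, true, false, false), (true, false, true, false), (false, true, false, true)]

/-- A family of four elements with the natural action and spanning a nontrivial normal subgroup. -/
theorem Ext.exists_basis (E : Ext G π σ N) :
    ∃ e : Fin 4 → G, (∀ i, e i ∈ N) ∧ e 0 ≠ 1 ∧ (∀ i, σ tb * e i * (σ tb)⁻¹ = coord e (mt i)) ∧
      (∀ i, σ sb * e i * (σ sb)⁻¹ = coord e (ms i)) ∧ (∀ i, σ w1 * e i * (σ w1)⁻¹ = coord e (mw i)) := by
  haveI : Fact (Nat.Prime 2) := ⟨Nat.prime_two⟩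
  haveI := E.normal
  obtain ⟨hss, hst, hg3, hg1, htb1, htb3⟩ := sb_facts
  obtain ⟨-, -, -, hw, hw1, -⟩ := A5.facts
  have w12 : w1 * w2 = w2 * w1 ∧ w2 * w2 = 1 ∧ tb * w3 * tb⁻¹ = w1 ∧ tb⁻¹ * w2 * tb = w1 ∧ w3 = w1 * w2 := by
    decide +kernel
  obtain ⟨hw12, hw22, hc3, hc1, hw3⟩ := w12
  have hz : ∀ q : A, q * q = 1 → IsPGroup 2 (Subgroup.zpowers (σ q)) := fun q hq => by
    intro z
    refine ⟨1, Subtype.ext ?_⟩
    obtain ⟨m, hm⟩ := Subgroup.mem_zpowers_iff.1 z.2
    show (z : G) ^ (2 ^ 1) = 1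
    rw [← hm, pow_one, ← zpow_natCast, ← zpow_mul, mul_comm, zpow_mul, zpow_natCast, pow_two, ← map_mul, hq,
      map_one, one_zpow]
  have hEven : ∀ K : Subgroup G, K ≤ N → K ≠ ⊥ → Nat.card K % 2 ≠ 1 := fun K hK hK1 => by
    obtain ⟨k, hk⟩ := (E.two.to_le hK).exists_card_eq
    rcases k with _ | k
    · exact absurd (Subgroup.card_eq_one.1 (hk.trans (pow_zero 2))) hK1
    · rw [hk, pow_succ]; omega
  -- a nontrivial fixed point of the four-group
  obtain ⟨a, haN, ha1, haw1, haw2⟩ : ∃ a ∈ N, a ≠ 1 ∧ Commute (σ w1) a ∧ Commute (σ w2) a := by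
    set K := N ⊓ Subgroup.centralizer ({σ w1} : Set G) with hK
    have hK1 : K ≠ ⊥ := by
      obtain ⟨k, hk, hk1, hkc⟩ := exists_commute (hz w1 hw) (K := N)
        (by rw [Subgroup.normalizer_eq_top]; trivial) (hEven N le_rfl E.ne)
      refine fun e => hk1 ((Subgroup.eq_bot_iff_forall K).1 e k ⟨hk, Subgroup.mem_centralizer_iff.2 fun b hb => ?_⟩)
      rw [Set.mem_singleton_iff.1 hb]; exact hkc
    have hnorm : σ w2 ∈ Subgroup.normalizer (K : Set G) := mem_normalizer_of_conj fun x hx =>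
      ⟨E.conj_mem hx.1 _, Subgroup.mem_centralizer_iff.2 fun b hb => by
        rw [Set.mem_singleton_iff.1 hb]
        have h1 : Commute (σ w1) (σ w2) := (show Commute w1 w2 from hw12).map σ
        have h2 : Commute (σ w1) x := Subgroup.mem_centralizer_iff.1 hx.2 _ rfl
        exact ((h1.mul_right h2).mul_right h1.inv_right).eq⟩
    obtain ⟨k, hk, hk1, hkc⟩ := exists_commute (hz w2 hw22) hnorm (hEven K inf_le_left hK1)
    exact ⟨k, hk.1, hk1, Subgroup.mem_centralizer_iff.1 hk.2 _ rfl, hkc⟩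
  set T := σ tb with hT
  set S := σ sb with hS
  set Ww := σ w1 with hWw
  set a2 := T * a * T⁻¹ with ha2
  have ha2N : a2 ∈ N := E.conj_mem haN T
  have ha2w : Commute Ww a2 := by
    have h1 : Commute (σ w3) a := by rw [hw3, map_mul]; exact haw1.mul_left haw2
    show Ww * a2 = a2 * Ww
    have hw' : Ww = T * σ w3 * T⁻¹ := by rw [hT, hWw, ← map_inv, ← map_mul, ← map_mul, hc3]
    rw [hw', ha2]
    calc T * σ w3 * T⁻¹ * (T * a * T⁻¹) = T * (σ w3 * a) * T⁻¹ := by group
      _ = T * a * T⁻¹ * (T * σ w3 * T⁻¹) := by rw [h1.eq]; group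
  have hT3 : T * T * T = 1 := by rw [hT, ← map_mul, ← map_mul, htb3, map_one]
  have hSS : S * S = 1 := by rw [hS, ← map_mul, hss, map_one]
  have hSi : S⁻¹ = S := inv_of_sq hSS
  have hTS : T * S = S * T⁻¹ := by
    rw [hT, hS, ← map_inv, ← map_mul, ← map_mul, ← hst]
    refine congrArg σ ?_
    rw [show sb * (sb * tb * sb⁻¹) = sb * sb * tb * sb⁻¹ by group, hss, one_mul, inv_of_sq hss]
  have hrel : ∀ c ∈ N, Commute Ww c → Ww * (S * c * S⁻¹) * Ww⁻¹ = c * (S * c * S⁻¹) := by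
    intro c hc hcw
    have hW2 : Ww * Ww = 1 := by rw [hWw, ← map_mul, hw, map_one]
    have ho := E.orbit hg3 hg1 hc
    rw [map_mul, ← hWw, ← hS] at ho
    have h3 : Ww * S * (Ww * S) * (Ww * S) = 1 := by
      rw [hWw, hS, ← map_mul, ← map_mul, ← map_mul, ← pow_two, ← pow_succ, hg3, map_one]
    have hgg : Ww * S * (Ww * S) = S⁻¹ * Ww⁻¹ := by
      rw [← mul_inv_rev]; exact eq_inv_of_mul_eq_one_left h3
    rw [hgg] at ho
    have e2 : S⁻¹ * Ww⁻¹ * c * (S⁻¹ * Ww⁻¹)⁻¹ = S * c * S⁻¹ := by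
      rw [hSi, inv_of_sq hW2]
      calc S * Ww * c * (S * Ww)⁻¹ = S * (Ww * c * Ww⁻¹) * S⁻¹ := by group
        _ = S * c * S⁻¹ := by rw [hcw.eq, mul_inv_cancel_right]
        _ = _ := by rw [hSi]
    rw [e2, show Ww * S * c * (Ww * S)⁻¹ = Ww * (S * c * S⁻¹) * Ww⁻¹ by group] at ho
    have m1 := E.conj_mem hc S
    have m2 := E.conj_mem m1 Ww
    rw [mul_assoc, mul_eq_one_iff_inv_eq, inv_of_sq (E.sq c hc)] at ho
    calc Ww * (S * c * S⁻¹) * Ww⁻¹
        = Ww * (S * c * S⁻¹) * Ww⁻¹ * (S * c * S⁻¹) * (S * c * S⁻¹) := by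
          rw [mul_assoc _ (S * c * S⁻¹) (S * c * S⁻¹), E.sq _ m1, mul_one]
      _ = c * (S * c * S⁻¹) := by rw [← ho]
  set b := S * a * S⁻¹ with hb
  set b2 := S * a2 * S⁻¹ with hb2
  refine ⟨![a, a2, b, b2], ?_, ha1, ?_, ?_, ?_⟩
  · intro i; fin_cases i
    exacts [haN, ha2N, E.conj_mem haN S, E.conj_mem ha2N S]
  · have htb : tb ^ 3 = 1 := by rw [pow_succ, pow_two]; exact htb3
    have ho := E.orbit htb htb1 haN
    rw [← hT, ← ha2] at ho
    have e : T * a2 * T⁻¹ = a * a2 := by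
      rw [show T * a2 * T⁻¹ = T * T * a * (T * T)⁻¹ by rw [ha2]; group, ← mul_eq_one_iff_inv_eq.1 ho]
      rw [mul_inv_rev, inv_of_sq (E.sq a haN), inv_of_sq (E.sq a2 ha2N)]
      exact (commute_of_sq E.sq ha2N haN).eq
    intro i; fin_cases i
    · simpa [coord, mt] using ha2.symm
    · simpa [coord, mt] using e
    · suffices T * b * T⁻¹ = b * b2 by simpa [coord, mt] using this
      have hS2 : T * b * T⁻¹ = S * (T⁻¹ * a * T) * S⁻¹ := by
        calc T * b * T⁻¹ = (T * S) * a * (T * S)⁻¹ := by rw [hb]; group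
          _ = S * (T⁻¹ * a * T) * S⁻¹ := by rw [hTS]; group
      have hTi : T⁻¹ * a * T = a * a2 := by
        rw [← e, ha2]
        calc T⁻¹ * a * T = (T * T * T) * (T⁻¹ * a * T) * (T * T * T)⁻¹ := by rw [hT3, one_mul, inv_one, mul_one]
          _ = T * (T * a * T⁻¹) * T⁻¹ := by group
      rw [hS2, hTi, hb, hb2]; group
    · suffices T * b2 * T⁻¹ = b by simpa [coord, mt] using this
      calc T * b2 * T⁻¹ = (T * S) * a2 * (T * S)⁻¹ := by rw [hb2]; group
        _ = S * a * S⁻¹ := by rw [hTS, ha2]; group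
        _ = b := hb.symm
  · have hflip : ∀ c : G, S * (S * c * S⁻¹) * S⁻¹ = c := fun c => by
      calc S * (S * c * S⁻¹) * S⁻¹ = (S * S) * c * (S * S)⁻¹ := by group
        _ = c := by rw [hSS, one_mul, inv_one, mul_one]
    intro i; fin_cases i
    · simpa [coord, ms] using hb.symm
    · simpa [coord, ms] using hb2.symm
    · simpa [coord, ms, hb] using hflip a
    · simpa [coord, ms, hb2] using hflip a2
  · intro i; fin_cases i
    · suffices Ww * a * Ww⁻¹ = a by simpa [coord, mw] using this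
      rw [haw1.eq, mul_inv_cancel_right]
    · suffices Ww * a2 * Ww⁻¹ = a2 by simpa [coord, mw] using this
      rw [ha2w.eq, mul_inv_cancel_right]
    · simpa [coord, mw] using hrel a haN haw1
    · simpa [coord, mw] using hrel a2 ha2N ha2w

/-- The coordinates in such a family range over a normal subgroup. -/
theorem Ext.range_normal (E : Ext G π σ N) {e : Fin 4 → G} (he : ∀ i, e i ∈ N) :
    ∃ M : Subgroup G, M ≤ N ∧ ∀ x, x ∈ M ↔ ∃ c, coord e c = x := by
  refine ⟨{ carrier := Set.range (coord e)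
            one_mem' := ⟨(false, false, false, false), by simp [coord]⟩
            mul_mem' := ?_
            inv_mem' := ?_ }, ?_, fun x => Iff.rfl⟩
  · rintro _ _ ⟨c, rfl⟩ ⟨d, rfl⟩
    exact ⟨_, (E.coord_mul he c d).symm⟩
  · rintro _ ⟨c, rfl⟩
    exact ⟨c, (inv_of_sq (E.sq _ (E.coord_mem he c))).symm⟩
  · rintro _ ⟨c, rfl⟩
    exact E.coord_mem he c

/-- The actions of `q` in two extensions agree in coordinates. -/
def Agree {G : Type u} [Group G] {H : Type v} [Group H] (σ : A →* G) (τ : A →* H) (e : Fin 4 → G) (f : Fin 4 → H)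
    (q : A) : Prop :=
  ∃ α : Bool × Bool × Bool × Bool → Bool × Bool × Bool × Bool,
    (∀ c, σ q * coord e c * (σ q)⁻¹ = coord e (α c)) ∧ (∀ c, τ q * coord f c * (τ q)⁻¹ = coord f (α c))

variable {H : Type v} [Group H] [Finite H] {π' : H →* A} {τ : A →* H} {N' : Subgroup H}

theorem agree_all (E : Ext G π σ N) (E' : Ext H π' τ N') {e : Fin 4 → G} {f : Fin 4 → H}
    (he : ∀ i, e i ∈ N) (hf : ∀ i, f i ∈ N')
    (h1 : ∀ i, σ tb * e i * (σ tb)⁻¹ = coord e (mt i)) (h2 : ∀ i, σ sb * e i * (σ sb)⁻¹ = coord e (ms i))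
    (h3 : ∀ i, σ w1 * e i * (σ w1)⁻¹ = coord e (mw i))
    (h1' : ∀ i, τ tb * f i * (τ tb)⁻¹ = coord f (mt i)) (h2' : ∀ i, τ sb * f i * (τ sb)⁻¹ = coord f (ms i))
    (h3' : ∀ i, τ w1 * f i * (τ w1)⁻¹ = coord f (mw i)) (q : A) : Agree σ τ e f q := by
  have hone : Agree σ τ e f 1 := ⟨id, fun c => by simp, fun c => by simp⟩
  have hmul : ∀ a b, Agree σ τ e f a → Agree σ τ e f b → Agree σ τ e f (a * b) := by
    rintro a b ⟨α, a1, a2⟩ ⟨β, b1, b2⟩
    refine ⟨α ∘ β, fun c => ?_, fun c => ?_⟩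
    · rw [Function.comp_apply, ← a1, ← b1, map_mul]; group
    · rw [Function.comp_apply, ← a2, ← b2, map_mul]; group
  have ht : Agree σ τ e f tb := ⟨_, E.conj_coord he _ mt h1, E'.conj_coord hf _ mt h1'⟩
  have hs : Agree σ τ e f sb := ⟨_, E.conj_coord he _ ms h2, E'.conj_coord hf _ ms h2'⟩
  have hw : Agree σ τ e f w1 := ⟨_, E.conj_coord he _ mw h3, E'.conj_coord hf _ mw h3'⟩
  have hti : Agree σ τ e f tb⁻¹ := by
    rw [inv_eq_of_mul_eq_one_right (show tb * (tb * tb) = 1 by rw [← mul_assoc]; exact A5.facts.2.2.2.2.2.1)]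
    exact hmul _ _ ht ht
  have h2w : Agree σ τ e f w2 := hmul _ _ (hmul _ _ ht hw) hti
  have h3w : Agree σ τ e f w3 := hmul _ _ (hmul _ _ ht h2w) hti
  have hv : ∀ v ∈ [1, w1, w2, w3], Agree σ τ e f v := by
    intro v hv
    simp only [List.mem_cons, List.not_mem_nil, or_false] at hv
    rcases hv with rfl | rfl | rfl | rfl
    exacts [hone, hw, h2w, h3w]
  have hi : ∀ i ∈ [1, tb, tb * tb], Agree σ τ e f i := by
    intro i hi
    simp only [List.mem_cons, List.not_mem_nil, or_false] at hi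
    rcases hi with rfl | rfl | rfl
    exacts [hone, ht, hmul _ _ ht ht]
  obtain ⟨v, hv', i, hi', hq⟩ := gen_A q
  rcases hq with rfl | ⟨v', hv'', i', hi'', rfl⟩
  · exact hmul _ _ (hv v hv') (hi i hi')
  · exact hmul _ _ (hmul _ _ (hmul _ _ (hv v hv') (hi i hi')) hs) (hmul _ _ (hv v' hv'') (hi i' hi''))

/-- Uniqueness when the coordinates are bijective. -/
theorem iso_of_basis (E : Ext G π σ N) (E' : Ext H π' τ N') {e : Fin 4 → G} {f : Fin 4 → H}
    (he : ∀ i, e i ∈ N) (hf : ∀ i, f i ∈ N') (hag : ∀ q, Agree σ τ e f q)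
    (hN : Nat.card N = 16) (hN' : Nat.card N' = 16) (hsur : ∀ x ∈ N, ∃ c, coord e c = x)
    (hsur' : ∀ x ∈ N', ∃ c, coord f c = x) : Nonempty (G ≃* H) := by
  have h16 : Nat.card (Bool × Bool × Bool × Bool) = 16 := by simp
  let ψ : (Bool × Bool × Bool × Bool) × A → G := fun p => coord e p.1 * σ p.2
  let ψ' : (Bool × Bool × Bool × Bool) × A → H := fun p => coord f p.1 * τ p.2
  have hinjN : ∀ c d, coord e c = coord e d → c = d := fun c d h => by
    have hb := (Nat.bijective_iff_surjective_and_card (fun c => (⟨coord e c, E.coord_mem he c⟩ : N))).2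
      ⟨fun x => (hsur x x.2).imp fun c hc => Subtype.ext hc, by rw [h16, hN]⟩
    exact hb.1 (Subtype.ext h)
  have hinjN' : ∀ c d, coord f c = coord f d → c = d := fun c d h => by
    have hb := (Nat.bijective_iff_surjective_and_card (fun c => (⟨coord f c, E'.coord_mem hf c⟩ : N'))).2
      ⟨fun x => (hsur' x x.2).imp fun c hc => Subtype.ext hc, by rw [h16, hN']⟩
    exact hb.1 (Subtype.ext h)
  have hπ0 : ∀ c, π (coord e c) = 1 := fun c => MonoidHom.mem_ker.1 (E.ker.symm ▸ E.coord_mem he c)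
  have hπ0' : ∀ c, π' (coord f c) = 1 := fun c => MonoidHom.mem_ker.1 (E'.ker.symm ▸ E'.coord_mem hf c)
  have hbij : Function.Bijective ψ := by
    constructor
    · rintro ⟨c, q⟩ ⟨d, r⟩ h
      have h' : coord e c * σ q = coord e d * σ r := h
      have hqr : q = r := by
        have := congrArg π h'
        rwa [map_mul, map_mul, hπ0, hπ0, one_mul, one_mul, E.sec, E.sec] at this
      subst hqr
      rw [hinjN c d (mul_right_cancel h')]
    · intro g
      obtain ⟨c, hc⟩ := hsur (g * (σ (π g))⁻¹) (E.ker ▸ MonoidHom.mem_ker.2 (by rw [map_mul, map_inv, E.sec, mul_inv_cancel]))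
      exact ⟨(c, π g), by show coord e c * σ (π g) = g; rw [hc, inv_mul_cancel_right]⟩
  have hbij' : Function.Bijective ψ' := by
    constructor
    · rintro ⟨c, q⟩ ⟨d, r⟩ h
      have h' : coord f c * τ q = coord f d * τ r := h
      have hqr : q = r := by
        have := congrArg π' h'
        rwa [map_mul, map_mul, hπ0', hπ0', one_mul, one_mul, E'.sec, E'.sec] at this
      subst hqr
      rw [hinjN' c d (mul_right_cancel h')]
    · intro g
      obtain ⟨c, hc⟩ := hsur' (g * (τ (π' g))⁻¹) (E'.ker ▸ MonoidHom.mem_ker.2 (by rw [map_mul, map_inv, E'.sec, mul_inv_cancel]))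
      exact ⟨(c, π' g), by show coord f c * τ (π' g) = g; rw [hc, inv_mul_cancel_right]⟩
  let Φ : G ≃ H := (Equiv.ofBijective ψ hbij).symm.trans (Equiv.ofBijective ψ' hbij')
  have hΦ : ∀ p, Φ (ψ p) = ψ' p := fun p => by
    show ψ' ((Equiv.ofBijective ψ hbij).symm (Equiv.ofBijective ψ hbij p)) = ψ' p
    rw [Equiv.symm_apply_apply]
  refine ⟨MulEquiv.mk' Φ fun g g' => ?_⟩
  obtain ⟨⟨c, q⟩, rfl⟩ := hbij.2 g
  obtain ⟨⟨d, r⟩, rfl⟩ := hbij.2 g'
  obtain ⟨α, a1, a2⟩ := hag q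
  have m1 : ψ (c, q) * ψ (d, r) = ψ (add4 c (α d), q * r) := by
    show coord e c * σ q * (coord e d * σ r) = coord e (add4 c (α d)) * σ (q * r)
    rw [← E.coord_mul he, ← a1, map_mul]; group
  have m2 : ψ' (c, q) * ψ' (d, r) = ψ' (add4 c (α d), q * r) := by
    show coord f c * τ q * (coord f d * τ r) = coord f (add4 c (α d)) * τ (q * r)
    rw [← E'.coord_mul hf, ← a2, map_mul]; group
  rw [m1, hΦ, hΦ, hΦ, m2]

/-- The coordinates exhaust `N` when `N` has at most sixteen elements or is a minimal normal subgroup. -/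
theorem Ext.surj_of (E : Ext G π σ N) {e : Fin 4 → G} (he : ∀ i, e i ∈ N) (he0 : e 0 ≠ 1)
    (hag : ∀ q, Agree σ σ e e q)
    (hmin : (∀ M : Subgroup G, M.Normal → M ≤ N → M ≠ ⊥ → M = N) ∨ Nat.card N ≤ 16) :
    Nat.card N = 16 ∧ ∀ x ∈ N, ∃ c, coord e c = x := by
  obtain ⟨M, hMN, hM⟩ := E.range_normal he
  have hM1 : M ≠ ⊥ := fun h => he0 ((Subgroup.eq_bot_iff_forall M).1 h (e 0)
    ((hM _).2 ⟨(true, false, false, false), by simp [coord]⟩))
  have hnorm : M.Normal := ⟨fun x hx g => by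
    obtain ⟨c, rfl⟩ := (hM x).1 hx
    have hn : g * (σ (π g))⁻¹ ∈ N :=
      E.ker ▸ MonoidHom.mem_ker.2 (by rw [map_mul, map_inv, E.sec, mul_inv_cancel])
    obtain ⟨α, a1, -⟩ := hag (π g)
    have hc := commute_of_sq E.sq hn (E.coord_mem he (α c))
    refine (hM _).2 ⟨α c, ?_⟩
    symm
    calc g * coord e c * g⁻¹ = g * (σ (π g))⁻¹ * (σ (π g) * coord e c * (σ (π g))⁻¹) * (g * (σ (π g))⁻¹)⁻¹ := by group
      _ = coord e (α c) := by rw [a1, hc.eq, mul_inv_cancel_right]⟩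
  have hle : Nat.card M ≤ 16 := by
    have h := Nat.card_le_card_of_surjective (fun c => (⟨coord e c, (hM _).2 ⟨c, rfl⟩⟩ : M))
      (fun x => ((hM x).1 x.2).imp fun c hc => Subtype.ext hc)
    simpa using h
  have hge : 16 ≤ Nat.card M := by
    haveI : Fact (Nat.Prime 3) := ⟨Nat.prime_three⟩
    haveI : Fact (Nat.Prime 5) := ⟨by norm_num⟩
    obtain ⟨k, hk⟩ := (E.two.to_le hMN).exists_card_eq
    have key : ∀ (p : ℕ) [Fact p.Prime] (q : A), p ≠ 2 → q ^ p = 1 → q ≠ 1 → Nat.card M % p = 1 := by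
      intro p _ q hp hq hq1
      by_contra hne
      obtain ⟨x, hx, hx1, hxc⟩ := exists_commute
        (IsPGroup.of_card (n := 1) (by rw [Nat.card_zpowers, E.ord.lift_order π hp (E.sec q) hq hq1, pow_one]))
        (K := M) (by rw [Subgroup.normalizer_eq_top_iff.2 hnorm]; trivial) hne
      exact hx1 (E.fpf hp hq hq1 (hMN hx) hxc)
    have k3 := key 3 tb (by norm_num) (by rw [pow_succ, pow_two]; exact A5.facts.2.2.2.2.2.1) A5.facts.2.2.2.2.2.2.1
    have k5 := key 5 fb (by norm_num) A5.facts'.2.2.2.2.2.2.2.2.2.2.2.1 A5.facts'.2.2.2.2.2.2.2.2.2.2.2.2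
    by_contra hlt
    push Not at hlt
    rw [hk] at hlt k3 k5
    have hk4 : k < 4 := (Nat.pow_lt_pow_iff_right (by norm_num : 1 < 2)).1 (show 2 ^ k < 2 ^ 4 from hlt)
    interval_cases k
    · exact hM1 (Subgroup.card_eq_one.1 (hk.trans (pow_zero 2)))
    all_goals first | (norm_num at k3; done) | norm_num at k5
  have hMeq : M = N := by
    rcases hmin with hmin | hmin
    · exact hmin M hnorm hMN hM1
    · exact Subgroup.eq_of_le_of_card_ge hMN (hmin.trans hge)
  subst hMeq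
  exact ⟨le_antisymm hle hge, fun x hx => (hM x).1 hx⟩

/-- Uniqueness of the minimal extension. -/
theorem iso_minimal (hG : Ord5 G) (hH : Ord5 H) (π : G →* A) (π' : H →* A) (hπ : Function.Surjective π)
    (hπ' : Function.Surjective π') (hsq : ∀ x ∈ π.ker, x * x = 1) (hsq' : ∀ x ∈ π'.ker, x * x = 1)
    (hne : π.ker ≠ ⊥) (hne' : π'.ker ≠ ⊥)
    (hmin : (∀ M : Subgroup G, M.Normal → M ≤ π.ker → M ≠ ⊥ → M = π.ker) ∨ Nat.card π.ker ≤ 16)
    (hmin' : (∀ M : Subgroup H, M.Normal → M ≤ π'.ker → M ≠ ⊥ → M = π'.ker) ∨ Nat.card π'.ker ≤ 16) :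
    Nonempty (G ≃* H) := by
  have hp : IsPGroup 2 π.ker := fun x =>
    ⟨1, Subtype.ext (by show (x : G) ^ (2 ^ 1) = 1; rw [pow_one, pow_two]; exact hsq x x.2)⟩
  have hp' : IsPGroup 2 π'.ker := fun x =>
    ⟨1, Subtype.ext (by show (x : H) ^ (2 ^ 1) = 1; rw [pow_one, pow_two]; exact hsq' x x.2)⟩
  obtain ⟨σ, hσ⟩ := exists_section hG π hπ π.ker rfl hp
  obtain ⟨τ, hτ⟩ := exists_section hH π' hπ' π'.ker rfl hp'
  have E : Ext G π σ π.ker := ⟨hG, rfl, hσ, hsq, hne⟩
  have E' : Ext H π' τ π'.ker := ⟨hH, rfl, hτ, hsq', hne'⟩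
  obtain ⟨e, he, he0, h1, h2, h3⟩ := E.exists_basis
  obtain ⟨f, hf, hf0, h1', h2', h3'⟩ := E'.exists_basis
  obtain ⟨hN, hs⟩ := E.surj_of he he0 (agree_all E E he he h1 h2 h3 h1 h2 h3) hmin
  obtain ⟨hN', hs'⟩ := E'.surj_of hf hf0 (agree_all E' E' hf hf h1' h2' h3' h1' h2' h3') hmin'
  exact iso_of_basis E E' he hf (agree_all E E' he hf h1 h2 h3 h1' h2' h3') hN hN' hs hs'

/-- An extension of a nontrivial 2-group by `A₅` has all five element orders. -/
theorem full_spectrum (h : Ord5 G) (π : G →* A) (hπ : Function.Surjective π) (hp : IsPGroup 2 π.ker)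
    (hne : π.ker ≠ ⊥) : Set.range (orderOf : G → ℕ) = ({1, 2, 3, 4, 5} : Set ℕ) := by
  haveI : Fact (Nat.Prime 2) := ⟨Nat.prime_two⟩
  haveI : Fact (Nat.Prime 3) := ⟨Nat.prime_three⟩
  haveI : Fact (Nat.Prime 5) := ⟨by norm_num⟩
  refine Set.Subset.antisymm ?_ ?_
  · rintro _ ⟨g, rfl⟩
    simp only [Set.mem_insert_iff, Set.mem_singleton_iff]
    rcases eq_or_ne g 1 with rfl | hg
    · exact Or.inl orderOf_one
    · rcases h.cases hg with e | e | e | e <;> simp [e]
  obtain ⟨y, t, hπt, hd⟩ := h.exists_dih π hπ rfl hp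
  obtain ⟨f, hf⟩ := hπ fb
  obtain ⟨-, -, -, -, -, -, -, -, -, -, -, hf5, hf1⟩ := A5.facts'
  intro k hk
  simp only [Set.mem_insert_iff, Set.mem_singleton_iff] at hk
  rcases hk with rfl | rfl | rfl | rfl | rfl
  · exact ⟨1, orderOf_one⟩
  · exact ⟨t, orderOf_eq_prime (by rw [pow_two, hd.t_sq]) hd.t_ne⟩
  · exact ⟨y, hd.order_y⟩
  · -- an element of order four
    have hc := hd.card_eq h hp
    obtain ⟨d, hdD, hdC⟩ : ∃ d ∈ π.ker, d ∉ π.ker ⊓ Subgroup.centralizer ({t} : Set G) := by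
      by_contra hall
      push Not at hall
      have e : π.ker ⊓ Subgroup.centralizer ({t} : Set G) = π.ker := le_antisymm inf_le_left hall
      rw [e] at hc
      refine hne (Subgroup.card_eq_one.1 ?_)
      exact Nat.eq_of_mul_eq_mul_left Nat.card_pos (by rw [mul_one]; exact hc.symm)
    have h4 : (t * d) ^ (2 ^ (1 + 1)) = 1 := h.mul_pow_four hp hd.ht
      (by rw [show t ^ 4 = (t * t) * (t * t) by simp only [pow_succ, pow_zero, one_mul, mul_assoc], hd.t_sq, one_mul]) hdD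
    refine ⟨t * d, (orderOf_eq_prime_pow (p := 2) (n := 1) ?_ h4).trans (by norm_num)⟩
    intro e
    rw [pow_one, pow_two] at e
    refine hdC ⟨hdD, Subgroup.mem_centralizer_iff.2 fun b hb => ?_⟩
    rw [Set.mem_singleton_iff.1 hb]
    calc t * d = (t * d)⁻¹ := (inv_of_sq e).symm
      _ = d * t := by rw [mul_inv_rev, inv_of_sq (hd.elementary h hp hdD), hd.t_inv]
  · exact ⟨f, h.lift_order π (by norm_num) hf hf5 hf1⟩

end Affine

end Cfsg.Agent.FiveOrders
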