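import Cfsg.Agent.Lib.FiveOrders.A5Local

/-!
# No proper extensions of the alternating groups of degree five and six
-/

set_option autoImplicit false
set_option linter.all false

namespace Cfsg.Agent.FiveOrders

universe u

namespace Almost

theorem a5_three : ∀ a : A5.A, a * a * a = 1 → a ≠ 1 → ∃ n : A5.A, n * A5.tb * n⁻¹ = a := by decide +kernel

theorem a5_five : ∀ a : A5.A, a ^ 5 = 1 → a ≠ 1 → ∃ n : A5.A,
    a = n * A5.fb * n⁻¹ ∨ a = n * (A5.fb * A5.fb) * n⁻¹ := by decide +kernel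

theorem a5_norm : (∀ n : A5.A, n * A5.fb * n⁻¹ ≠ A5.fb ^ 2 ∧ n * A5.fb * n⁻¹ ≠ A5.fb ^ 3) := by decide +kernel

abbrev B : Type := ↥(alternatingGroup (Fin 6))

def z : B := ⟨Equiv.swap 0 1 * Equiv.swap 2 3, Equiv.Perm.mem_alternatingGroup.2 (by decide)⟩
def a : B := ⟨Equiv.swap 0 2 * Equiv.swap 1 3, Equiv.Perm.mem_alternatingGroup.2 (by decide)⟩
def b : B := ⟨Equiv.swap 0 1 * Equiv.swap 4 5, Equiv.Perm.mem_alternatingGroup.2 (by decide)⟩
def r : B := ⟨Equiv.swap 0 2 * Equiv.swap 2 1 * Equiv.swap 1 3 * Equiv.swap 4 5,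
  Equiv.Perm.mem_alternatingGroup.2 (by decide)⟩
def τ : B := ⟨Equiv.swap 1 2 * Equiv.swap 2 3, Equiv.Perm.mem_alternatingGroup.2 (by decide)⟩

theorem a6_inv : ∀ g : B, g * g = 1 → g ≠ 1 → ∃ n : B, n * z * n⁻¹ = g := by decide +kernel

theorem a6_cz : ∀ g : B, g * z = z * g → g * g = 1 →
    g = 1 ∨ g = z ∨ g = a ∨ g = z * a ∨ g = b ∨ g = z * b := by decide +kernel

theorem a6_cv : ∀ g : B, g * z = z * g → g * a = a * g → g = 1 ∨ g = z ∨ g = a ∨ g = z * a := by
  decide +kernel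

theorem a6_facts : τ * τ * τ = 1 ∧ τ ≠ 1 ∧ τ * z * τ⁻¹ = a ∧ τ * a * τ⁻¹ = z * a ∧
    r * z = z * r ∧ r * (z * a) * r⁻¹ = a ∧ z * z = 1 ∧ z ≠ 1 ∧ a * a = 1 ∧ a ≠ 1 ∧
    a * z = z * a ∧ a ≠ b ∧ a ≠ z * b ∧ z ≠ a ∧ z * a ≠ a ∧ z * b ≠ z * a ∧ b ≠ z * a ∧
    (b * a * (b * a) ≠ 1) ∧ (z * b * a * (z * b * a) ≠ 1) ∧
    b * a * (b * a) * (b * a * (b * a)) = 1 ∧ z * b * a * (z * b * a) * (z * b * a * (z * b * a)) = 1 ∧
    z * (z * b) = b ∧ z * b = b * z := by
  repeat' apply And.intro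
  all_goals decide +kernel

theorem a6_surj : ∀ v : B, v = 1 ∨ v = z ∨ v = a ∨ v = z * a →
    ∃ u : B, (u = 1 ∨ u = z ∨ u = a ∨ u = z * a) ∧ τ * u * τ⁻¹ * v = u := by decide +kernel

attribute [local irreducible] A5.fb A5.tb z a b r τ

variable {G : Type u} [Group G] [Finite G]

theorem not_five (h : Ord5 G) (M : Subgroup G) [M.Normal] (e : M ≃* A5.A) : M = ⊤ := by
  haveI : Fact (Nat.Prime 3) := ⟨Nat.prime_three⟩
  haveI : Fact (Nat.Prime 5) := ⟨by norm_num⟩
  obtain ⟨-, -, -, -, -, htb, htb1, -⟩ := A5.facts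
  obtain ⟨-, -, -, -, -, -, -, -, -, -, -, hf5, hf1⟩ := A5.facts'
  let ι : A5.A →* G := M.subtype.comp e.symm.toMonoidHom
  have hι : Function.Injective ι := M.subtype_injective.comp e.symm.injective
  have hιM : ∀ x, ι x ∈ M := fun x => (e.symm x).2
  have hrange : ∀ x ∈ M, ∃ c, ι c = x := fun x hx => ⟨e ⟨x, hx⟩, by
    show ((e.symm (e ⟨x, hx⟩) : M) : G) = x
    rw [e.symm_apply_apply]⟩
  set π := QuotientGroup.mk' M
  have hπι : ∀ x, π (ι x) = 1 := fun x => (QuotientGroup.eq_one_iff _).2 (hιM x)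
  have hto : orderOf (ι A5.tb) = 3 := by
    rw [orderOf_injective ι hι, orderOf_eq_prime (by rw [pow_succ, pow_two]; exact htb) htb1]
  have hfo : orderOf (ι A5.fb) = 5 := by rw [orderOf_injective ι hι, orderOf_eq_prime hf5 hf1]
  have hcent : ∀ {p : ℕ} [Fact p.Prime] (v : G), p ≠ 2 → orderOf v = p → ∀ m : G, m * v * m⁻¹ = v → m ^ p = 1 := by
    intro p _ v hp hv m hm
    refine h.pgroup_pow hp (h.centralizer_isPGroup hv) (Subgroup.mem_centralizer_iff.2 fun b hb => ?_)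
    rw [Set.mem_singleton_iff.1 hb]
    exact (mul_inv_eq_iff_eq_mul.1 hm).symm
  have h3 : ∀ g : G, π g ^ 3 = 1 := by
    intro g
    obtain ⟨c, hc⟩ := hrange _ (Subgroup.Normal.conj_mem inferInstance _ (hιM A5.tb) g)
    have hc3 : c * c * c = 1 := hι (by
      rw [map_mul, map_mul, hc, map_one]
      calc g * ι A5.tb * g⁻¹ * (g * ι A5.tb * g⁻¹) * (g * ι A5.tb * g⁻¹)
          = g * (ι A5.tb * ι A5.tb * ι A5.tb) * g⁻¹ := by group
        _ = 1 := by rw [← map_mul, ← map_mul, htb, map_one, mul_one, mul_inv_cancel])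
    have hc1 : c ≠ 1 := fun e1 => htb1 (hι (by
      rw [e1, map_one, eq_comm, conj_eq_one_iff] at hc; rw [hc, map_one]))
    obtain ⟨n, hn⟩ := a5_three c hc3 hc1
    have hm := hcent (ι A5.tb) (by norm_num) hto ((ι n)⁻¹ * g) (by
      calc (ι n)⁻¹ * g * ι A5.tb * ((ι n)⁻¹ * g)⁻¹ = (ι n)⁻¹ * (g * ι A5.tb * g⁻¹) * ι n := by group
        _ = ι A5.tb := by rw [← hc, ← hn, map_mul, map_mul, map_inv]; group)
    have := congrArg π hm
    rwa [map_pow, map_mul, map_inv, hπι, inv_one, one_mul, map_one] at this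
  refine (Subgroup.eq_top_iff' M).2 fun g => ?_
  have h5 : π g ^ 5 = 1 := by
    obtain ⟨c, hc⟩ := hrange _ (Subgroup.Normal.conj_mem inferInstance _ (hιM A5.fb) g)
    have hc5 : c ^ 5 = 1 := hι (by rw [map_pow, hc, conj_pow, ← map_pow, hf5, map_one, mul_one, mul_inv_cancel])
    have hc1 : c ≠ 1 := fun e1 => hf1 (hι (by
      rw [e1, map_one, eq_comm, conj_eq_one_iff] at hc; rw [hc, map_one]))
    obtain ⟨n, hn | hn⟩ := a5_five c hc5 hc1
    · have hm := hcent (ι A5.fb) (by norm_num) hfo ((ι n)⁻¹ * g) (by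
        calc (ι n)⁻¹ * g * ι A5.fb * ((ι n)⁻¹ * g)⁻¹ = (ι n)⁻¹ * (g * ι A5.fb * g⁻¹) * ι n := by group
          _ = ι A5.fb := by rw [← hc, hn, map_mul, map_mul, map_inv]; group)
      have := congrArg π hm
      rwa [map_pow, map_mul, map_inv, hπι, inv_one, one_mul, map_one] at this
    · exfalso
      set m := (ι n)⁻¹ * g with hm
      have hk : m * ι A5.fb * m⁻¹ = ι (A5.fb * A5.fb) := by
        rw [hm]
        calc (ι n)⁻¹ * g * ι A5.fb * ((ι n)⁻¹ * g)⁻¹ = (ι n)⁻¹ * (g * ι A5.fb * g⁻¹) * ι n := by group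
          _ = ι (A5.fb * A5.fb) := by rw [← hc, hn, map_mul ι (n * _), map_mul ι n, map_inv]; group
      have hk2 : ∀ x : A5.A, m * ι x * m⁻¹ = ι (A5.fb * A5.fb) → m * ι (x * x) * m⁻¹ = ι (A5.fb * A5.fb * (A5.fb * A5.fb)) := by
        intro x hx
        rw [map_mul ι x x, show m * (ι x * ι x) * m⁻¹ = (m * ι x * m⁻¹) * (m * ι x * m⁻¹) by group, hx, ← map_mul]
      have hk' := hk2 _ hk
      have hk4 : m * ι (A5.fb * A5.fb * (A5.fb * A5.fb)) * m⁻¹ = ι (A5.fb ^ 3) := by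
        rw [map_mul ι (A5.fb * A5.fb), show m * (ι (A5.fb * A5.fb) * ι (A5.fb * A5.fb)) * m⁻¹ =
          (m * ι (A5.fb * A5.fb) * m⁻¹) * (m * ι (A5.fb * A5.fb) * m⁻¹) by group, hk', ← map_mul]
        refine congrArg ι ?_
        calc A5.fb * A5.fb * (A5.fb * A5.fb) * (A5.fb * A5.fb * (A5.fb * A5.fb)) = A5.fb ^ 5 * A5.fb ^ 3 := by
              simp only [pow_succ, pow_zero, one_mul, mul_assoc]
          _ = A5.fb ^ 3 := by rw [hf5, one_mul]
      obtain ⟨c3, hc3⟩ := hrange (m * m * m) ((QuotientGroup.eq_one_iff _).1 (by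
        show π (m * m * m) = 1
        rw [← h3 m, map_mul, map_mul, pow_succ, pow_two]))
      refine (a5_norm c3).2 (hι ?_)
      rw [map_mul, map_mul, map_inv, hc3]
      calc m * m * m * ι A5.fb * (m * m * m)⁻¹ = m * (m * (m * ι A5.fb * m⁻¹) * m⁻¹) * m⁻¹ := by group
        _ = ι (A5.fb ^ 3) := by rw [hk, hk', hk4]
  rw [← QuotientGroup.eq_one_iff]
  have h' : π g ^ Nat.gcd 3 5 = 1 := pow_gcd_eq_one.2 ⟨h3 g, h5⟩
  rwa [show Nat.gcd 3 5 = 1 by decide, pow_one] at h'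

theorem no_central (h : Ord5 G) (M : Subgroup G) [M.Normal] (ι : B →* G) (hι : Function.Injective ι)
    (hιM : ∀ c, ι c ∈ M) (hrange : ∀ y ∈ M, ∃ c, ι c = y) {x : G} (hxM : x ∉ M)
    (hxz : Commute x (ι z)) (hxa : Commute x (ι a)) : False := by
  haveI : Fact (Nat.Prime 3) := ⟨Nat.prime_three⟩
  obtain ⟨hτ, hτ1, hτz, hτa, -, -, hzz, hz1, -, -, haz, -⟩ := a6_facts
  set T := ι τ with hT
  have hτo : orderOf T = 3 := by
    rw [hT, orderOf_injective ι hι, orderOf_eq_prime (by rw [pow_succ, pow_two]; exact hτ) hτ1]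
  have hTz : T * ι z * T⁻¹ = ι a := by rw [hT, ← map_inv, ← map_mul, ← map_mul, hτz]
  have hTa : T * ι a * T⁻¹ = ι z * ι a := by rw [hT, ← map_inv, ← map_mul, ← map_mul, hτa, map_mul]
  set y := T * x * T⁻¹ with hy
  have hya : Commute y (ι a) := by
    rw [← hTz, hy]
    exact hxz.map (MulAut.conj T).toMonoidHom
  have hyz : Commute y (ι z) := by
    have h1 : Commute y (T * ι a * T⁻¹) := by
      rw [hy]; exact hxa.map (MulAut.conj T).toMonoidHom
    rw [hTa] at h1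
    have := h1.mul_right hya.inv_right
    rwa [mul_inv_cancel_right] at this
  obtain ⟨c, hc⟩ := hrange (y * x⁻¹) (by
    rw [hy, show T * x * T⁻¹ * x⁻¹ = T * (x * T⁻¹ * x⁻¹) by group]
    exact mul_mem (hιM τ) (Subgroup.Normal.conj_mem inferInstance _ (inv_mem (hιM τ)) x))
  have hcz : c * z = z * c := hι (by
    rw [map_mul, map_mul, hc]; exact (hyz.mul_left hxz.inv_left).eq)
  have hca : c * a = a * c := hι (by
    rw [map_mul, map_mul, hc]; exact (hya.mul_left hxa.inv_left).eq)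
  obtain ⟨v, hv, hvc⟩ := a6_surj c (a6_cv c hcz hca)
  have hfix : Commute T (ι v * x) := by
    apply mul_inv_eq_iff_eq_mul.1
    calc T * (ι v * x) * T⁻¹ = (ι τ * ι v * (ι τ)⁻¹) * (y * x⁻¹) * x := by rw [hy, hT]; group
      _ = ι v * x := by rw [← hc, ← map_inv, ← map_mul, ← map_mul, ← map_mul, hvc]
  have hvz : Commute (ι v) (ι z) := by
    refine Commute.map ?_ ι
    rcases hv with rfl | rfl | rfl | rfl
    exacts [Commute.one_left _, Commute.refl _, haz, (Commute.refl z).mul_left haz]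
  have hmem : ι v * x ∈ Subgroup.centralizer ({ι z} : Set G) := Subgroup.mem_centralizer_iff.2 fun q hq => by
    rw [Set.mem_singleton_iff.1 hq]; exact (hvz.mul_left hxz).symm.eq
  have h1 := h.fpf_two (h.centralizer_two (by rw [← map_mul, hzz, map_one])
    (fun e1 => hz1 (hι (e1.trans ι.map_one.symm)))) Nat.prime_three (by norm_num) hτo hmem hfix
  exact hxM ((mul_mem_cancel_left (hιM v)).1 (h1 ▸ one_mem M))

theorem not_six (h : Ord5 G) (M : Subgroup G) [M.Normal] (e : M ≃* B) : M = ⊤ := by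
  obtain ⟨-, -, -, -, hrz, hrza, hzz, hz1, haa, ha1, haz, hab, hazb, hza, -, hzbza, hbza,
    hq1, hq2, hq3, hq4, hzzb, hzb⟩ := a6_facts
  let ι : B →* G := M.subtype.comp e.symm.toMonoidHom
  have hι : Function.Injective ι := M.subtype_injective.comp e.symm.injective
  have hιM : ∀ c, ι c ∈ M := fun c => (e.symm c).2
  have hrange : ∀ y ∈ M, ∃ c, ι c = y := fun y hy => ⟨e ⟨y, hy⟩, by
    show ((e.symm (e ⟨y, hy⟩) : M) : G) = y
    rw [e.symm_apply_apply]⟩
  refine (Subgroup.eq_top_iff' M).2 fun g => ?_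
  by_contra hg
  have hCz := h.centralizer_two (z := ι z) (by rw [← map_mul, hzz, map_one])
    (fun e1 => hz1 (hι (e1.trans ι.map_one.symm)))
  have hpow : ∀ w : G, Commute w (ι z) → w ^ 4 = 1 := fun w hw =>
    h.two_pow_four hCz (Subgroup.mem_centralizer_iff.2 fun q hq => by
      rw [Set.mem_singleton_iff.1 hq]; exact hw.symm.eq)
  -- an element outside `M` centralizing `z`
  obtain ⟨x0, hx0, hx0z⟩ : ∃ x0 : G, x0 ∉ M ∧ Commute x0 (ι z) := by
    obtain ⟨c, hc⟩ := hrange _ (Subgroup.Normal.conj_mem inferInstance _ (hιM z) g)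
    have hcc : c * c = 1 := hι (by
      rw [map_mul, hc, map_one]; exact conj_sq (by rw [← map_mul, hzz, map_one]))
    have hc1 : c ≠ 1 := fun e1 => hz1 (hι (by
      rw [e1, map_one, eq_comm, conj_eq_one_iff] at hc; rw [hc, map_one]))
    obtain ⟨n, hn⟩ := a6_inv c hcc hc1
    refine ⟨(ι n)⁻¹ * g, fun hm => hg ((mul_mem_cancel_left (inv_mem (hιM n))).1 hm), ?_⟩
    apply mul_inv_eq_iff_eq_mul.1
    calc (ι n)⁻¹ * g * ι z * ((ι n)⁻¹ * g)⁻¹ = (ι n)⁻¹ * (g * ι z * g⁻¹) * ι n := by group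
      _ = ι z := by rw [← hc, ← hn, map_mul, map_mul, map_inv]; group
  obtain ⟨x, hxM, hxz, hxx⟩ : ∃ x : G, x ∉ M ∧ Commute x (ι z) ∧ x * x ∈ M := by
    by_cases h2 : x0 * x0 ∈ M
    · exact ⟨x0, hx0, hx0z, h2⟩
    · refine ⟨x0 * x0, h2, hx0z.mul_left hx0z, ?_⟩
      rw [show x0 * x0 * (x0 * x0) = x0 ^ 4 by simp only [pow_succ, pow_zero, one_mul, mul_assoc], hpow x0 hx0z]
      exact one_mem M
  have hxz' : x * ι z * x⁻¹ = ι z := by rw [hxz.eq, mul_inv_cancel_right]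
  obtain ⟨c, hc⟩ := hrange _ (Subgroup.Normal.conj_mem inferInstance _ (hιM a) x)
  have hcz : c * z = z * c := hι (by
    rw [map_mul, map_mul, hc]
    calc x * ι a * x⁻¹ * ι z = x * ι a * x⁻¹ * (x * ι z * x⁻¹) := by rw [hxz']
      _ = x * (ι a * ι z) * x⁻¹ := by group
      _ = x * (ι z * ι a) * x⁻¹ := by rw [← map_mul, ← map_mul, haz]
      _ = (x * ι z * x⁻¹) * (x * ι a * x⁻¹) := by group
      _ = ι z * (x * ι a * x⁻¹) := by rw [hxz'])
  have hcc : c * c = 1 := hι (by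
    rw [map_mul, hc, map_one]; exact conj_sq (by rw [← map_mul, haa, map_one]))
  have hca : Commute x (ι a) → False := no_central h M ι hι hιM hrange hxM hxz
  have hswap : c = b ∨ c = z * b := by
    rcases a6_cz c hcz hcc with rfl | rfl | rfl | rfl | rfl | rfl
    · exact absurd (conj_eq_one_iff.1 ((hc.symm.trans ι.map_one))) fun e1 => ha1 (hι (e1.trans ι.map_one.symm))
    · exfalso
      refine hza (hι ?_)
      exact mul_left_cancel (mul_right_cancel (hxz'.trans hc))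
    · exact (hca (mul_inv_eq_iff_eq_mul.1 hc.symm)).elim
    · exfalso
      refine no_central h M ι hι hιM hrange (x := ι r * x) (fun hm => hxM ((mul_mem_cancel_left (hιM r)).1 hm))
        ((show Commute r z from hrz).map ι |>.mul_left hxz) ?_
      apply mul_inv_eq_iff_eq_mul.1
      calc ι r * x * ι a * (ι r * x)⁻¹ = ι r * (x * ι a * x⁻¹) * (ι r)⁻¹ := by group
        _ = ι a := by rw [← hc, ← map_inv, ← map_mul, ← map_mul, hrza]
    · exact Or.inl rfl
    · exact Or.inr rfl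
  obtain ⟨w, hw⟩ := hrange _ hxx
  have hwz : w * z = z * w := hι (by
    rw [map_mul, map_mul, hw]; exact (hxz.mul_left hxz).eq)
  have hww : w * w = 1 := hι (by
    rw [map_mul, hw, map_one, show x * x * (x * x) = x ^ 4 by simp only [pow_succ, pow_zero, one_mul, mul_assoc],
      hpow x hxz])
  have hwfix : x * ι w * x⁻¹ = ι w := by rw [hw]; group
  have hxza : x * ι (z * a) * x⁻¹ = ι (z * c) := by
    rw [map_mul, map_mul, hc, show x * (ι z * ι a) * x⁻¹ = (x * ι z * x⁻¹) * (x * ι a * x⁻¹) by group, hxz']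
  have hfixb : x * ι b * x⁻¹ = ι b → False := by
    intro hb
    have hzb' : x * ι (z * b) * x⁻¹ = ι (z * b) := by
      rw [map_mul, show x * (ι z * ι b) * x⁻¹ = (x * ι z * x⁻¹) * (x * ι b * x⁻¹) by group, hxz', hb]
    rcases hswap with rfl | rfl
    · exact hab (hι (mul_left_cancel (mul_right_cancel (hc.symm.trans hb.symm))))
    · exact hazb (hι (mul_left_cancel (mul_right_cancel (hc.symm.trans hzb'.symm))))
  have hxw : w = 1 ∨ w = z := by
    rcases a6_cz w hwz hww with rfl | rfl | rfl | rfl | rfl | rfl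
    · exact Or.inl rfl
    · exact Or.inr rfl
    · exfalso
      rw [← hc] at hwfix
      rcases hswap with rfl | rfl
      exacts [hab (hι hwfix).symm, hazb (hι hwfix).symm]
    · exfalso
      rw [hxza] at hwfix
      rcases hswap with rfl | rfl
      · exact hzbza (hι hwfix)
      · rw [hzzb] at hwfix
        exact hbza (hι hwfix)
    · exact (hfixb hwfix).elim
    · exfalso
      apply hfixb
      calc x * ι b * x⁻¹ = x * (ι z * ι (z * b)) * x⁻¹ := by rw [← map_mul, hzzb]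
        _ = (x * ι z * x⁻¹) * (x * ι (z * b) * x⁻¹) := by group
        _ = ι b := by rw [hxz', hwfix, ← map_mul, hzzb]
  have key : ∀ d : B, d * a * (d * a) ≠ 1 → d * a * (d * a) * (d * a * (d * a)) = 1 →
      c * w = d → False := by
    intro d hd1 hd4 hcw
    have e2 : x * ι a * (x * ι a) = ι (d * a) := by
      rw [← hcw, map_mul, map_mul, hc, hw]
      group
    have h8 : (x * ι a) ^ (2 ^ 3) = 1 := by
      rw [show (x * ι a) ^ (2 ^ 3) = (x * ι a * (x * ι a)) * (x * ι a * (x * ι a)) *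
        ((x * ι a * (x * ι a)) * (x * ι a * (x * ι a))) by simp only [show (2 : ℕ) ^ 3 = 8 from rfl, pow_succ, pow_zero, one_mul, mul_assoc],
        e2, ← map_mul, ← map_mul, hd4, map_one]
    obtain ⟨k, -, hk⟩ := (Nat.dvd_prime_pow Nat.prime_two).1 (orderOf_dvd_of_pow_eq_one h8)
    have h4 := h.pow_four hk
    apply hd1
    apply hι
    rw [map_mul, ← e2, map_one, ← h4]
    simp only [pow_succ, pow_zero, one_mul, mul_assoc]
  rcases hxw with rfl | rfl <;> rcases hswap with rfl | rfl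
  · exact key b hq1 hq3 (mul_one _)
  · exact key (z * b) hq2 hq4 (mul_one _)
  · exact key (z * b) hq2 hq4 hzb.symm
  · exact key b hq1 hq3 (by rw [hzb, mul_assoc, hzz, mul_one])

end Almost

end Cfsg.Agent.FiveOrders
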