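import Mathlib
import Cfsg.Agent.Lib.Coprime.Generation
import Cfsg.Agent.Lib.Characters.Burnside
import Cfsg.Agent.S1475
import Cfsg.Agent.S3992

/-!
# Groups all of whose element orders are at most five
-/

set_option autoImplicit false
set_option linter.all false

namespace Cfsg.Agent.FiveOrders

universe u

/-- Every element order is at most five. -/
def Ord5 (G : Type*) [Group G] : Prop := ∀ g : G, orderOf g ≤ 5

variable {G : Type u} [Group G] [Finite G]

theorem Ord5.sub (h : Ord5 G) (H : Subgroup G) : Ord5 H := fun g => by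
  rw [← Subgroup.orderOf_coe]; exact h _

theorem Ord5.of_surjective (h : Ord5 G) {K : Type*} [Group K] (f : G →* K)
    (hf : Function.Surjective f) : Ord5 K := by
  intro k
  obtain ⟨g, rfl⟩ := hf k
  exact (Nat.le_of_dvd (orderOf_pos g) (orderOf_map_dvd f g)).trans (h g)

theorem Ord5.quot (h : Ord5 G) (N : Subgroup G) [N.Normal] : Ord5 (G ⧸ N) :=
  h.of_surjective _ (QuotientGroup.mk'_surjective N)

theorem Ord5.cases (h : Ord5 G) {g : G} (hg : g ≠ 1) :
    orderOf g = 2 ∨ orderOf g = 3 ∨ orderOf g = 4 ∨ orderOf g = 5 := by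
  have h1 : orderOf g ≠ 1 := mt orderOf_eq_one_iff.1 hg
  have h2 := orderOf_pos g
  have h3 := h g
  omega

theorem Ord5.cp (h : Ord5 G) : S3992.CP G := by
  intro g hg
  rcases h.cases hg with e | e | e | e <;> rw [e]
  · exact Nat.prime_two.isPrimePow
  · exact Nat.prime_three.isPrimePow
  · exact ⟨2, 2, Nat.prime_two.prime, two_pos, by norm_num⟩
  · exact (by norm_num : Nat.Prime 5).isPrimePow

theorem Ord5.prime_cases (h : Ord5 G) {p : ℕ} (hp : p.Prime) (hd : p ∣ Nat.card G) :
    p = 2 ∨ p = 3 ∨ p = 5 := by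
  haveI := Fact.mk hp
  obtain ⟨g, hg⟩ := exists_prime_orderOf_dvd_card' p hd
  have h5 := hg ▸ h g
  have := hp.two_le
  interval_cases p <;> norm_num at hp <;> simp

/-- An element commuting with an element of order `p` has `p`-power order. -/
theorem Ord5.eq_of_commute (h : Ord5 G) {a b : G} {p q : ℕ} (hp : p.Prime) (hq : q.Prime)
    (hab : Commute a b) (ha : p ∣ orderOf a) (hb : orderOf b = q) : p = q :=
  h.cp.eq_prime hab hp hq ha hb

theorem Ord5.centralizer_isPGroup (h : Ord5 G) {z : G} {p : ℕ} [Fact p.Prime] (hz : orderOf z = p) :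
    IsPGroup p (Subgroup.centralizer ({z} : Set G)) :=
  h.cp.isPGroup hz fun g hg => (Subgroup.mem_centralizer_iff.1 hg z rfl).symm

theorem Ord5.centralizer_two (h : Ord5 G) {z : G} (hz : z * z = 1) (hz1 : z ≠ 1) :
    IsPGroup 2 (Subgroup.centralizer ({z} : Set G)) :=
  haveI : Fact (Nat.Prime 2) := ⟨Nat.prime_two⟩
  h.centralizer_isPGroup (orderOf_eq_prime (by rw [pow_two, hz]) hz1)

theorem Ord5.pow_odd (h : Ord5 G) {p : ℕ} (hp : p.Prime) (hp2 : p ≠ 2) {g : G}
    {k : ℕ} (hg : orderOf g = p ^ k) : g ^ p = 1 := by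
  rcases eq_or_ne g 1 with rfl | hg1
  · exact one_pow p
  have hk : k = 1 := by
    rcases k with _ | _ | k
    · rw [pow_zero, orderOf_eq_one_iff] at hg; exact absurd hg hg1
    · rfl
    · exfalso
      have h3 : 3 ≤ p := lt_of_le_of_ne hp.two_le (Ne.symm hp2)
      have : p ^ 2 ≤ p ^ (k + 2) := Nat.pow_le_pow_right hp.pos (by omega)
      have h5 := hg ▸ h g
      nlinarith
  subst hk
  rw [pow_one] at hg
  exact hg ▸ pow_orderOf_eq_one g

theorem Ord5.pow_four (h : Ord5 G) {g : G} {k : ℕ} (hg : orderOf g = 2 ^ k) : g ^ 4 = 1 := by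
  have hk : k ≤ 2 := by
    by_contra hc
    have : 2 ^ 3 ≤ 2 ^ k := Nat.pow_le_pow_right two_pos (by omega)
    have h5 := hg ▸ h g
    omega
  apply orderOf_dvd_iff_pow_eq_one.1
  rw [hg]
  exact pow_dvd_pow 2 hk

theorem Ord5.pgroup_pow (h : Ord5 G) {p : ℕ} [hp : Fact p.Prime] (hp2 : p ≠ 2) {P : Subgroup G}
    (hP : IsPGroup p P) {g : G} (hg : g ∈ P) : g ^ p = 1 := by
  obtain ⟨k, hk⟩ := IsPGroup.iff_orderOf.1 hP ⟨g, hg⟩
  exact h.pow_odd hp.out hp2 (by rw [← hk, Subgroup.orderOf_mk])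

theorem Ord5.two_pow_four (h : Ord5 G) {P : Subgroup G}
    (hP : IsPGroup 2 P) {g : G} (hg : g ∈ P) : g ^ 4 = 1 := by
  haveI : Fact (Nat.Prime 2) := ⟨Nat.prime_two⟩
  obtain ⟨k, hk⟩ := IsPGroup.iff_orderOf.1 hP ⟨g, hg⟩
  exact h.pow_four (k := k) (by rw [← hk, Subgroup.orderOf_mk])

/-- Solvable such groups have at most two prime divisors. -/
theorem Ord5.two_primes (h : Ord5 G) [Group.IsSolvable G] :
    (Nat.card G).primeFactors.card ≤ 2 :=
  S1475.higman _ rfl fun g => (em (g = 1)).symm.imp (fun hg => h.cp g hg) id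

theorem Ord5.not_all_dvd (h : Ord5 G) [Group.IsSolvable G]
    (h2 : 2 ∣ Nat.card G) (h3 : 3 ∣ Nat.card G) (h5 : 5 ∣ Nat.card G) : False := by
  have hs : ({2, 3, 5} : Finset ℕ) ⊆ (Nat.card G).primeFactors := by
    intro x hx
    simp only [Finset.mem_insert, Finset.mem_singleton] at hx
    rw [Nat.mem_primeFactors]
    rcases hx with rfl | rfl | rfl <;> exact ⟨by norm_num, ‹_›, Nat.card_pos.ne'⟩
  have := (Finset.card_le_card hs).trans h.two_primes
  norm_num at this

/-- A non-solvable such group has order divisible by 2, 3 and 5. -/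
theorem Ord5.dvd_of_not_solvable (h : Ord5 G) (hns : ¬ Group.IsSolvable G) :
    2 ∣ Nat.card G ∧ 3 ∣ Nat.card G ∧ 5 ∣ Nat.card G := by
  have key : ∀ p q r : ℕ, p.Prime → q.Prime → ({p, q, r} : Finset ℕ) = {2, 3, 5} → ¬ r ∣ Nat.card G → False := by
    intro p q r hp hq hset hr
    apply hns
    have hsub : ∀ s : ℕ, s.Prime → s ∣ Nat.card G → s = p ∨ s = q := by
      intro s hs hsd
      have : s ∈ ({p, q, r} : Finset ℕ) := by
        rw [hset]
        rcases h.prime_cases hs hsd with rfl | rfl | rfl <;> simp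
      simp only [Finset.mem_insert, Finset.mem_singleton] at this
      rcases this with e | e | e
      · exact Or.inl e
      · exact Or.inr e
      · exact absurd (e ▸ hsd) hr
    by_cases hpq : p = q
    · subst hpq
      haveI := Fact.mk hp
      obtain ⟨k, hk⟩ : ∃ k, Nat.card G = p ^ k :=
        ⟨_, Nat.eq_prime_pow_of_unique_prime_dvd Nat.card_pos.ne' fun {d} hd hdd => (hsub d hd hdd).elim id id⟩
      exact S3992.isSolvable_of_isPGroup (IsPGroup.of_card hk)
    refine Characters.burnside_pa_qb hp hq (a := (Nat.card G).factorization p) (b := (Nat.card G).factorization q) ?_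
    refine Nat.eq_of_factorization_eq Nat.card_pos.ne' (by positivity [hp.pos, hq.pos]) fun s => ?_
    rw [Nat.factorization_mul (pow_ne_zero _ hp.ne_zero) (pow_ne_zero _ hq.ne_zero),
      hp.factorization_pow, hq.factorization_pow]
    simp only [Finsupp.coe_add, Pi.add_apply]
    by_cases hsp : s = p
    · subst hsp; simp [Finsupp.single_apply, Ne.symm hpq]
    by_cases hsq : s = q
    · subst hsq; simp [Finsupp.single_apply, Ne.symm hsp, hpq]
    simp only [Finsupp.single_apply, if_neg (Ne.symm hsp), if_neg (Ne.symm hsq), add_zero]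
    refine Nat.factorization_eq_zero_iff _ _ |>.2 ?_
    by_cases hs : s.Prime
    · exact Or.inr (Or.inl fun hd => (hsub s hs hd).elim hsp hsq)
    · exact Or.inl hs
  refine ⟨?_, ?_, ?_⟩ <;> by_contra hc
  · exact key 3 5 2 (by norm_num) (by norm_num) (by decide) hc
  · exact key 2 5 3 (by norm_num) (by norm_num) (by decide) hc
  · exact key 2 3 5 (by norm_num) (by norm_num) (by decide) hc

/-- A noncyclic abelian `p`-group cannot normalize a nontrivial `q`-group, `q ≠ p`. -/
theorem Ord5.no_noncyclic (h : Ord5 G) {p q : ℕ} [hp : Fact p.Prime] [hq : Fact q.Prime] (hpq : p ≠ q)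
    {A K : Subgroup G} (hA : IsPGroup p A) (hcomm : ∀ a ∈ A, ∀ b ∈ A, Commute a b)
    (hAc : ¬ IsCyclic A) (hK : IsPGroup q K) (hAK : A ≤ Subgroup.normalizer (K : Set G)) : K = ⊥ := by
  haveI : IsMulCommutative A := ⟨⟨fun a b => Subtype.ext (hcomm a a.2 b b.2).eq⟩⟩
  have hfix := Coprime.fixedGen_eq hAc (K := K) hAK (IsPGroup.coprime_card_of_ne p q hpq A K hA hK)
  rw [← hfix, eq_bot_iff]
  refine iSup₂_le fun a ha => ?_
  intro v hv
  rw [Subgroup.mem_bot]
  by_contra hv1
  obtain ⟨hvK, hvc⟩ := hv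
  obtain ⟨i, hi⟩ := IsPGroup.iff_orderOf.1 hK ⟨v, hvK⟩
  obtain ⟨j, hj⟩ := IsPGroup.iff_orderOf.1 hA ⟨a, ha.1⟩
  rw [Subgroup.orderOf_mk] at hi hj
  have hi0 : i ≠ 0 := fun e => hv1 (orderOf_eq_one_iff.1 (by rw [hi, e, pow_zero]))
  have hj0 : j ≠ 0 := fun e => ha.2 (orderOf_eq_one_iff.1 (by rw [hj, e, pow_zero]))
  have hpd : p ∣ orderOf a := hj ▸ dvd_pow_self p hj0
  exact hpq (h.eq_of_commute hp.out hq.out
    ((show Commute a v from Subgroup.mem_centralizer_iff.1 hvc a rfl).pow_right (orderOf v / q))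
    hpd (orderOf_pow_orderOf_div (orderOf_pos v).ne' (hi ▸ dvd_pow_self q hi0)))

/-- An element of order `p` and an element of order `q ≠ p` do not commute. -/
theorem Ord5.not_commute (h : Ord5 G) {a b : G} {p q : ℕ} (hp : p.Prime) (hq : q.Prime) (hpq : p ≠ q)
    (ha : orderOf a = p) (hb : orderOf b = q) : ¬ Commute a b := fun hc =>
  hpq (h.eq_of_commute hp hq hc ha.symm.dvd hb)

/-- An element with nontrivial image of order dividing `p` in a quotient has order `p`. -/
theorem Ord5.orderOf_lift (h : Ord5 G) {K : Type*} [Group K] (f : G →* K) {g : G} {p : ℕ}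
    (hp : p.Prime) (hp2 : p ≠ 2) (hg : orderOf (f g) = p) : orderOf g = p := by
  have hd := hg ▸ orderOf_map_dvd f g
  have hne : g ≠ 1 := fun e => hp.ne_one (by rw [← hg, e, map_one, orderOf_one])
  rcases h.cases hne with e | e | e | e <;> rw [e] at hd ⊢
  · exact absurd ((Nat.prime_dvd_prime_iff_eq hp Nat.prime_two).1 hd) hp2
  · exact ((Nat.prime_dvd_prime_iff_eq hp Nat.prime_three).1 hd).symm
  · exact absurd ((Nat.prime_dvd_prime_iff_eq hp Nat.prime_two).1 (hp.dvd_of_dvd_pow (show p ∣ 2 ^ 2 from hd))) hp2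
  · exact ((Nat.prime_dvd_prime_iff_eq hp (by norm_num)).1 hd).symm

end Cfsg.Agent.FiveOrders
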