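import Cfsg.Agent.Lib.FiveOrders.Basic

/-!
# Fixed point free complements, and trivial intersection of odd Sylow subgroups
-/

set_option autoImplicit false
set_option linter.all false

namespace Cfsg.Agent.FiveOrders

universe u

variable {G : Type u} [Group G] [Finite G]

/-- A noncyclic pair: two commuting elements of order `p` generating more than `p` elements. -/
theorem Ord5.not_cyclic_pair (h : Ord5 G) {p q : ℕ} [hp : Fact p.Prime] [hq : Fact q.Prime] (hpq : p ≠ q)
    {a b : G} (ha : orderOf a = p) (hb : b ^ p = 1) (hab : Commute a b) (hba : b ∉ Subgroup.zpowers a)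
    {K : Subgroup G} (hK : IsPGroup q K) (hKa : a ∈ Subgroup.normalizer (K : Set G))
    (hKb : b ∈ Subgroup.normalizer (K : Set G)) : K = ⊥ := by
  have hcomm : IsMulCommutative (Subgroup.closure ({a, b} : Set G)) :=
    Subgroup.isMulCommutative_closure fun x hx y hy => by
      rcases hx with rfl | rfl <;> rcases hy with rfl | rfl
      · rfl
      · exact hab
      · exact hab.symm
      · rfl
  set A := Subgroup.closure ({a, b} : Set G) with hA
  have hc : ∀ x ∈ A, ∀ y ∈ A, Commute x y := fun x hx y hy =>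
    congrArg Subtype.val (hcomm.is_comm.comm ⟨x, hx⟩ ⟨y, hy⟩)
  have hexp : ∀ x ∈ A, x ^ p = 1 := by
    intro x hx
    induction hx using Subgroup.closure_induction with
    | mem x hx => rcases hx with rfl | rfl
                  · rw [← ha]; exact pow_orderOf_eq_one _
                  · exact hb
    | one => exact one_pow p
    | mul x y hx hy h1 h2 => rw [(hc x hx y hy).mul_pow, h1, h2, one_mul]
    | inv x _ h1 => rw [inv_pow, h1, inv_one]
  refine h.no_noncyclic hpq (A := A) ?_ hc ?_ hK ?_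
  · intro x
    exact ⟨1, Subtype.ext (by rw [pow_one]; exact hexp x x.2)⟩
  · intro hcyc
    obtain ⟨g, hg⟩ := (Subgroup.isCyclic_iff_exists_zpowers_eq_top A).1 hcyc
    have hgA : g ∈ A := hg ▸ Subgroup.mem_zpowers g
    have hd : Nat.card (Subgroup.zpowers g) ≤ p := by
      rw [Nat.card_zpowers]; exact Nat.le_of_dvd hp.out.pos (orderOf_dvd_of_pow_eq_one (hexp g hgA))
    have heq : Subgroup.zpowers a = Subgroup.zpowers g := by
      refine Subgroup.eq_of_le_of_card_ge ?_ (hd.trans (by rw [Nat.card_zpowers, ha]))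
      rw [Subgroup.zpowers_le, hg]
      exact Subgroup.subset_closure (Set.mem_insert _ _)
    apply hba
    rw [heq, hg]
    exact Subgroup.subset_closure (Set.mem_insert_of_mem _ rfl)
  · rw [hA, Subgroup.closure_le]
    intro x hx
    rcases hx with rfl | rfl
    exacts [hKa, hKb]

/-- Commuting involutions normalizing a nontrivial group of odd prime power order are equal. -/
theorem Ord5.involution_eq (h : Ord5 G) {p : ℕ} [hp : Fact p.Prime] (hp2 : p ≠ 2) {a b : G}
    (ha : a * a = 1) (ha1 : a ≠ 1) (hb : b * b = 1) (hb1 : b ≠ 1) (hab : Commute a b)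
    {K : Subgroup G} (hK : IsPGroup p K) (hK1 : K ≠ ⊥) (hKa : a ∈ Subgroup.normalizer (K : Set G))
    (hKb : b ∈ Subgroup.normalizer (K : Set G)) : a = b := by
  haveI : Fact (Nat.Prime 2) := ⟨Nat.prime_two⟩
  by_contra hne
  refine hK1 (h.not_cyclic_pair (p := 2) (Ne.symm hp2) (orderOf_eq_prime (by rw [pow_two, ha]) ha1)
    (by rw [pow_two, hb]) hab ?_ hK hKa hKb)
  intro hmem
  obtain ⟨k, rfl⟩ := Subgroup.mem_zpowers_iff.1 hmem
  rcases Int.even_or_odd k with ⟨m, hm⟩ | ⟨m, hm⟩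
  · apply hb1
    rw [hm, zpow_add, ← mul_zpow_self_eq ha]
  · apply hne
    rw [hm, zpow_add, zpow_one, two_mul, zpow_add, ← mul_zpow_self_eq ha, one_mul]
where
  mul_zpow_self_eq {a : G} (ha : a * a = 1) {m : ℤ} : 1 = a ^ m * a ^ m := by
    rw [← (Commute.refl a).mul_zpow, ha, one_zpow]

/-- An odd `p`-group normalizing a nontrivial `q`-group has order at most `p`. -/
theorem Ord5.card_le (h : Ord5 G) {p q : ℕ} [hp : Fact p.Prime] [hq : Fact q.Prime] (hp2 : p ≠ 2)
    (hpq : p ≠ q) {P K : Subgroup G} (hP : IsPGroup p P) (hK : IsPGroup q K) (hK1 : K ≠ ⊥)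
    (hPK : P ≤ Subgroup.normalizer (K : Set G)) : Nat.card P ≤ p := by
  by_contra hlt
  haveI : Nontrivial P := Finite.one_lt_card_iff_nontrivial.1 (lt_trans hp.out.one_lt (lt_of_not_ge hlt))
  haveI := hP.center_nontrivial
  obtain ⟨n, hn, hcn⟩ := (hP.to_subgroup (Subgroup.center P)).nontrivial_iff_card.1 inferInstance
  obtain ⟨c, hc⟩ := exists_prime_orderOf_dvd_card' (G := Subgroup.center P) p (hcn ▸ dvd_pow_self p hn.ne')
  set z : G := ((c : P) : G) with hz
  have hzo : orderOf z = p := by rw [hz, Subgroup.orderOf_coe, Subgroup.orderOf_coe, hc]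
  obtain ⟨x, hxP, hx⟩ : ∃ x ∈ P, x ∉ Subgroup.zpowers z := by
    by_contra hall
    push Not at hall
    apply hlt
    have := Subgroup.card_le_of_le (fun x hx => hall x hx : P ≤ Subgroup.zpowers z)
    rwa [Nat.card_zpowers, hzo] at this
  refine hK1 (h.not_cyclic_pair hpq hzo (h.pgroup_pow hp2 hP hxP) ?_ hx hK (hPK (c : P).2) (hPK hxP))
  exact (congrArg Subtype.val (Subgroup.mem_center_iff.1 c.2 ⟨x, hxP⟩)).symm

/-- A non-solvable group has no nontrivial normal subgroup of odd prime power order. -/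
theorem Ord5.not_normal_odd (h : Ord5 G) (hns : ¬ Group.IsSolvable G) {p : ℕ} [hp : Fact p.Prime]
    (hp2 : p ≠ 2) (Q : Subgroup G) [Q.Normal] (hQ : IsPGroup p Q) : Q = ⊥ := by
  by_contra hQ1
  haveI : Fact (Nat.Prime 2) := ⟨Nat.prime_two⟩
  haveI : Nontrivial Q := Q.nontrivial_iff_ne_bot.2 hQ1
  haveI := hQ.center_nontrivial
  set A := (Subgroup.center Q).map Q.subtype with hA
  haveI : A.Normal := Cores.normal_map_subtype Q _
  obtain ⟨n, hn, hcn⟩ := (hQ.to_subgroup (Subgroup.center Q)).nontrivial_iff_card.1 inferInstance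
  obtain ⟨c, hc⟩ := exists_prime_orderOf_dvd_card' (G := Subgroup.center Q) p (hcn ▸ dvd_pow_self p hn.ne')
  have hzA : ((c : Q) : G) ∈ A := ⟨c, c.2, rfl⟩
  have hzo : orderOf ((c : Q) : G) = p := by rw [Subgroup.orderOf_coe, Subgroup.orderOf_coe, hc]
  set C := Subgroup.centralizer (A : Set G) with hC
  haveI : C.Normal := Subgroup.normal_centralizer
  have hCp : IsPGroup p C := (h.centralizer_isPGroup hzo).to_le
    (Subgroup.centralizer_le (Set.singleton_subset_iff.2 hzA))
  have hinv : ∀ t : G, t * t = 1 → t ≠ 1 → ∀ a ∈ A, t * a * t⁻¹ = a⁻¹ := by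
    intro t ht ht1 a ha
    have hb : t * a * t⁻¹ ∈ A := Subgroup.Normal.conj_mem inferInstance a ha t
    obtain ⟨a', ha', haa⟩ := ha
    obtain ⟨b', hb', hbb⟩ := hb
    have hcomm : a * (t * a * t⁻¹) = (t * a * t⁻¹) * a := by
      have := congrArg Q.subtype (Subgroup.mem_center_iff.1 hb' a')
      rwa [map_mul, map_mul, haa, hbb] at this
    have htinv : t⁻¹ = t := inv_eq_of_mul_eq_one_right ht
    have hct : Commute (t * a * t⁻¹ * a) t := by
      show t * a * t⁻¹ * a * t = t * (t * a * t⁻¹ * a)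
      rw [← mul_assoc, ← mul_assoc, ← mul_assoc, ht, one_mul, htinv]
      calc t * a * t * a * t = (t * a * t⁻¹) * a * t := by rw [htinv]
        _ = a * (t * a * t⁻¹) * t := by rw [hcomm]
        _ = a * t * a := by rw [htinv]; simp only [mul_assoc]; rw [ht, mul_one]
    have hmem : t * a * t⁻¹ * a ∈ Q := mul_mem (hbb ▸ b'.2) (haa ▸ a'.2)
    apply eq_inv_of_mul_eq_one_left
    by_contra hne
    obtain ⟨k, hk⟩ := IsPGroup.iff_orderOf.1 hQ ⟨_, hmem⟩
    rw [Subgroup.orderOf_mk] at hk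
    have hk0 : k ≠ 0 := fun e => hne (orderOf_eq_one_iff.1 (by rw [hk, e, pow_zero]))
    exact hp2 (h.eq_of_commute hp.out Nat.prime_two hct (hk ▸ dvd_pow_self p hk0)
      (orderOf_eq_prime (by rw [pow_two, ht]) ht1))
  obtain ⟨h2, h3, h5⟩ := h.dvd_of_not_solvable hns
  obtain ⟨t, ht⟩ := exists_prime_orderOf_dvd_card' (G := G) 2 h2
  have htt : t * t = 1 := by rw [← pow_two, ← ht]; exact pow_orderOf_eq_one t
  have ht1 : t ≠ 1 := fun e => by rw [e, orderOf_one] at ht; norm_num at ht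
  have hcen : ∀ g : G, Commute (QuotientGroup.mk t : G ⧸ C) (QuotientGroup.mk g) := by
    intro g
    have hu : (g * t * g⁻¹) * (g * t * g⁻¹) = 1 := by
      rw [show g * t * g⁻¹ * (g * t * g⁻¹) = g * (t * t) * g⁻¹ by group, htt, mul_one, mul_inv_cancel]
    have hu1 : g * t * g⁻¹ ≠ 1 := fun e => ht1 (conj_eq_one_iff.1 e)
    have hmem : t⁻¹ * (g * t * g⁻¹) ∈ C := by
      rw [hC, Subgroup.mem_centralizer_iff]
      intro a ha
      have h1 := hinv _ htt ht1 a ha
      have h2 := hinv _ hu hu1 a ha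
      set u := g * t * g⁻¹
      have huv : u⁻¹ = u := inv_eq_of_mul_eq_one_right hu
      calc a * (t⁻¹ * u) = t⁻¹ * (t * a * t⁻¹) * u := by group
        _ = t⁻¹ * (u * a * u⁻¹) * u := by rw [h1, h2]
        _ = t⁻¹ * u * a := by group
    have he : (QuotientGroup.mk t : G ⧸ C) = QuotientGroup.mk (g * t * g⁻¹) :=
      QuotientGroup.eq.2 hmem
    show _ = _
    calc (QuotientGroup.mk t : G ⧸ C) * QuotientGroup.mk g
        = QuotientGroup.mk (g * t * g⁻¹) * QuotientGroup.mk g := by rw [← he]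
      _ = QuotientGroup.mk g * QuotientGroup.mk t := by
          rw [← QuotientGroup.mk_mul, ← QuotientGroup.mk_mul, inv_mul_cancel_right]
  obtain ⟨q, hq, hq2, hqp, hqd⟩ : ∃ q : ℕ, q.Prime ∧ q ≠ 2 ∧ q ≠ p ∧ q ∣ Nat.card G := by
    by_cases hp3 : p = 3
    · exact ⟨5, by norm_num, by norm_num, by omega, h5⟩
    · exact ⟨3, Nat.prime_three, by norm_num, Ne.symm hp3, h3⟩
  haveI := Fact.mk hq
  obtain ⟨x, hx⟩ := exists_prime_orderOf_dvd_card' (G := G) q hqd
  have himg : ∀ (y : G) (r : ℕ), r.Prime → r ≠ p → orderOf y = r → orderOf (QuotientGroup.mk y : G ⧸ C) = r := by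
    intro y r hr hrp hy
    have hd : orderOf (QuotientGroup.mk y : G ⧸ C) ∣ r := hy ▸ orderOf_map_dvd (QuotientGroup.mk' C) y
    rcases (Nat.dvd_prime hr).1 hd with e | e
    · exfalso
      obtain ⟨k, hk⟩ := IsPGroup.iff_orderOf.1 hCp ⟨y, (QuotientGroup.eq_one_iff y).1 (orderOf_eq_one_iff.1 e)⟩
      rw [Subgroup.orderOf_mk, hy] at hk
      exact hrp ((Nat.prime_dvd_prime_iff_eq hr hp.out).1 (hr.dvd_of_dvd_pow hk.dvd))
    · exact e
  exact (h.quot C).not_commute Nat.prime_two hq (Ne.symm hq2) (himg t 2 Nat.prime_two (Ne.symm hp2) ht)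
    (himg x q hq hqp hx) (hcen x)

/-- A `p`-element normalizing a subgroup of order `≢ 1 (mod p)` centralizes a nontrivial element. -/
theorem exists_commute {p : ℕ} [hp : Fact p.Prime] {x : G} (hx : IsPGroup p (Subgroup.zpowers x))
    {K : Subgroup G} (hxK : x ∈ Subgroup.normalizer (K : Set G)) (hK : Nat.card K % p ≠ 1) :
    ∃ k ∈ K, k ≠ 1 ∧ Commute x k := by
  let hle : Subgroup.zpowers x ≤ Subgroup.normalizer (K : Set G) := Subgroup.zpowers_le.2 hxK
  letI : MulAction (Subgroup.zpowers x) K :=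
    { smul := fun a k => ⟨a * k * (a : G)⁻¹, (Subgroup.mem_normalizer_iff.1 (hle a.2) k).1 k.2⟩
      one_smul := fun k => Subtype.ext (by show (1 : G) * k * (1 : G)⁻¹ = k; simp)
      mul_smul := fun a b k => Subtype.ext (by
        show (a : G) * b * k * ((a : G) * b)⁻¹ = a * (b * k * (b : G)⁻¹) * (a : G)⁻¹
        simp only [mul_assoc, mul_inv_rev]) }
  by_contra hno
  push Not at hno
  have hfix : MulAction.fixedPoints (Subgroup.zpowers x) K = {1} := by
    ext k
    simp only [MulAction.mem_fixedPoints, Set.mem_singleton_iff]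
    constructor
    · intro hk
      by_contra hk1
      have := congrArg Subtype.val (hk ⟨x, Subgroup.mem_zpowers x⟩)
      refine hno k k.2 (fun e => hk1 (Subtype.ext e)) ?_
      show x * (k : G) = k * x
      exact mul_inv_eq_iff_eq_mul.1 this
    · rintro rfl a
      exact Subtype.ext (show (a : G) * 1 * (a : G)⁻¹ = 1 by simp)
  have := hx.card_modEq_card_fixedPoints K
  rw [hfix, Nat.card_coe_set_eq, Set.ncard_singleton] at this
  exact hK (Eq.trans this (Nat.one_mod_eq_one.2 hp.out.ne_one))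

/-- A `q`-subgroup of the quotient by a `p`-group lifts. -/
theorem exists_lift {p q : ℕ} [Fact p.Prime] [Fact q.Prime] (hpq : p ≠ q) (R : Subgroup G) [R.Normal]
    (hR : IsPGroup p R) (Qb : Subgroup (G ⧸ R)) (hQb : IsPGroup q Qb) :
    ∃ T : Subgroup G, IsPGroup q T ∧ T.map (QuotientGroup.mk' R) = Qb ∧ T ⊓ R = ⊥ := by
  let X := Qb.comap (QuotientGroup.mk' R)
  obtain ⟨S⟩ : Nonempty (Sylow q X) := inferInstance
  let T : Subgroup G := (S : Subgroup X).map X.subtype
  have hT : IsPGroup q T := S.2.map _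
  refine ⟨T, hT, ?_, disjoint_iff.1 (IsPGroup.disjoint_of_ne q p (Ne.symm hpq) T R hT hR)⟩
  refine le_antisymm ?_ ?_
  · rintro _ ⟨_, ⟨y, -, rfl⟩, rfl⟩; exact y.2
  · intro y hy
    let g : X →* Qb := (QuotientGroup.mk' R).subgroupComap Qb
    have hg : Function.Surjective g :=
      (QuotientGroup.mk' R).subgroupComap_surjective_of_surjective Qb (QuotientGroup.mk'_surjective R)
    have htop : ((Sylow.mapSurjective hg S : Sylow q Qb) : Subgroup Qb) = ⊤ :=
      ((Sylow.mapSurjective hg S).is_maximal' (hQb.to_subgroup ⊤) le_top).symm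
    have hy' : (⟨y, hy⟩ : Qb) ∈ ((Sylow.mapSurjective hg S : Sylow q Qb) : Subgroup Qb) := by
      rw [htop]; exact Subgroup.mem_top _
    obtain ⟨z, hz, hzy⟩ := hy'
    exact ⟨z, ⟨z, hz, rfl⟩, congrArg Subtype.val hzy⟩

/-- A group with a nontrivial normal `p`-subgroup, `p` odd, has a normal Sylow `p`-subgroup. -/
theorem Ord5.closed (h : Ord5 G) {p : ℕ} [hp : Fact p.Prime] (hp2 : p ≠ 2) (Q : Subgroup G) [Q.Normal]
    (hQ : IsPGroup p Q) (hQ1 : Q ≠ ⊥) (P : Sylow p G) : (P : Subgroup G).Normal := by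
  haveI : Fact (Nat.Prime 2) := ⟨Nat.prime_two⟩
  have hsol : Group.IsSolvable G := by
    by_contra hns
    exact hQ1 (h.not_normal_odd hns hp2 Q hQ)
  set R := Cfsg.pCore p G with hR
  have hR1 : R ≠ ⊥ := fun e => hQ1 (le_bot_iff.1 (e ▸ Cores.le_pCore hQ))
  have hRp : IsPGroup p R := Cores.pCore_isPGroup p
  suffices hdvd : ¬ p ∣ R.index by
    have hle : R ≤ P := Cores.pCore_le_sylow P
    have heq : R = P := by
      refine le_antisymm hle ?_
      intro x hx
      rw [← QuotientGroup.eq_one_iff]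
      by_contra hx1
      obtain ⟨k, hk⟩ := IsPGroup.iff_orderOf.1 P.2 ⟨x, hx⟩
      rw [Subgroup.orderOf_mk] at hk
      obtain ⟨j, hj, hje⟩ := (Nat.dvd_prime_pow hp.out).1 (hk ▸ orderOf_map_dvd (QuotientGroup.mk' R) x)
      apply hdvd
      refine dvd_trans ?_ (Subgroup.index_eq_card R ▸ orderOf_dvd_natCard (QuotientGroup.mk' R x))
      rw [hje]
      exact dvd_pow_self p fun e => hx1 (orderOf_eq_one_iff.1 (by
        rw [show (QuotientGroup.mk x : G ⧸ R) = QuotientGroup.mk' R x from rfl, hje, e, pow_zero]))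
    rw [← heq]; infer_instance
  intro hd
  rw [Subgroup.index_eq_card] at hd
  obtain ⟨xb, hxb⟩ := exists_prime_orderOf_dvd_card' (G := G ⧸ R) p hd
  haveI : Nontrivial (G ⧸ R) := ⟨xb, 1, fun e => hp.out.ne_one (by rw [← hxb, e, orderOf_one])⟩
  obtain ⟨q, hq, hQb1⟩ := S1475.exists_pCore_ne_bot (G := G ⧸ R)
  haveI := Fact.mk hq
  have hqp : p ≠ q := fun e => hQb1 (e ▸ Cores.pCore_quotient_self p)
  set Qb := Cfsg.pCore q (G ⧸ R) with hQbdef
  have hQbq : IsPGroup q Qb := Cores.pCore_isPGroup q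
  obtain ⟨T, hTq, hTmap, hTR⟩ := exists_lift hqp R hRp Qb hQbq
  have hinj : ∀ a ∈ T, ∀ b ∈ T, QuotientGroup.mk' R a = QuotientGroup.mk' R b → a = b := by
    intro a ha b hb e
    rw [← inv_mul_eq_one]
    have hmem : a⁻¹ * b ∈ T ⊓ R := ⟨T.mul_mem (T.inv_mem ha) hb, QuotientGroup.eq.1 e⟩
    rwa [hTR, Subgroup.mem_bot] at hmem
  have hTR' : T ≤ Subgroup.normalizer (R : Set G) := by
    rw [Subgroup.normalizer_eq_top]; exact le_top
  have hxn : xb ∈ Subgroup.normalizer (Qb : Set (G ⧸ R)) := by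
    rw [Subgroup.normalizer_eq_top]; trivial
  have hxp : IsPGroup p (Subgroup.zpowers xb) :=
    IsPGroup.of_card (n := 1) (by rw [Nat.card_zpowers, hxb, pow_one])
  have hq5 : Ord5 (G ⧸ R) := h.quot R
  by_cases hq2 : q = 2
  · subst hq2
    haveI : Nontrivial Qb := Qb.nontrivial_iff_ne_bot.2 hQb1
    haveI := hQbq.center_nontrivial
    obtain ⟨n, hn, hcn⟩ := (hQbq.to_subgroup (Subgroup.center Qb)).nontrivial_iff_card.1 inferInstance
    obtain ⟨c, hc⟩ := exists_prime_orderOf_dvd_card' (G := Subgroup.center Qb) 2 (hcn ▸ dvd_pow_self 2 hn.ne')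
    set z : G ⧸ R := ((c : Qb) : G ⧸ R) with hz
    have hzo : orderOf z = 2 := by rw [hz, Subgroup.orderOf_coe, Subgroup.orderOf_coe, hc]
    have huniq : ∀ b ∈ Qb, orderOf b = 2 → b = z := by
      intro b hb hbo
      have hbz : Commute b z := (congrArg Subtype.val (Subgroup.mem_center_iff.1 c.2 ⟨b, hb⟩) :)
      obtain ⟨b0, hb0, rfl⟩ := hTmap.symm ▸ hb
      obtain ⟨z0, hz0, hz0e⟩ : z ∈ T.map (QuotientGroup.mk' R) := hTmap.symm ▸ (c : Qb).2
      rw [← hz0e] at hzo hbz ⊢
      have key : ∀ a ∈ T, orderOf (QuotientGroup.mk' R a) = 2 → a * a = 1 ∧ a ≠ 1 := by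
        intro a ha hao
        refine ⟨hinj _ (mul_mem ha ha) _ (one_mem T) ?_, fun e => by
          rw [e, map_one, orderOf_one] at hao; norm_num at hao⟩
        rw [map_one, map_mul, ← pow_two, ← hao]
        exact pow_orderOf_eq_one _
      congr 1
      exact h.involution_eq hp2 (key b0 hb0 hbo).1 (key b0 hb0 hbo).2 (key z0 hz0 hzo).1 (key z0 hz0 hzo).2
        (hinj _ (mul_mem hb0 hz0) _ (mul_mem hz0 hb0) (by rw [map_mul, map_mul]; exact hbz))
        hRp hR1 (hTR' hb0) (hTR' hz0)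
    have hconj := huniq (xb * z * xb⁻¹) ((Subgroup.mem_normalizer_iff.1 hxn z).1 (c : Qb).2)
      (by rw [← MulAut.conj_apply, MulEquiv.orderOf_eq, hzo])
    exact hq5.not_commute hp.out Nat.prime_two hp2 hxb hzo (mul_inv_eq_iff_eq_mul.1 hconj)
  · have hcard : Nat.card Qb ≤ q := by
      rw [← hTmap]
      exact (Nat.le_of_dvd Nat.card_pos (Subgroup.card_map_dvd T _)).trans
        (h.card_le hq2 (Ne.symm hqp) hTq hRp hR1 hTR')
    obtain ⟨k, hk⟩ := hQbq.exists_card_eq
    have hk1 : k = 1 := by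
      rcases k with _ | _ | k
      · rw [pow_zero] at hk; exact absurd (Subgroup.card_eq_one.1 hk) hQb1
      · rfl
      · exfalso
        have : q ^ 1 < q ^ (k + 2) := Nat.pow_lt_pow_right hq.one_lt (by omega)
        rw [pow_one] at this
        have h3 : k + 2 = k + 1 + 1 := rfl
        rw [h3] at this
        omega
    rw [hk1, pow_one] at hk
    have hqd : q ∣ Nat.card G := (hk ▸ Subgroup.card_subgroup_dvd_card Qb : q ∣ Nat.card (G ⧸ R)).trans
      (Subgroup.card_quotient_dvd_card R)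
    have hpd : p ∣ Nat.card G := hd.trans (Subgroup.card_quotient_dvd_card R)
    have hmod : Nat.card Qb % p ≠ 1 := by
      rw [hk]
      rcases h.prime_cases hp.out hpd with rfl | rfl | rfl <;>
        rcases h.prime_cases hq hqd with rfl | rfl | rfl <;> omega
    obtain ⟨y, hy, hy1, hxy⟩ := exists_commute hxp hxn hmod
    have hyo : orderOf y = q := by
      rcases (Nat.dvd_prime hq).1 (hk ▸ Subgroup.orderOf_dvd_natCard Qb hy) with e | e
      · exact absurd (orderOf_eq_one_iff.1 e) hy1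
      · exact e
    exact hq5.not_commute hp.out hq hqp hxb hyo hxy

end Cfsg.Agent.FiveOrders
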