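import Cfsg.Agent.Lib.FiveOrders.Elementary
import Cfsg.Agent.Lib.FiveOrders.Fpf

/-!
# A dihedral group acting on a 2-group, and the solvable 2-local subgroups
-/

set_option autoImplicit false
set_option linter.all false

namespace Cfsg.Agent.FiveOrders

universe u

/-- `y` of order `p` inverted by the involution `t`, both normalizing `D`. -/
structure Dih {G : Type u} [Group G] (D : Subgroup G) (p : ℕ) (y t : G) : Prop where
  hp : p = 3 ∨ p = 5
  hy : y ∈ Subgroup.normalizer (D : Set G)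
  ht : t ∈ Subgroup.normalizer (D : Set G)
  order_y : orderOf y = p
  t_sq : t * t = 1
  inv : t * y * t = y⁻¹
  t_ne : t ≠ 1

variable {G : Type u} [Group G] [Finite G]

/-- An element of 2-power order modulo a normalized 2-group has fourth power one. -/
theorem Ord5.mul_pow_four (h : Ord5 G) {D : Subgroup G} (hD : IsPGroup 2 D) {u : G}
    (hu : u ∈ Subgroup.normalizer (D : Set G)) (hu4 : u ^ 4 = 1) {d : G} (hd : d ∈ D) : (u * d) ^ 4 = 1 := by
  have hU : IsPGroup 2 (Subgroup.zpowers u) := by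
    intro x
    refine ⟨2, Subtype.ext ?_⟩
    obtain ⟨m, hm⟩ := Subgroup.mem_zpowers_iff.1 x.2
    show (x : G) ^ (2 ^ 2) = 1
    rw [← hm, ← zpow_natCast, ← zpow_mul, mul_comm, zpow_mul, zpow_natCast]
    norm_num [hu4]
  have hs : IsPGroup 2 (Subgroup.zpowers u ⊔ D : Subgroup G) :=
    hU.to_sup_of_normal_right' hD (Subgroup.zpowers_le.2 hu)
  exact h.two_pow_four hs (mul_mem (Subgroup.mem_sup_left (Subgroup.mem_zpowers u)) (Subgroup.mem_sup_right hd))

namespace Dih

variable {D : Subgroup G} {p : ℕ} {y t : G}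

theorem prime (hd : Dih D p y t) : p.Prime := by rcases hd.hp with rfl | rfl <;> norm_num

theorem ne_two (hd : Dih D p y t) : p ≠ 2 := by rcases hd.hp with rfl | rfl <;> norm_num

theorem odd (hd : Dih D p y t) : Odd p := by rcases hd.hp with rfl | rfl <;> decide

theorem y_pow (hd : Dih D p y t) : y ^ p = 1 := hd.order_y ▸ pow_orderOf_eq_one y

theorem t_inv (hd : Dih D p y t) : t⁻¹ = t := inv_eq_of_mul_eq_one_right hd.t_sq

theorem conj_pow (hd : Dih D p y t) : ∀ i : ℕ, t * y ^ i * t = (y ^ i)⁻¹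
  | 0 => by rw [pow_zero, mul_one, hd.t_sq, inv_one]
  | i + 1 => by
    calc t * y ^ (i + 1) * t = t * y ^ i * (t * t) * y * t := by rw [hd.t_sq, pow_succ]; group
      _ = (t * y ^ i * t) * (t * y * t) := by group
      _ = (y ^ (i + 1))⁻¹ := by rw [conj_pow hd i, hd.inv, pow_succ', mul_inv_rev]

theorem fpf (hd : Dih D p y t) (h : Ord5 G) (hD : IsPGroup 2 D) {d : G} (hdD : d ∈ D)
    (hc : Commute y d) : d = 1 := by
  haveI : Fact (Nat.Prime 2) := ⟨Nat.prime_two⟩
  by_contra hd1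
  obtain ⟨k, hk⟩ := IsPGroup.iff_orderOf.1 hD ⟨d, hdD⟩
  rw [Subgroup.orderOf_mk] at hk
  have hk0 : k ≠ 0 := fun e => hd1 (orderOf_eq_one_iff.1 (by rw [hk, e, pow_zero]))
  exact hd.ne_two (h.eq_of_commute Nat.prime_two hd.prime hc.symm (hk ▸ dvd_pow_self 2 hk0) hd.order_y).symm

theorem t_not_mem (hd : Dih D p y t) (h : Ord5 G) (hD : IsPGroup 2 D) : t ∉ D := by
  intro htD
  have h1 : t * y * t * y⁻¹ ∈ D := by
    have h2 : y * t * y⁻¹ ∈ D := (Subgroup.mem_normalizer_iff.1 hd.hy t).1 htD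
    have := mul_mem htD h2
    simpa [mul_assoc] using this
  have h2 : y⁻¹ * y⁻¹ ∈ D := by rwa [hd.inv] at h1
  have hc : Commute y (y⁻¹ * y⁻¹) := ((Commute.refl y).inv_right).mul_right ((Commute.refl y).inv_right)
  have h3 := hd.fpf h hD h2 hc
  rw [← mul_inv_rev, inv_eq_one, ← pow_two] at h3
  have h4 := Nat.le_of_dvd two_pos (orderOf_dvd_of_pow_eq_one h3)
  rw [hd.order_y] at h4
  rcases hd.hp with rfl | rfl <;> omega

/-- The 2-group is elementary abelian. -/
theorem elementary (hd : Dih D p y t) (h : Ord5 G) (hD : IsPGroup 2 D) {d : G} (hdD : d ∈ D) : d * d = 1 := by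
  let φ := Subgroup.normalizerMonoidHom D
  have hap : ∀ (g : Subgroup.normalizer (D : Set G)) (x : D), ((φ g x : D) : G) = g * x * (g : G)⁻¹ :=
    fun g x => rfl
  have hσ : ∀ i : ℕ, ((φ ⟨y, hd.hy⟩) ^ i) = φ ⟨y ^ i, pow_mem hd.hy i⟩ := fun i => by
    rw [← map_pow]; rfl
  have := Elementary.sq_eq_one _ D rfl hD (φ ⟨y, hd.hy⟩) (φ ⟨t, hd.ht⟩) p hd.odd
    (by rw [hσ]; refine MulEquiv.ext fun x => Subtype.ext ?_
        rw [hap, MulAut.one_apply]; simp [hd.y_pow])
    (fun x hx => by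
      have e := congrArg (Subtype.val) hx
      rw [hap] at e
      exact Subtype.ext (hd.fpf h hD x.2 (mul_inv_eq_iff_eq_mul.1 e)))
    (fun i x => by
      apply Subtype.ext
      rw [hσ]
      simp only [Subgroup.coe_mul, hap, Subgroup.coe_one]
      set u := y ^ i * t with hu
      have hu2 : u * u = 1 := by
        rw [hu, show y ^ i * t * (y ^ i * t) = y ^ i * (t * y ^ i * t) by group, hd.conj_pow, mul_inv_cancel]
      have hu4 : u ^ 4 = 1 := by
        rw [show u ^ 4 = (u * u) * (u * u) by simp only [pow_succ, pow_zero, one_mul, mul_assoc], hu2, one_mul]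
      have h4 := h.mul_pow_four hD (mul_mem (pow_mem hd.hy i) hd.ht) hu4 x.2
      rw [← hu] at h4
      have hinv : u⁻¹ = u := inv_eq_of_mul_eq_one_right hu2
      have hexp : y ^ i * (t * (x : G) * t⁻¹) * (y ^ i)⁻¹ = u * x * u := by
        conv_rhs => rw [show u * (x : G) * u = u * x * u⁻¹ by rw [hinv], hu]
        group
      rw [hexp, ← h4]
      simp only [pow_succ, pow_zero, one_mul, mul_assoc])
    ⟨d, hdD⟩
  exact congrArg Subtype.val this

theorem comm (hd : Dih D p y t) (h : Ord5 G) (hD : IsPGroup 2 D) {a b : G} (ha : a ∈ D) (hb : b ∈ D) :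
    a * b = b * a := by
  have h1 := hd.elementary h hD (mul_mem ha hb)
  calc a * b = (a * b)⁻¹ := (inv_eq_of_mul_eq_one_right h1).symm
    _ = b⁻¹ * a⁻¹ := mul_inv_rev a b
    _ = b * a := by rw [inv_eq_of_mul_eq_one_right (hd.elementary h hD ha),
                      inv_eq_of_mul_eq_one_right (hd.elementary h hD hb)]

/-- The conjugates `yⁱ v y⁻ⁱ`. -/
def orb (y v : G) (i : ℕ) : G := y ^ i * v * (y ^ i)⁻¹

theorem orb_mem (hd : Dih D p y t) {v : G} (hv : v ∈ D) (i : ℕ) : orb y v i ∈ D :=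
  (Subgroup.mem_normalizer_iff.1 (pow_mem hd.hy i) v).1 hv

theorem orb_sum (hd : Dih D p y t) (h : Ord5 G) (hD : IsPGroup 2 D) {v : G} (hv : v ∈ D) :
    (p = 3 → orb y v 0 * (orb y v 1 * orb y v 2) = 1) ∧
      (p = 5 → orb y v 0 * (orb y v 1 * orb y v 4 * (orb y v 2 * orb y v 3)) = 1) := by
  have hstep : ∀ i, y * orb y v i * y⁻¹ = orb y v (i + 1) := fun i => by
    simp only [orb, pow_succ', mul_inv_rev, mul_assoc]
  have hlast : orb y v p = orb y v 0 := by simp [orb, hd.y_pow]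
  have hc := fun i j => hd.comm h hD (hd.orb_mem hv i) (hd.orb_mem hv j)
  constructor
  · rintro rfl
    refine hd.fpf h hD (mul_mem (hd.orb_mem hv 0) (mul_mem (hd.orb_mem hv 1) (hd.orb_mem hv 2))) ?_
    apply mul_inv_eq_iff_eq_mul.1
    calc y * (orb y v 0 * (orb y v 1 * orb y v 2)) * y⁻¹
        = (y * orb y v 0 * y⁻¹) * ((y * orb y v 1 * y⁻¹) * (y * orb y v 2 * y⁻¹)) := by group
      _ = orb y v 1 * (orb y v 2 * orb y v 3) := by rw [hstep, hstep, hstep]
      _ = orb y v 0 * (orb y v 1 * orb y v 2) := by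
        rw [hlast, ← mul_assoc, hd.comm h hD (mul_mem (hd.orb_mem hv 1) (hd.orb_mem hv 2)) (hd.orb_mem hv 0)]
  · rintro rfl
    refine hd.fpf h hD (mul_mem (hd.orb_mem hv 0) (mul_mem (mul_mem (hd.orb_mem hv 1) (hd.orb_mem hv 4))
      (mul_mem (hd.orb_mem hv 2) (hd.orb_mem hv 3)))) ?_
    apply mul_inv_eq_iff_eq_mul.1
    have hcomm : ∀ a ∈ D, ∀ b ∈ D, a * b = b * a := fun a ha b hb => hd.comm h hD ha hb
    haveI : IsMulCommutative D := ⟨⟨fun a b => Subtype.ext (hcomm a a.2 b b.2)⟩⟩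
    calc y * (orb y v 0 * (orb y v 1 * orb y v 4 * (orb y v 2 * orb y v 3))) * y⁻¹
        = (y * orb y v 0 * y⁻¹) * ((y * orb y v 1 * y⁻¹) * (y * orb y v 4 * y⁻¹) *
            ((y * orb y v 2 * y⁻¹) * (y * orb y v 3 * y⁻¹))) := by group
      _ = orb y v 1 * (orb y v 2 * orb y v 0 * (orb y v 3 * orb y v 4)) := by
        rw [hstep, hstep, hstep, hstep, hstep, hlast]
      _ = orb y v 0 * (orb y v 1 * orb y v 4 * (orb y v 2 * orb y v 3)) := by
        have key : ∀ a b c d e : D, b * (c * a * (d * e)) = a * (b * e * (c * d)) := by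
          intro a b c d e
          letI : CommGroup D := { (inferInstance : Group D) with mul_comm := fun a b => Subtype.ext (hcomm a a.2 b b.2) }
          ac_rfl
        exact congrArg Subtype.val (key ⟨_, hd.orb_mem hv 0⟩ ⟨_, hd.orb_mem hv 1⟩ ⟨_, hd.orb_mem hv 2⟩
          ⟨_, hd.orb_mem hv 3⟩ ⟨_, hd.orb_mem hv 4⟩)

theorem conj_orb (hd : Dih D p y t) {v : G} (hvc : t * v * t = v) {i j : ℕ} (hij : i + j = p) :
    t * orb y v i * t = orb y v j := by
  have hj : y ^ j = (y ^ i)⁻¹ := eq_inv_of_mul_eq_one_right (by rw [← pow_add, hij, hd.y_pow])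
  calc t * orb y v i * t = (t * y ^ i * t) * (t * v * t) * (t * y ^ i * t)⁻¹ := by
        simp only [orb, mul_inv_rev, hd.t_inv]
        rw [show t * y ^ i * t * (t * v * t) * (t * ((y ^ i)⁻¹ * t)) =
          t * y ^ i * (t * t) * v * (t * t) * (y ^ i)⁻¹ * t by group, hd.t_sq]
        group
    _ = orb y v j := by rw [hd.conj_pow, hvc, orb, hj]

/-- The fixed points of `t` are the products `d · d^t`. -/
theorem exists_preimage (hd : Dih D p y t) (h : Ord5 G) (hD : IsPGroup 2 D) {v : G} (hv : v ∈ D)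
    (hvc : t * v * t = v) : ∃ d ∈ D, d * (t * d * t) = v := by
  have hsum := hd.orb_sum h hD hv
  have hv0 : orb y v 0 = v := by simp [orb]
  have hvinv : v⁻¹ = v := inv_eq_of_mul_eq_one_right (hd.elementary h hD hv)
  rcases hd.hp with rfl | rfl
  · refine ⟨orb y v 1, hd.orb_mem hv 1, ?_⟩
    rw [hd.conj_orb hvc (i := 1) (j := 2) rfl]
    have := hsum.1 rfl
    rw [hv0, mul_eq_one_iff_inv_eq, hvinv] at this
    exact this.symm
  · refine ⟨orb y v 1 * orb y v 2, mul_mem (hd.orb_mem hv 1) (hd.orb_mem hv 2), ?_⟩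
    have e : t * (orb y v 1 * orb y v 2) * t = orb y v 4 * orb y v 3 := by
      rw [← hd.conj_orb hvc (i := 1) (j := 4) rfl, ← hd.conj_orb hvc (i := 2) (j := 3) rfl]
      rw [show t * orb y v 1 * t * (t * orb y v 2 * t) = t * orb y v 1 * (t * t) * (orb y v 2 * t) by group,
        hd.t_sq]
      group
    rw [e]
    have := hsum.2 rfl
    rw [hv0, mul_eq_one_iff_inv_eq, hvinv] at this
    refine Eq.trans ?_ this.symm
    have hc := hd.comm h hD (hd.orb_mem hv 2) (hd.orb_mem hv 4)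
    calc orb y v 1 * orb y v 2 * (orb y v 4 * orb y v 3)
        = orb y v 1 * (orb y v 2 * orb y v 4) * orb y v 3 := by group
      _ = orb y v 1 * orb y v 4 * (orb y v 2 * orb y v 3) := by rw [hc]; group

/-- `|D| = |C_D(t)|²`. -/
theorem card_eq (hd : Dih D p y t) (h : Ord5 G) (hD : IsPGroup 2 D) :
    Nat.card D = Nat.card ↥(D ⊓ Subgroup.centralizer ({t} : Set G)) *
      Nat.card ↥(D ⊓ Subgroup.centralizer ({t} : Set G)) := by
  letI : CommGroup D := { (inferInstance : Group D) with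
    mul_comm := fun a b => Subtype.ext (hd.comm h hD a.2 b.2) }
  have hm : ∀ d : D, t * (d : G) * t ∈ D := fun d => by
    have := (Subgroup.mem_normalizer_iff.1 hd.ht d).1 d.2
    rwa [hd.t_inv] at this
  let a : D →* D :=
    { toFun := fun d => d * ⟨t * (d : G) * t, hm d⟩
      map_one' := Subtype.ext (by show (1 : G) * (t * 1 * t) = 1; rw [mul_one, hd.t_sq, one_mul])
      map_mul' := fun u v => by
        have : (⟨t * ((u * v : D) : G) * t, hm _⟩ : D) = ⟨t * (u : G) * t, hm u⟩ * ⟨t * (v : G) * t, hm v⟩ :=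
          Subtype.ext (by
            show t * ((u : G) * v) * t = t * u * t * (t * v * t)
            rw [show t * (u : G) * t * (t * v * t) = t * u * (t * t) * v * t by group, hd.t_sq]
            group)
        rw [this, mul_mul_mul_comm] }
  set C := (D ⊓ Subgroup.centralizer ({t} : Set G)).subgroupOf D with hC
  have hmemC : ∀ d : D, d ∈ C ↔ t * (d : G) * t = d := by
    intro d
    simp only [hC, Subgroup.mem_subgroupOf, Subgroup.mem_inf, Subgroup.mem_centralizer_iff,
      Set.mem_singleton_iff, forall_eq, d.2, true_and]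
    constructor
    · intro e; rw [e, mul_assoc, hd.t_sq, mul_one]
    · intro e
      calc t * (d : G) = t * d * (t * t) := by rw [hd.t_sq, mul_one]
        _ = d * t := by rw [← mul_assoc, e]
  have hker : a.ker = C := by
    ext d
    rw [MonoidHom.mem_ker, hmemC, Subtype.ext_iff]
    show (d : G) * (t * d * t) = 1 ↔ _
    rw [mul_eq_one_iff_inv_eq, inv_eq_of_mul_eq_one_right (hd.elementary h hD d.2)]
    exact eq_comm
  have hran : a.range = C := by
    ext v
    rw [MonoidHom.mem_range, hmemC]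
    constructor
    · rintro ⟨d, rfl⟩
      show t * ((d : G) * (t * d * t)) * t = d * (t * d * t)
      rw [hd.comm h hD d.2 (hm d)]
      calc t * (t * (d : G) * t * d) * t = (t * t) * d * (t * d * t) := by group
        _ = (d : G) * (t * d * t) := by rw [hd.t_sq, one_mul]
        _ = _ := hd.comm h hD d.2 (hm d)
    · intro hv
      obtain ⟨d, hdD, e⟩ := hd.exists_preimage h hD v.2 hv
      exact ⟨⟨d, hdD⟩, Subtype.ext e⟩
  have h1 : Nat.card C = Nat.card ↥(D ⊓ Subgroup.centralizer ({t} : Set G)) :=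
    Nat.card_congr (Subgroup.subgroupOfEquivOfLe inf_le_left).toEquiv
  calc Nat.card D = Nat.card a.ker * a.ker.index := (Subgroup.card_mul_index _).symm
    _ = _ := by rw [Subgroup.index_ker, hran, hker, h1]

/-- No element of order four can induce an automorphism of order four on `⟨y⟩`. -/
theorem no_four (hd : Dih D 5 y t) (h : Ord5 G) (hD : IsPGroup 2 D) (hD1 : D ≠ ⊥) {f : G}
    (hf : f ∈ Subgroup.normalizer (D : Set G)) (hft : f * f = t) {k : ℕ} (hk : f * y * f⁻¹ = y ^ k) : False := by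
  have hk2 : y ^ (k * k + 1) = 1 := by
    have e : t * y * t⁻¹ = y ^ (k * k) := by
      rw [← hft, show f * f * y * (f * f)⁻¹ = f * (f * y * f⁻¹) * f⁻¹ by group, hk, ← _root_.conj_pow, hk, ← pow_mul]
    rw [hd.t_inv, hd.inv] at e
    rw [pow_succ, ← e, inv_mul_cancel]
  have hdvd : 5 ∣ k * k + 1 := hd.order_y ▸ orderOf_dvd_of_pow_eq_one hk2
  have hk5 : k % 5 = 2 ∨ k % 5 = 3 := by
    have hlt : k % 5 < 5 := Nat.mod_lt _ (by norm_num)
    have h0 := Nat.mod_eq_zero_of_dvd hdvd
    rw [Nat.add_mod, Nat.mul_mod] at h0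
    interval_cases hkk : k % 5 <;> simp_all
  obtain ⟨v, hv, hvc, hv1⟩ : ∃ v ∈ D, t * v * t = v ∧ v ≠ 1 := by
    have hc := hd.card_eq h hD
    by_cases hb : D ⊓ Subgroup.centralizer ({t} : Set G) = ⊥
    · rw [hb, Subgroup.card_bot, one_mul] at hc
      exact absurd (Subgroup.card_eq_one.1 hc) hD1
    haveI := (Subgroup.nontrivial_iff_ne_bot _).2 hb
    obtain ⟨⟨v, hvm⟩, hv1⟩ := exists_ne (1 : ↥(D ⊓ Subgroup.centralizer ({t} : Set G)))
    refine ⟨v, hvm.1, ?_, fun e => hv1 (Subtype.ext e)⟩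
    have e := Subgroup.mem_centralizer_iff.1 hvm.2 t rfl
    rw [e, mul_assoc, hd.t_sq, mul_one]
  have hf4 : f ^ 4 = 1 := by
    rw [show f ^ 4 = (f * f) * (f * f) by simp only [pow_succ, pow_zero, one_mul, mul_assoc], hft, hd.t_sq]
  have hfix : ∀ d ∈ D, f * (d * (t * d * t)) * f⁻¹ = d * (t * d * t) := by
    intro d hdd
    have h4 := h.mul_pow_four hD hf hf4 hdd
    have m1 : f * d * f⁻¹ ∈ D := (Subgroup.mem_normalizer_iff.1 hf d).1 hdd
    have m2 : t * d * t ∈ D := by
      have := (Subgroup.mem_normalizer_iff.1 hd.ht d).1 hdd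
      rwa [hd.t_inv] at this
    have m3 : f * (t * d * t) * f⁻¹ ∈ D := (Subgroup.mem_normalizer_iff.1 hf _).1 m2
    have hexp : (f * d) ^ 4 = (f * d * f⁻¹) * (t * d * t) * (f * (t * d * t) * f⁻¹) * d := by
      have hfi : f⁻¹ * f⁻¹ = t := by rw [← mul_inv_rev, hft, hd.t_inv]
      calc (f * d) ^ 4 = f * d * f⁻¹ * ((f * f) * d * (f⁻¹ * f⁻¹)) * (f * (f * f) * d * (f⁻¹ * f⁻¹) * f⁻¹) * (f ^ 4) * d := by
            simp only [pow_succ, pow_zero, one_mul]; group
        _ = _ := by rw [hfi, hft, hf4]; group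
    rw [hexp] at h4
    have e : f * (d * (t * d * t)) * f⁻¹ = (f * d * f⁻¹) * (f * (t * d * t) * f⁻¹) := by group
    rw [e]
    have h5 : (f * d * f⁻¹) * (f * (t * d * t) * f⁻¹) * ((t * d * t) * d) = 1 := by
      rw [← h4, mul_assoc (f * d * f⁻¹) (t * d * t), hd.comm h hD m2 m3]
      group
    rw [mul_eq_one_iff_eq_inv] at h5
    rw [h5, inv_eq_of_mul_eq_one_right (hd.elementary h hD (mul_mem m2 hdd)), hd.comm h hD m2 hdd]
  have hfv : f * v * f⁻¹ = v := by
    obtain ⟨d, hdd, e⟩ := hd.exists_preimage h hD hv hvc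
    rw [← e]; exact hfix d hdd
  have hforb : ∀ i, f * orb y v i * f⁻¹ = orb y v (k * i) := by
    intro i
    calc f * orb y v i * f⁻¹ = (f * y ^ i * f⁻¹) * (f * v * f⁻¹) * (f * y ^ i * f⁻¹)⁻¹ := by simp only [orb]; group
      _ = orb y v (k * i) := by rw [hfv, ← _root_.conj_pow, hk, ← pow_mul]; rfl
  have hmod : ∀ i, orb y v i = orb y v (i % 5) := by
    intro i
    have : y ^ i = y ^ (i % 5) := by conv_lhs => rw [← pow_mod_orderOf, hd.order_y]
    simp only [orb, this]
  have h14 := hfix _ (hd.orb_mem hv 1)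
  rw [hd.conj_orb hvc (i := 1) (j := 4) rfl,
    show f * (orb y v 1 * orb y v 4) * f⁻¹ = (f * orb y v 1 * f⁻¹) * (f * orb y v 4 * f⁻¹) by group,
    hforb, hforb, hmod (k * 1), hmod (k * 4)] at h14
  have heq : orb y v 1 * orb y v 4 = orb y v 2 * orb y v 3 := by
    rcases hk5 with e | e
    · rw [show k * 1 % 5 = 2 by omega, show k * 4 % 5 = 3 by omega] at h14; exact h14.symm
    · rw [show k * 1 % 5 = 3 by omega, show k * 4 % 5 = 2 by omega] at h14
      rw [← h14, hd.comm h hD (hd.orb_mem hv 2) (hd.orb_mem hv 3)]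
  have := (hd.orb_sum h hD hv).2 rfl
  rw [← heq, hd.elementary h hD (mul_mem (hd.orb_mem hv 1) (hd.orb_mem hv 4)), mul_one] at this
  exact hv1 (by simpa [orb] using this)

theorem map (hd : Dih D p y t) {K : Type u} [Group K] (f : G →* K) (hf : Function.Injective f) :
    Dih (D.map f) p (f y) (f t) where
  hp := hd.hp
  hy := (Subgroup.le_normalizer_map f) ⟨y, hd.hy, rfl⟩
  ht := (Subgroup.le_normalizer_map f) ⟨t, hd.ht, rfl⟩
  order_y := by rw [orderOf_injective f hf, hd.order_y]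
  t_sq := by rw [← map_mul, hd.t_sq, map_one]
  inv := by rw [← map_mul, ← map_mul, hd.inv, map_inv]
  t_ne := fun e => hd.t_ne (hf (by rw [e, map_one]))

end Dih

/-- The structure of a solvable group with core `D` and non-normal Sylow 2-subgroups. -/
theorem Ord5.solvable_local (h : Ord5 G) [Group.IsSolvable G] (D : Subgroup G) [D.Normal]
    (hD : IsPGroup 2 D) (hD1 : D ≠ ⊥) (hcore : Cfsg.pCore 2 G ≤ D)
    (hnot : ∀ P : Sylow 2 G, ¬ (P : Subgroup G).Normal) :
    ∃ (p : ℕ) (y t : G), Dih D p y t ∧ Nat.card G = 2 * p * Nat.card D := by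
  haveI : Fact (Nat.Prime 2) := ⟨Nat.prime_two⟩
  have hDn : ∀ g : G, g ∈ Subgroup.normalizer (D : Set G) := fun g => by
    rw [Subgroup.normalizer_eq_top]; trivial
  -- the quotient has trivial 2-core
  have hq2 : Cfsg.pCore 2 (G ⧸ D) = ⊥ := by
    set K := (Cfsg.pCore 2 (G ⧸ D)).comap (QuotientGroup.mk' D) with hK
    have hKp : IsPGroup 2 K := by
      refine (Cores.pCore_isPGroup 2).comap_of_ker_isPGroup _ ?_
      rw [QuotientGroup.ker_mk']; exact hD
    have hle := (Cores.le_pCore hKp).trans hcore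
    rw [eq_bot_iff]
    intro x hx
    obtain ⟨g, rfl⟩ := QuotientGroup.mk'_surjective D x
    exact Subgroup.mem_bot.2 ((QuotientGroup.eq_one_iff g).2 (hle hx))
  have hnt : Nontrivial (G ⧸ D) := by
    rw [QuotientGroup.nontrivial_iff]
    intro e
    obtain ⟨P⟩ : Nonempty (Sylow 2 G) := inferInstance
    apply hnot P
    have : (P : Subgroup G) = ⊤ := (P.3 (e ▸ hD : IsPGroup 2 (⊤ : Subgroup G)) le_top).symm
    rw [this]; infer_instance
  obtain ⟨q, hq, hQb1⟩ := S1475.exists_pCore_ne_bot (G := G ⧸ D)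
  haveI := Fact.mk hq
  have hq2' : q ≠ 2 := fun e => hQb1 (e ▸ hq2)
  set Qb := Cfsg.pCore q (G ⧸ D) with hQbdef
  have hQbq : IsPGroup q Qb := Cores.pCore_isPGroup q
  obtain ⟨T, hTq, hTmap, hTD⟩ := exists_lift (Ne.symm hq2') D hD Qb hQbq
  have hcard : Nat.card Qb = q := by
    have hle : Nat.card Qb ≤ q := by
      rw [← hTmap]
      exact (Nat.le_of_dvd Nat.card_pos (Subgroup.card_map_dvd T _)).trans
        (h.card_le hq2' hq2' hTq hD hD1 fun g _ => hDn g)
    obtain ⟨k, hk⟩ := hQbq.exists_card_eq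
    rcases k with _ | k
    · rw [pow_zero] at hk; exact absurd (Subgroup.card_eq_one.1 hk) hQb1
    · refine le_antisymm hle ?_
      rw [hk]; exact Nat.le_self_pow k.succ_ne_zero q
  have hqd : q ∣ Nat.card G :=
    (hcard ▸ Subgroup.card_subgroup_dvd_card Qb : q ∣ Nat.card (G ⧸ D)).trans (Subgroup.card_quotient_dvd_card D)
  have hq35 : q = 3 ∨ q = 5 := by
    rcases h.prime_cases hq hqd with e | e
    · exact absurd e hq2'
    · exact e
  have hQcyc : IsCyclic Qb := isCyclic_of_prime_card hcard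
  let f : G ⧸ D →* MulAut Qb := MulAut.conjNormal
  have hker : f.ker = Qb := by
    apply le_antisymm
    · refine Cores.le_pCore (N := f.ker) ?_
      haveI : Nontrivial Qb := Qb.nontrivial_iff_ne_bot.2 hQb1
      obtain ⟨z, hz⟩ := exists_prime_orderOf_dvd_card' (G := Qb) q hcard.symm.dvd
      refine ((h.quot D).centralizer_isPGroup (z := (z : G ⧸ D)) (p := q) (by rw [Subgroup.orderOf_coe, hz])).to_le ?_
      intro g hg
      rw [Subgroup.mem_centralizer_iff]
      rintro _ rfl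
      have e := congrArg Subtype.val (DFunLike.congr_fun (MonoidHom.mem_ker.1 hg) z)
      simp only [f, MulAut.conjNormal_apply, MulAut.one_apply] at e
      exact (mul_inv_eq_iff_eq_mul.1 e).symm
    · intro g hg
      rw [MonoidHom.mem_ker]
      refine MulEquiv.ext fun z => Subtype.ext ?_
      letI := hQcyc.commGroup
      have e := congrArg Subtype.val (mul_comm (⟨g, hg⟩ : Qb) z)
      simp only [f, MulAut.conjNormal_apply, MulAut.one_apply]
      rw [show g * (z : G ⧸ D) = z * g from e, mul_inv_cancel_right]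
  have hm : Nat.card f.range ∣ q - 1 := by
    haveI := hQcyc
    refine (Subgroup.card_subgroup_dvd_card f.range).trans (Eq.dvd ?_)
    rw [IsCyclic.card_mulAut, hcard, Nat.totient_prime hq]
  have hGD : Nat.card (G ⧸ D) = q * Nat.card f.range := by
    rw [← Subgroup.index_ker, hker, ← hcard, Subgroup.card_mul_index]
  -- an element `y` of order `q` and the normal subgroup `X` above `Qb`
  obtain ⟨y, hy⟩ := exists_prime_orderOf_dvd_card' (G := G) q hqd
  have hyQ : QuotientGroup.mk' D y ∈ Qb := by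
    rw [← hker, MonoidHom.mem_ker, ← orderOf_eq_one_iff]
    have h1 : orderOf (f (QuotientGroup.mk' D y)) ∣ q :=
      hy ▸ (orderOf_map_dvd f _).trans (orderOf_map_dvd (QuotientGroup.mk' D) y)
    have h2 : orderOf (f (QuotientGroup.mk' D y)) ∣ q - 1 :=
      (Subgroup.orderOf_dvd_natCard f.range ⟨_, rfl⟩).trans hm
    rcases (Nat.dvd_prime hq).1 h1 with e | e
    · exact e
    · rw [e] at h2
      rcases hq35 with rfl | rfl <;> norm_num at h2
  set Y := Subgroup.zpowers y with hYdef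
  set X := Qb.comap (QuotientGroup.mk' D) with hXdef
  haveI : X.Normal := Subgroup.Normal.comap inferInstance _
  have hYX : Y ≤ X := Subgroup.zpowers_le.2 hyQ
  have hXcard : Nat.card X = q * Nat.card D := by rw [hXdef, Cores.card_comap_mk', hcard, mul_comm]
  have hY : IsPGroup q (Y.subgroupOf X) :=
    (IsPGroup.of_card (n := 1) (by rw [Nat.card_zpowers, hy, pow_one]) : IsPGroup q Y).of_equiv
      (Subgroup.subgroupOfEquivOfLe hYX).symm
  obtain ⟨S, hS⟩ := hY.exists_le_sylow
  have hSY : (S : Subgroup X) = Y.subgroupOf X := by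
    refine (Subgroup.eq_of_le_of_card_ge hS ?_).symm
    rw [Nat.card_congr (Subgroup.subgroupOfEquivOfLe hYX).toEquiv, Nat.card_zpowers, hy, S.card_eq_multiplicity,
      hXcard, Nat.factorization_mul hq.ne_zero Nat.card_pos.ne', Finsupp.coe_add, Pi.add_apply, hq.factorization_self]
    obtain ⟨k, hk⟩ := hD.exists_card_eq
    rw [hk, Nat.prime_two.factorization_pow, Finsupp.single_apply, if_neg (Ne.symm hq2'), add_zero, pow_one]
  have hfrat : Subgroup.normalizer (Y : Set G) ⊔ X = ⊤ := by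
    have := Sylow.normalizer_sup_eq_top S
    rwa [hSY, Subgroup.subgroupOf_map_subtype, inf_eq_left.2 hYX] at this
  have hsurj : ∀ a : f.range, ∃ n ∈ Subgroup.normalizer (Y : Set G), f (QuotientGroup.mk' D n) = a := by
    rintro ⟨_, g, rfl⟩
    obtain ⟨g0, rfl⟩ := QuotientGroup.mk'_surjective D g
    obtain ⟨n, hn, x, hx, e⟩ := Subgroup.mem_sup_of_normal_right.1 (hfrat.symm ▸ Subgroup.mem_top g0 :
      g0 ∈ Subgroup.normalizer (Y : Set G) ⊔ X)
    refine ⟨n, hn, ?_⟩
    have hx1 : f (QuotientGroup.mk' D x) = 1 := by rw [← MonoidHom.mem_ker, hker]; exact hx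
    show _ = f (QuotientGroup.mk' D g0)
    rw [← e, map_mul, map_mul, hx1, mul_one]
  have hsq : ∀ n ∈ Subgroup.normalizer (Y : Set G), f (QuotientGroup.mk' D n) ≠ 1 →
      f (QuotientGroup.mk' D n) * f (QuotientGroup.mk' D n) = 1 → n * n = 1 := by
    intro n hn hne hsq
    by_contra hnn
    have hon : orderOf n = 4 := by
      have h2 : 2 ∣ orderOf n := by
        refine dvd_trans ?_ (orderOf_map_dvd (f.comp (QuotientGroup.mk' D)) n)
        rw [MonoidHom.comp_apply, orderOf_eq_prime (by rw [pow_two, hsq]) hne]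
      rcases h.cases (g := n) (fun e => hnn (by rw [e, one_mul])) with e | e | e | e
      · exact absurd (show n * n = 1 by rw [← pow_two, ← e]; exact pow_orderOf_eq_one n) hnn
      · rw [e] at h2; norm_num at h2
      · exact e
      · rw [e] at h2; norm_num at h2
    have hn2 : orderOf (n * n) = 2 := by
      rw [← pow_two, orderOf_pow, hon]; rfl
    have hXn : n * n ∈ X := by
      show QuotientGroup.mk' D (n * n) ∈ Qb
      rw [← hker, MonoidHom.mem_ker, map_mul, map_mul, hsq]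
    have hDn' : n * n ∈ D := by
      rw [← QuotientGroup.eq_one_iff, ← orderOf_eq_one_iff]
      have h1 : orderOf (QuotientGroup.mk' D (n * n)) ∣ 2 := hn2 ▸ orderOf_map_dvd _ _
      have h2 : orderOf (QuotientGroup.mk' D (n * n)) ∣ q := hcard ▸ Subgroup.orderOf_dvd_natCard Qb hXn
      have := Nat.dvd_gcd h1 h2
      rwa [(Nat.coprime_primes Nat.prime_two hq).2 (Ne.symm hq2') |>.gcd_eq_one, Nat.dvd_one] at this
    have hcomm : n * n * y * (n * n)⁻¹ * y⁻¹ = 1 := by
      have h1 : n * n * y * (n * n)⁻¹ * y⁻¹ ∈ D := by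
        have := D.mul_mem hDn' (Subgroup.Normal.conj_mem inferInstance _ (D.inv_mem hDn') y)
        simpa [mul_assoc] using this
      have h2 : n * n * y * (n * n)⁻¹ * y⁻¹ ∈ Y :=
        Y.mul_mem ((Subgroup.mem_normalizer_iff.1 ((Subgroup.normalizer (Y : Set G)).mul_mem hn hn) y).1
          (Subgroup.mem_zpowers y)) (Y.inv_mem (Subgroup.mem_zpowers y))
      have hdis : Y ⊓ D = ⊥ := disjoint_iff.1 (IsPGroup.disjoint_of_ne q 2 hq2' Y D
        (IsPGroup.of_card (n := 1) (by rw [Nat.card_zpowers, hy, pow_one])) hD)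
      have hmem : n * n * y * (n * n)⁻¹ * y⁻¹ ∈ Y ⊓ D := ⟨h2, h1⟩
      rwa [hdis, Subgroup.mem_bot] at hmem
    exact h.not_commute Nat.prime_two hq (Ne.symm hq2') hn2 hy
      (mul_inv_eq_iff_eq_mul.1 (mul_inv_eq_one.1 hcomm))
  have hdih : ∀ n ∈ Subgroup.normalizer (Y : Set G), f (QuotientGroup.mk' D n) ≠ 1 →
      f (QuotientGroup.mk' D n) * f (QuotientGroup.mk' D n) = 1 → Dih D q y n := by
    intro n hn hne hs
    have h1 := hsq n hn hne hs
    have hyk : f (QuotientGroup.mk' D (n * y)) = f (QuotientGroup.mk' D n) := by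
      have hy1 : f (QuotientGroup.mk' D y) = 1 := by rw [← MonoidHom.mem_ker, hker]; exact hyQ
      rw [map_mul, map_mul, hy1, mul_one]
    have h2 := hsq (n * y) ((Subgroup.normalizer (Y : Set G)).mul_mem hn
      (Subgroup.le_normalizer (Subgroup.mem_zpowers y))) (hyk ▸ hne) (by rw [hyk]; exact hs)
    refine ⟨hq35, hDn y, hDn n, hy, h1, ?_, fun e => hne (by rw [e, map_one, map_one])⟩
    rw [eq_inv_iff_mul_eq_one, ← h2]; group
  rcases hq35 with rfl | rfl
  · rcases (Nat.dvd_prime Nat.prime_two).1 hm with e | e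
    · exfalso
      exact three_or_five_closed h D hD hnot (q := 3) (by norm_num) (by rw [hGD, e, mul_one])
    · obtain ⟨a, ha⟩ := exists_prime_orderOf_dvd_card' (G := f.range) 2 e.symm.dvd
      obtain ⟨n, hn, hna⟩ := hsurj a
      refine ⟨3, y, n, hdih n hn ?_ ?_, ?_⟩
      · rw [hna]; intro e1
        rw [← Subgroup.orderOf_coe, e1, orderOf_one] at ha; norm_num at ha
      · rw [hna, ← pow_two, ← ha, ← Subgroup.orderOf_coe]; exact pow_orderOf_eq_one _
      · rw [Subgroup.card_eq_card_quotient_mul_card_subgroup D, hGD, e]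
  · obtain ⟨j, hj, e⟩ := (Nat.dvd_prime_pow Nat.prime_two).1 (show Nat.card f.range ∣ 2 ^ 2 from hm)
    interval_cases j
    · exfalso
      exact three_or_five_closed h D hD hnot (q := 5) (by norm_num) (by rw [hGD, e]; norm_num)
    · obtain ⟨a, ha⟩ := exists_prime_orderOf_dvd_card' (G := f.range) 2 e.symm.dvd
      obtain ⟨n, hn, hna⟩ := hsurj a
      refine ⟨5, y, n, hdih n hn ?_ ?_, ?_⟩
      · rw [hna]; intro e1
        rw [← Subgroup.orderOf_coe, e1, orderOf_one] at ha; norm_num at ha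
      · rw [hna, ← pow_two, ← ha, ← Subgroup.orderOf_coe]; exact pow_orderOf_eq_one _
      · rw [Subgroup.card_eq_card_quotient_mul_card_subgroup D, hGD, e]; norm_num
    · exfalso
      haveI := hQcyc
      haveI : IsCyclic (MulAut Qb) := by
        haveI : NeZero 5 := ⟨by norm_num⟩
        have e5 : MulAut Qb ≃* (ZMod (Nat.card Qb))ˣ := (IsCyclic.mulAutMulEquiv Qb)
        rw [hcard] at e5
        exact e5.isCyclic.2 inferInstance
      obtain ⟨a, ha⟩ := IsCyclic.exists_ofOrder_eq_natCard (α := f.range)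
      rw [e] at ha
      obtain ⟨n, hn, hna⟩ := hsurj a
      set F := f (QuotientGroup.mk' D n) with hF
      have hFo : orderOf F = 4 := by rw [hna, Subgroup.orderOf_coe, ha]; rfl
      have hne : f (QuotientGroup.mk' D (n * n)) ≠ 1 := by
        rw [map_mul, map_mul, ← hF, ← pow_two]
        intro e1
        have := Nat.le_of_dvd two_pos (hFo ▸ orderOf_dvd_of_pow_eq_one e1)
        norm_num at this
      have hs : f (QuotientGroup.mk' D (n * n)) * f (QuotientGroup.mk' D (n * n)) = 1 := by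
        rw [map_mul, map_mul, ← hF, show F * F * (F * F) = F ^ 4 by simp only [pow_succ, pow_zero, one_mul, mul_assoc],
          ← hFo, pow_orderOf_eq_one]
      have hd := hdih (n * n) ((Subgroup.normalizer (Y : Set G)).mul_mem hn hn) hne hs
      obtain ⟨k, hk⟩ := mem_powers_iff_mem_zpowers.2
        ((Subgroup.mem_normalizer_iff.1 hn y).1 (Subgroup.mem_zpowers y))
      exact hd.no_four h hD hD1 (hDn n) rfl hk.symm
where
  three_or_five_closed {G : Type u} [Group G] [Finite G] (h : Ord5 G) (D : Subgroup G) [D.Normal]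
      (hD : IsPGroup 2 D) (hnot : ∀ P : Sylow 2 G, ¬ (P : Subgroup G).Normal) {q : ℕ} (hq : q % 2 = 1)
      (hc : Nat.card (G ⧸ D) = q) : False := by
    haveI : Fact (Nat.Prime 2) := ⟨Nat.prime_two⟩
    obtain ⟨P, hP⟩ := hD.exists_le_sylow
    apply hnot P
    have heq : D = P := by
      refine le_antisymm hP fun x hx => ?_
      rw [← QuotientGroup.eq_one_iff, ← orderOf_eq_one_iff]
      obtain ⟨k, hk⟩ := IsPGroup.iff_orderOf.1 P.2 ⟨x, hx⟩
      rw [Subgroup.orderOf_mk] at hk
      have h1 : orderOf (QuotientGroup.mk x : G ⧸ D) ∣ 2 ^ k := hk ▸ orderOf_map_dvd (QuotientGroup.mk' D) x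
      have h2 : orderOf (QuotientGroup.mk x : G ⧸ D) ∣ q := hc ▸ orderOf_dvd_natCard _
      have h3 := Nat.dvd_gcd h1 h2
      have hcp : Nat.Coprime (2 ^ k) q :=
        Nat.Coprime.pow_left _ (Nat.coprime_two_left.2 (Nat.odd_iff.2 hq))
      rwa [hcp.gcd_eq_one, Nat.dvd_one] at h3
    rw [← heq]; infer_instance

end Cfsg.Agent.FiveOrders
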