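import Cfsg.Agent.Lib.FiveOrders.Dihedral
import Cfsg.Agent.Lib.FiveOrders.Loc

/-!
# The 2-local subgroups
-/

set_option autoImplicit false
set_option linter.all false

namespace Cfsg.Agent.FiveOrders

universe u

/-- The facts about a maximal 2-local subgroup needed when `|W| = |C|`. -/
def LocalOK {G : Type u} [Group G] (D W C : Subgroup G) : Prop :=
  Nat.card W = Nat.card C →
    (∀ a ∈ C, a ≠ 1 → ∀ d ∈ D, d ≠ 1 → ∃ m : G, m * a * m⁻¹ = d) ∧
      ((Nat.card C = 2 ∧ Nat.card ↥(Subgroup.normalizer ((D ⊔ W : Subgroup G) : Set G)) = 8) ∨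
        (Nat.card C = 4 ∧ Nat.card ↥(Subgroup.normalizer ((D ⊔ W : Subgroup G) : Set G)) = 192))

section
variable {H : Type u} [Group H] [Finite H]

theorem Loc.exists_sylow {D W C : Subgroup H} (L : Loc D W C) (h : Ord5 H) [Fact (Nat.Prime 2)] :
    ∃ S : Sylow 2 H, (S : Subgroup H) = D ⊔ W := by
  obtain ⟨S, hS⟩ := L.isPGroup.exists_le_sylow
  exact ⟨S, le_antisymm (L.maximal h _ S.2 hS) hS⟩

/-- `H` is transitive on the nontrivial elements of `D` when `|H| = |D ⊔ W| · (|D| - 1)`. -/
theorem Loc.trans_of_card {D W C : Subgroup H} [D.Normal] (L : Loc D W C) (h : Ord5 H)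
    (hcard : Nat.card H = Nat.card (D ⊔ W : Subgroup H) * (Nat.card D - 1)) :
    ∀ a ∈ C, a ≠ 1 → ∀ d ∈ D, d ≠ 1 → ∃ m : H, m * a * m⁻¹ = d := by
  intro a ha ha1 d hd hd1
  set K := Subgroup.centralizer ({a} : Set H) with hK
  have hKU : K = D ⊔ W := L.centralizer_C h ha ha1
  have hmem : ∀ m : H, m * a * m⁻¹ ∈ ((D : Set H) \ {1}) := fun m =>
    ⟨Subgroup.Normal.conj_mem inferInstance a (L.hC ha) m, fun e => ha1 (conj_eq_one_iff.1 e)⟩
  let f : H ⧸ K → ((D : Set H) \ {1} : Set H) := Quotient.lift (fun m => ⟨m * a * m⁻¹, hmem m⟩) (by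
    intro m n hmn
    have hc := Subgroup.mem_centralizer_iff.1 (QuotientGroup.leftRel_apply.1 hmn : m⁻¹ * n ∈ K) a rfl
    apply Subtype.ext
    show m * a * m⁻¹ = n * a * n⁻¹
    calc m * a * m⁻¹ = m * (a * (m⁻¹ * n)) * n⁻¹ := by group
      _ = n * a * n⁻¹ := by rw [hc]; group)
  have hinj : Function.Injective f := by
    intro x y
    induction x using Quotient.inductionOn with
    | _ m =>
      induction y using Quotient.inductionOn with
      | _ n =>
        intro e
        have e' : m * a * m⁻¹ = n * a * n⁻¹ := congrArg Subtype.val e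
        refine Quotient.sound (QuotientGroup.leftRel_apply.2 (Subgroup.mem_centralizer_iff.2 fun b hb => ?_))
        rw [Set.mem_singleton_iff.1 hb]
        calc a * (m⁻¹ * n) = m⁻¹ * (m * a * m⁻¹) * n := by group
          _ = m⁻¹ * n * a := by rw [e']; group
  have hc1 : Nat.card (H ⧸ K) = Nat.card D - 1 := by
    have h1 := Subgroup.card_eq_card_quotient_mul_card_subgroup K
    rw [hcard, hKU, mul_comm] at h1
    rw [hKU]
    exact (Nat.eq_of_mul_eq_mul_right Nat.card_pos h1).symm
  have hc2 : Nat.card ((D : Set H) \ {1} : Set H) = Nat.card D - 1 := by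
    have e2 := Set.ncard_sdiff_singleton_add_one (show (1 : H) ∈ (D : Set H) from one_mem D) (Set.toFinite _)
    have e3 : (D : Set H).ncard = Nat.card D := Nat.card_coe_set_eq _
    rw [Nat.card_coe_set_eq]
    omega
  obtain ⟨x, hx⟩ := (Nat.bijective_iff_injective_and_card f).2 ⟨hinj, hc1.trans hc2.symm⟩ |>.2 ⟨d, hd, hd1⟩
  induction x using Quotient.inductionOn with
  | _ m => exact ⟨m, congrArg Subtype.val hx⟩

/-- The solvable local subgroups. -/
theorem local_solvable (h : Ord5 H) [Group.IsSolvable H] (D : Subgroup H) [D.Normal]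
    (hD : IsPGroup 2 D) (hD1 : D ≠ ⊥) (hcore : Cfsg.pCore 2 H ≤ D)
    (hnot : ∀ P : Sylow 2 H, ¬ (P : Subgroup H).Normal) :
    ∃ W C : Subgroup H, Loc D W C ∧ LocalOK D W C := by
  haveI : Fact (Nat.Prime 2) := ⟨Nat.prime_two⟩
  obtain ⟨p, y, t, hd, hH⟩ := h.solvable_local D hD hD1 hcore hnot
  set W := Subgroup.zpowers t with hWdef
  set C := D ⊓ Subgroup.centralizer ({t} : Set H) with hCdef
  have hto : orderOf t = 2 := orderOf_eq_prime (by rw [pow_two, hd.t_sq]) hd.t_ne
  have hW2 : ∀ w ∈ W, w = 1 ∨ w = t := by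
    intro w hw
    obtain ⟨m, rfl⟩ := Subgroup.mem_zpowers_iff.1 hw
    rcases Int.even_or_odd m with ⟨j, rfl⟩ | ⟨j, rfl⟩
    · left; rw [zpow_add, ← (Commute.refl t).mul_zpow, hd.t_sq, one_zpow]
    · right; rw [zpow_add, zpow_one, two_mul, zpow_add, ← (Commute.refl t).mul_zpow, hd.t_sq, one_zpow, one_mul]
  have hcW : Nat.card W = 2 := by rw [hWdef, Nat.card_zpowers, hto]
  have hcD := hd.card_eq h hD
  rw [← hCdef] at hcD
  have hC1 : 2 ≤ Nat.card C := by
    by_contra hlt
    have : Nat.card C = 1 := by have := Nat.card_pos (α := C); omega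
    rw [this, one_mul] at hcD
    exact hD1 (Subgroup.card_eq_one.1 hcD)
  have hDU : D ≤ D ⊔ W := le_sup_left
  have hlt : 2 * Nat.card D ≤ Nat.card (D ⊔ W : Subgroup H) := by
    obtain ⟨j, hj⟩ := Subgroup.card_dvd_of_le hDU
    rcases j with _ | _ | j
    · rw [mul_zero] at hj; exact absurd hj Nat.card_pos.ne'
    · exfalso
      apply hd.t_not_mem h hD
      rw [Subgroup.eq_of_le_of_card_ge hDU (by rw [hj, zero_add, mul_one])]
      exact Subgroup.mem_sup_right (Subgroup.mem_zpowers t)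
    · rw [hj, mul_comm 2]; exact Nat.mul_le_mul_left _ (by omega)
  have hmax : ∀ X : Subgroup H, IsPGroup 2 X → D ⊔ W ≤ X → X ≤ D ⊔ W := by
    intro X hX hle
    obtain ⟨j, hj⟩ := hX.exists_card_eq
    have hdvd : Nat.card X ∣ p * (2 * Nat.card D) := by
      rw [← mul_assoc, mul_comm p, ← hH]; exact Subgroup.card_subgroup_dvd_card X
    have hcop : Nat.Coprime (Nat.card X) p := by
      rw [hj]; exact Nat.Coprime.pow_left _ ((Nat.coprime_primes Nat.prime_two hd.prime).2 hd.ne_two.symm)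
    exact (Subgroup.eq_of_le_of_card_ge hle
      ((Nat.le_of_dvd (mul_pos two_pos Nat.card_pos) (hcop.dvd_of_dvd_mul_left hdvd)).trans hlt)).ge
  have L : Loc D W C :=
    { hD := fun d hdd => hd.elementary h hD hdd
      hW := fun w hw => by rcases hW2 w hw with rfl | rfl; exacts [one_mul 1, hd.t_sq]
      hWD := Subgroup.zpowers_le.2 hd.ht
      disj := fun x hxD hxW => (hW2 x hxW).resolve_right fun e => hd.t_not_mem h hD (e ▸ hxD)
      hC := inf_le_left
      hCW := fun c hc w hw => by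
        rcases hW2 w hw with rfl | rfl
        exacts [Commute.one_left c, Subgroup.mem_centralizer_iff.1 hc.2 _ rfl]
      hfix := fun w hw hw1 d hdd hc => by
        refine ⟨hdd, Subgroup.mem_centralizer_iff.2 fun b hb => ?_⟩
        rw [Set.mem_singleton_iff.1 hb]
        exact ((hW2 w hw).resolve_left hw1 ▸ hc : Commute t d)
      card_D := hcD
      card_W := hcW ▸ hC1
      W_ne := fun e => by rw [e, Subgroup.card_bot] at hcW; norm_num at hcW
      hmax := fun X hX hle _ => hmax X hX hle }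
  refine ⟨W, C, L, fun he => ?_⟩
  rw [hcW] at he
  rw [← he] at hcD
  have hp3 : p = 3 := by
    rcases hd.hp with e | e
    · exact e
    · exfalso
      subst e
      haveI : Fact (Nat.Prime 5) := ⟨by norm_num⟩
      have hy : IsPGroup 5 (Subgroup.zpowers y) :=
        IsPGroup.of_card (n := 1) (by rw [Nat.card_zpowers, hd.order_y, pow_one])
      obtain ⟨k, hk, hk1, hkc⟩ := exists_commute hy hd.hy (K := D) (by rw [hcD]; norm_num)
      exact hk1 (hd.fpf h hD hk hkc)
  subst hp3
  have hU : Nat.card (D ⊔ W : Subgroup H) = 8 := by rw [L.card_U, hcD, hcW]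
  refine ⟨L.trans_of_card h (by rw [hH, hU, hcD]), Or.inl ⟨he.symm, ?_⟩⟩
  set N := Subgroup.normalizer ((D ⊔ W : Subgroup H) : Set H) with hN
  have h1 : 8 ∣ Nat.card N := hU ▸ Subgroup.card_dvd_of_le Subgroup.le_normalizer
  have h2 : Nat.card N ∣ 24 := by
    have := Subgroup.card_subgroup_dvd_card N
    rwa [hH, hcD] at this
  have hne : Nat.card N ≠ 24 := fun e => by
    obtain ⟨S, hS⟩ := L.exists_sylow h
    refine hnot S ?_
    rw [hS]
    exact Subgroup.normalizer_eq_top_iff.1 (Subgroup.eq_top_of_card_eq _ (by rw [← hN, e, hH, hcD]))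
  have h3 := Nat.le_of_dvd (by norm_num) h2
  have h4 := Nat.card_pos (α := N)
  obtain ⟨j, hj⟩ := h1
  rw [hj] at h2 h3 h4 hne ⊢
  have hj3 : j ≤ 3 := by omega
  interval_cases j <;> omega

end

/-! ### Transfer from the normalizer -/

section
variable {G : Type u} [Group G] [Finite G]

theorem Loc.ofNormalizer {D : Subgroup G} {W C : Subgroup ↥(Subgroup.normalizer (D : Set G))}
    (L : Loc (D.subgroupOf (Subgroup.normalizer (D : Set G))) W C) :
    Loc D (W.map (Subgroup.subtype _)) (C.map (Subgroup.subtype _)) where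
  hD := fun d hd => congrArg Subtype.val
    (L.hD ⟨d, Subgroup.le_normalizer hd⟩ (Subgroup.mem_subgroupOf.2 hd))
  hW := by rintro _ ⟨w, hw, rfl⟩; exact congrArg Subtype.val (L.hW w hw)
  hWD := by rintro _ ⟨w, hw, rfl⟩; exact w.2
  disj := by
    rintro _ hx ⟨w, hw, rfl⟩
    exact congrArg Subtype.val (L.disj w (Subgroup.mem_subgroupOf.2 hx) hw)
  hC := by rintro _ ⟨c, hc, rfl⟩; exact Subgroup.mem_subgroupOf.1 (L.hC hc)
  hCW := by
    rintro _ ⟨c, hc, rfl⟩ _ ⟨w, hw, rfl⟩
    exact (L.hCW c hc w hw).map (Subgroup.subtype _)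
  hfix := by
    rintro _ ⟨w, hw, rfl⟩ hw1 d hd hc
    refine ⟨⟨d, Subgroup.le_normalizer hd⟩, L.hfix w hw (fun e => hw1 (by rw [e]; rfl)) _
      (Subgroup.mem_subgroupOf.2 hd) (Subtype.ext hc), rfl⟩
  card_D := by
    rw [Subgroup.card_map_of_injective (Subgroup.subtype_injective _),
      ← Nat.card_congr (Subgroup.subgroupOfEquivOfLe Subgroup.le_normalizer).toEquiv]
    exact L.card_D
  card_W := by
    rw [Subgroup.card_map_of_injective (Subgroup.subtype_injective _),
      Subgroup.card_map_of_injective (Subgroup.subtype_injective _)]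
    exact L.card_W
  W_ne := fun e => L.W_ne ((Subgroup.map_eq_bot_iff_of_injective W (Subgroup.subtype_injective _)).1 e)
  hmax := by
    intro X hX hle hXN
    have hle' : D.subgroupOf (Subgroup.normalizer (D : Set G)) ⊔ W ≤ X.subgroupOf _ := by
      refine sup_le (fun a ha => ?_) (fun a ha => ?_)
      · exact Subgroup.mem_subgroupOf.2 (hle (Subgroup.mem_sup_left (Subgroup.mem_subgroupOf.1 ha)))
      · exact Subgroup.mem_subgroupOf.2 (hle (Subgroup.mem_sup_right ⟨a, ha, rfl⟩))
    intro x hx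
    have := L.hmax _ (hX.of_equiv (Subgroup.subgroupOfEquivOfLe hXN).symm) hle'
      (fun a _ => mem_normalizer_of_conj fun b hb => Subgroup.mem_subgroupOf.2
        ((Subgroup.mem_normalizer_iff.1 a.2 b).1 (Subgroup.mem_subgroupOf.1 hb)))
      (Subgroup.mem_subgroupOf.2 hx : (⟨x, hXN hx⟩ : Subgroup.normalizer (D : Set G)) ∈ _)
    have h2 := Subgroup.mem_map_of_mem (Subgroup.subtype _) this
    rw [Subgroup.map_sup, Subgroup.map_subgroupOf_eq_of_le Subgroup.le_normalizer] at h2
    exact h2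

theorem LocalOK.ofNormalizer (h : Ord5 G) {D : Subgroup G}
    {W C : Subgroup ↥(Subgroup.normalizer (D : Set G))}
    (L : Loc (D.subgroupOf (Subgroup.normalizer (D : Set G))) W C)
    (hok : LocalOK (D.subgroupOf (Subgroup.normalizer (D : Set G))) W C) :
    LocalOK D (W.map (Subgroup.subtype _)) (C.map (Subgroup.subtype _)) := by
  intro he
  have hinj := Subgroup.subtype_injective (Subgroup.normalizer (D : Set G))
  rw [Subgroup.card_map_of_injective hinj, Subgroup.card_map_of_injective hinj] at he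
  obtain ⟨htr, hcase⟩ := hok he
  refine ⟨?_, ?_⟩
  · rintro _ ⟨a, ha, rfl⟩ ha1 d hd hd1
    obtain ⟨m, hm⟩ := htr a ha (fun e => ha1 (by rw [e]; rfl)) ⟨d, Subgroup.le_normalizer hd⟩
      (Subgroup.mem_subgroupOf.2 hd) (fun e => hd1 (congrArg Subtype.val e))
    exact ⟨m, congrArg Subtype.val hm⟩
  rw [Subgroup.card_map_of_injective hinj]
  set U := D ⊔ W.map (Subgroup.subtype _) with hU
  have hle := L.ofNormalizer.normalizer_le h
  rw [← hU] at hle
  have heq : (Subgroup.normalizer (U : Set G)).subgroupOf (Subgroup.normalizer (D : Set G)) =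
      Subgroup.normalizer ((D.subgroupOf (Subgroup.normalizer (D : Set G)) ⊔ W :
        Subgroup ↥(Subgroup.normalizer (D : Set G))) : Set ↥(Subgroup.normalizer (D : Set G))) := by
    have hmap : (D.subgroupOf (Subgroup.normalizer (D : Set G)) ⊔ W).map (Subgroup.subtype _) = U := by
      rw [Subgroup.map_sup, Subgroup.map_subgroupOf_eq_of_le Subgroup.le_normalizer]
    ext x
    rw [Subgroup.mem_subgroupOf, ← conjS_eq_iff_mem_normalizer, ← conjS_eq_iff_mem_normalizer]
    have hx : conjS (x : G) U = (conjS x (D.subgroupOf (Subgroup.normalizer (D : Set G)) ⊔ W)).map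
        (Subgroup.subtype _) := by
      rw [← hmap, conjS, conjS, Subgroup.map_map, Subgroup.map_map]; rfl
    rw [hx]
    conv_lhs => rw [← hmap]
    exact (Subgroup.map_injective hinj).eq_iff
  rw [← Nat.card_congr (Subgroup.subgroupOfEquivOfLe hle).toEquiv, heq]
  exact hcase

end

end Cfsg.Agent.FiveOrders
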