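import Cfsg.Agent.Lib.FiveOrders.Fpf

/-!
# Maximal Sylow intersections and the index of a Sylow subgroup in its normalizer
-/

set_option autoImplicit false
set_option linter.all false

namespace Cfsg.Agent.FiveOrders

universe u

variable {G : Type u} [Group G] [Finite G]

/-- Semiregular coprime action: the order of `T` divides `|P| - 1`. -/
theorem dvd_card_sub_one {T P : Subgroup G} (hTP : T ≤ Subgroup.normalizer (P : Set G))
    (hfree : ∀ t ∈ T, t ≠ 1 → ∀ x ∈ P, x ≠ 1 → ¬ Commute t x) : Nat.card T ∣ Nat.card P - 1 := by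
  classical
  let X := {x : P // x ≠ 1}
  letI : MulAction T X :=
    { smul := fun a x => ⟨⟨a * (x.1 : G) * (a : G)⁻¹, (Subgroup.mem_normalizer_iff.1 (hTP a.2) x.1).1 x.1.2⟩,
        fun e => x.2 (Subtype.ext (conj_eq_one_iff.1 (congrArg Subtype.val e)))⟩
      one_smul := fun x => Subtype.ext (Subtype.ext (by show (1 : G) * x.1 * (1 : G)⁻¹ = x.1; simp))
      mul_smul := fun a b x => Subtype.ext (Subtype.ext (by
        show (a : G) * b * x.1 * ((a : G) * b)⁻¹ = a * (b * x.1 * (b : G)⁻¹) * (a : G)⁻¹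
        simp only [mul_assoc, mul_inv_rev])) }
  have hstab : ∀ x : X, MulAction.stabilizer T x = ⊥ := by
    intro x
    rw [eq_bot_iff]
    intro a ha
    rw [Subgroup.mem_bot]
    by_contra ha1
    have he : (a : G) * x.1 * (a : G)⁻¹ = x.1 :=
      congrArg (fun y : X => ((y.1 : P) : G)) (MulAction.mem_stabilizer_iff.1 ha)
    exact hfree a a.2 (fun e => ha1 (Subtype.ext e)) x.1 x.1.2
      (fun e => x.2 (Subtype.ext e)) (mul_inv_eq_iff_eq_mul.1 he)
  have hX : Nat.card X = Nat.card P - 1 := by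
    haveI : Fintype P := Fintype.ofFinite P
    rw [Nat.card_eq_fintype_card, Nat.card_eq_fintype_card, Fintype.card_subtype_compl,
      Fintype.card_subtype_eq]
  haveI : Fintype (Quotient (MulAction.orbitRel T X)) := Fintype.ofFinite _
  rw [← hX, Nat.card_congr (MulAction.selfEquivSigmaOrbitsQuotientStabilizer T X), Nat.card_sigma]
  refine Finset.dvd_sum fun ω _ => ?_
  rw [hstab, ← Subgroup.index_eq_card, Subgroup.index_bot]

/-- A maximal intersection of two Sylow subgroups. -/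
theorem exists_max_inter {p : ℕ} [hp : Fact p.Prime]
    (hne : ∃ P Q : Sylow p G, P ≠ Q ∧ (P : Subgroup G) ⊓ Q ≠ ⊥) :
    ∃ D : Subgroup G, D ≠ ⊥ ∧ IsPGroup p D ∧
      (∀ X : Subgroup G, IsPGroup p X → X ≤ Subgroup.normalizer (D : Set G) →
        Subgroup.normalizer (D : Set G) ≤ Subgroup.normalizer (X : Set G) → X ≤ D) ∧
      ∀ P : Sylow p ↥(Subgroup.normalizer (D : Set G)), ¬ ((P : Subgroup ↥(Subgroup.normalizer (D : Set G))).Normal) := by
  classical
  set I := {c : Sylow p G × Sylow p G | c.1 ≠ c.2 ∧ (c.1 : Subgroup G) ⊓ c.2 ≠ ⊥} with hI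
  obtain ⟨P0, Q0, hPQ, hb⟩ := hne
  obtain ⟨⟨S, T⟩, ⟨hST, hD1⟩, hmax0⟩ := Set.exists_max_image I
    (fun c => Nat.card ↥((c.1 : Subgroup G) ⊓ c.2)) (Set.toFinite I) ⟨(P0, Q0), hPQ, hb⟩
  have hmax : ∀ R S' : Sylow p G, ((R, S') : Sylow p G × Sylow p G) ∈ I →
      Nat.card ↥((R : Subgroup G) ⊓ S') ≤ Nat.card ↥((S : Subgroup G) ⊓ T) := fun R S' h => hmax0 (R, S') h
  clear hmax0
  set D := (S : Subgroup G) ⊓ T with hD
  clear_value D
  set N := Subgroup.normalizer (D : Set G) with hN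
  have hgrow : ∀ S : Sylow p G, D ≤ S → (D ≠ S) → ∃ x ∈ (S : Subgroup G), x ∈ N ∧ x ∉ D := by
    intro S hle hne'
    haveI := S.2.isNilpotent
    have hlt : D.subgroupOf (S : Subgroup G) < ⊤ := by
      rw [lt_top_iff_ne_top, ne_eq, Subgroup.subgroupOf_eq_top]
      exact fun h => hne' (le_antisymm hle h)
    obtain ⟨x, hx, hxD⟩ := SetLike.exists_of_lt (Group.normalizerCondition_of_isNilpotent _ hlt)
    refine ⟨x, x.2, ?_, fun h => hxD h⟩
    rw [hN, Subgroup.mem_normalizer_iff]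
    intro d
    constructor
    · intro hd
      exact ((Subgroup.mem_normalizer_iff.1 hx) ⟨d, hle hd⟩).1 hd
    · intro hd
      have hdS : d ∈ (S : Subgroup G) := by
        have := mul_mem (mul_mem (inv_mem x.2) (hle hd)) x.2
        simpa [mul_assoc] using this
      exact ((Subgroup.mem_normalizer_iff.1 hx) ⟨d, hdS⟩).2 hd
  have hDSle : D ≤ S := hD.le.trans inf_le_left
  have hDTle : D ≤ T := hD.le.trans inf_le_right
  have hDS : D ≠ S := by
    intro e
    apply hST
    exact Sylow.ext (S.3 T.2 ((le_of_eq e.symm).trans hDTle)).symm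
  have hDT : D ≠ T := by
    intro e
    apply hST
    exact Sylow.ext (T.3 S.2 ((le_of_eq e.symm).trans hDSle))
  -- a Sylow subgroup meeting `S` in more than `D` equals `S`
  have hup : ∀ R S' : Sylow p G, D ≤ R → D ≤ S' → ∀ x, x ∈ (S' : Subgroup G) → x ∈ (R : Subgroup G) → x ∉ D →
      R = S' := by
    intro R S' hR hS' x hx1 hx2 hx3
    by_contra hne'
    have hle : D ≤ (R : Subgroup G) ⊓ S' := le_inf hR hS'
    have hmem : ((R, S') : Sylow p G × Sylow p G) ∈ I := ⟨hne', fun e => hD1 (le_bot_iff.1 (hle.trans (le_of_eq e)))⟩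
    have heq := Subgroup.eq_of_le_of_card_ge hle (hmax R S' hmem)
    exact hx3 (by rw [heq]; exact ⟨hx2, hx1⟩)
  obtain ⟨s, hsS, hsN, hsD⟩ := hgrow S hDSle hDS
  obtain ⟨t, htT, htN, htD⟩ := hgrow T hDTle hDT
  have hDp : IsPGroup p D := S.2.to_le hDSle
  have hsub : ∀ S' : Sylow p G, D ≤ S' → ∀ x, x ∈ (S' : Subgroup G) → x ∈ N → x ∉ D →
      ∀ X : Subgroup G, IsPGroup p X → X ≤ N → N ≤ Subgroup.normalizer (X : Set G) → X ≤ S' := by
    intro S' hS' x hxS hxN hxD X hX hXN hNX
    have hSN : IsPGroup p ((S' : Subgroup G) ⊓ N : Subgroup G) := S'.2.to_le inf_le_left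
    obtain ⟨R, hR⟩ := (hSN.to_sup_of_normal_right' hX
      (fun y hy => hNX hy.2 : (S' : Subgroup G) ⊓ N ≤ _)).exists_le_sylow
    have hRS : R = S' := hup R S'
      (le_trans (le_inf hS' Subgroup.le_normalizer) (le_trans le_sup_left hR)) hS' x hxS
      (hR ((le_sup_left : (S' : Subgroup G) ⊓ N ≤ ((S' : Subgroup G) ⊓ N) ⊔ X) ⟨hxS, hxN⟩)) hxD
    rw [← hRS]
    exact le_trans le_sup_right hR
  refine ⟨D, hD1, hDp, ?_, ?_⟩
  · intro X hX hXN hNX
    exact (le_inf (hsub S hDSle s hsS hsN hsD X hX hXN hNX) (hsub T hDTle t htT htN htD X hX hXN hNX)).trans hD.ge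
  · intro P hPn
    set X := (P : Subgroup N).map N.subtype with hX
    have hXp : IsPGroup p X := P.2.map _
    have hmemX : ∀ S' : Sylow p G, ∀ x, x ∈ (S' : Subgroup G) → x ∈ N → x ∈ X := by
      intro S' x hx hxN
      haveI := hPn
      have hS'' : IsPGroup p (((S' : Subgroup G) ⊓ N).subgroupOf N) :=
        (S'.2.to_le inf_le_left).of_equiv (Subgroup.subgroupOfEquivOfLe inf_le_right).symm
      refine ⟨⟨x, hxN⟩, ?_, rfl⟩
      have h1 := (P.2.to_sup_of_normal_left hS'' : IsPGroup p _)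
      rw [← P.3 h1 le_sup_left]
      exact le_sup_right (a := (P : Subgroup N)) (⟨hx, hxN⟩ : x ∈ (S' : Subgroup G) ⊓ N)
    have hXN : X ≤ N := Subgroup.map_subtype_le _
    have hNX : N ≤ Subgroup.normalizer (X : Set G) := by
      haveI := hPn
      intro n hn
      rw [Subgroup.mem_normalizer_iff]
      intro y
      constructor
      · rintro ⟨z, hz, rfl⟩
        exact ⟨⟨n, hn⟩ * z * ⟨n, hn⟩⁻¹, Subgroup.Normal.conj_mem hPn z hz _, rfl⟩
      · rintro ⟨z, hz, hze⟩
        refine ⟨⟨n, hn⟩⁻¹ * z * ⟨n, hn⟩⁻¹⁻¹, Subgroup.Normal.conj_mem hPn z hz _, ?_⟩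
        rw [inv_inv, map_mul, map_mul, map_inv]
        show n⁻¹ * _ * n = y
        rw [hze]; group
    exact htD (hD.ge ⟨hsub S hDSle s hsS hsN hsD X hXp hXN hNX (hmemX T t htT htN), htT⟩)

/-- Odd Sylow subgroups have trivial intersections. -/
theorem Ord5.odd_ti (h : Ord5 G) {p : ℕ} [hp : Fact p.Prime] (hp2 : p ≠ 2) {P Q : Sylow p G}
    (hne : P ≠ Q) : (P : Subgroup G) ⊓ Q = ⊥ := by
  by_contra hb
  obtain ⟨D, hD1, hDp, -, hnot⟩ := exists_max_inter ⟨P, Q, hne, hb⟩
  set N := Subgroup.normalizer (D : Set G) with hN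
  obtain ⟨S⟩ : Nonempty (Sylow p N) := inferInstance
  haveI : (D.subgroupOf N).Normal := Subgroup.normal_in_normalizer
  refine hnot S ((h.sub N).closed hp2 (D.subgroupOf N)
    (hDp.of_equiv (Subgroup.subgroupOfEquivOfLe Subgroup.le_normalizer).symm) ?_ S)
  intro e
  rw [Subgroup.subgroupOf_eq_bot, disjoint_iff, inf_eq_left.2 Subgroup.le_normalizer] at e
  exact hD1 e

/-- The possible indices of a Sylow subgroup of odd order in its normalizer. -/
theorem Ord5.odd_index (h : Ord5 G) {p : ℕ} [hp : Fact p.Prime] (hp2 : p ≠ 2) (P : Sylow p G)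
    (hP1 : (P : Subgroup G) ≠ ⊥) :
    ∃ e : ℕ, Nat.card ↥(Subgroup.normalizer ((P : Subgroup G) : Set G)) = e * Nat.card P ∧
      e ∣ Nat.card P - 1 ∧
      (e = 1 ∨ e = 2 ∨ e = 4 ∨ e = 8 ∨ (e.Prime ∧ e ≠ 2 ∧ e ≠ p ∧ e ∣ Nat.card G)) := by
  haveI : Fact (Nat.Prime 2) := ⟨Nat.prime_two⟩
  set N := Subgroup.normalizer ((P : Subgroup G) : Set G) with hN
  set PN := (P : Subgroup G).subgroupOf N with hPN
  haveI : PN.Normal := Subgroup.normal_in_normalizer
  have hcPN : Nat.card PN = Nat.card P := Nat.card_congr (Subgroup.subgroupOfEquivOfLe Subgroup.le_normalizer).toEquiv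
  have hcard : Nat.card N = PN.index * Nat.card P := by rw [← hcPN, Subgroup.index_mul_card]
  refine ⟨PN.index, hcard, ?_⟩
  have hcop : ¬ p ∣ PN.index := fun hd => P.not_dvd_index (hd.trans
    (Dvd.intro _ (Subgroup.relIndex_mul_index (Subgroup.le_normalizer : (P : Subgroup G) ≤ N))))
  rcases eq_or_ne PN.index 1 with he | he
  · exact ⟨by rw [he]; exact one_dvd _, Or.inl he⟩
  have hfix : ∀ t : G, (∃ r : ℕ, r.Prime ∧ r ≠ p ∧ r ∣ orderOf t) → ∀ x ∈ (P : Subgroup G), x ≠ 1 → ¬ Commute t x := by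
    rintro t ⟨r, hr, hrp, hrd⟩ x hx hx1 hc
    refine hrp (h.eq_of_commute hr hp.out hc hrd ?_)
    exact orderOf_eq_prime (h.pgroup_pow hp2 P.2 hx) hx1
  have hT : ∀ (r : ℕ), r.Prime → r ∣ PN.index → ∃ T : Subgroup G, T ≤ N ∧ IsPGroup r T ∧
      Nat.card T = r ^ PN.index.factorization r := by
    intro r hr hrd
    haveI := Fact.mk hr
    obtain ⟨T⟩ : Nonempty (Sylow r N) := inferInstance
    refine ⟨(T : Subgroup N).map N.subtype, Subgroup.map_subtype_le _, T.2.map _, ?_⟩
    rw [Subgroup.card_map_of_injective N.subtype_injective, T.card_eq_multiplicity, hcard,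
      Nat.factorization_mul (fun e => by simp [e] at hrd; exact hcop (e ▸ dvd_zero p)) Nat.card_pos.ne']
    obtain ⟨k, hk⟩ := P.2.exists_card_eq
    have hrp : r ≠ p := fun e => hcop (e ▸ hrd)
    rw [Finsupp.coe_add, Pi.add_apply, hk, hp.out.factorization_pow, Finsupp.single_apply, if_neg (Ne.symm hrp), add_zero]
  have hsingle : ∀ r : ℕ, r.Prime → (∀ s : ℕ, s.Prime → s ∣ PN.index → s = r) →
      PN.index = r ^ PN.index.factorization r := by
    intro r hr hall
    have hne0 : PN.index ≠ 0 := fun e => hcop (e ▸ dvd_zero p)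
    have h1 := Nat.eq_prime_pow_of_unique_prime_dvd hne0 fun {d} hd hdd => hall d hd hdd
    have h2 := congrArg (fun n => Nat.factorization n r) h1
    simp only [hr.factorization_pow, Finsupp.single_eq_same] at h2
    rw [h2]; exact h1
  have hdiv : ∀ r : ℕ, r.Prime → (∀ s : ℕ, s.Prime → s ∣ PN.index → s = r) → r ∣ PN.index →
      ∀ T : Subgroup G, T ≤ N → IsPGroup r T → Nat.card T = r ^ PN.index.factorization r →
      PN.index ∣ Nat.card P - 1 := by
    intro r hr hall hrd T hTN hTr hTc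
    rw [hsingle r hr hall, ← hTc]
    refine dvd_card_sub_one hTN fun t ht ht1 => ?_
    haveI := Fact.mk hr
    obtain ⟨k, hk⟩ := IsPGroup.iff_orderOf.1 hTr ⟨t, ht⟩
    rw [Subgroup.orderOf_mk] at hk
    exact hfix t ⟨r, hr, fun e => hcop (e ▸ hrd), hk ▸ dvd_pow_self r fun e => ht1 (orderOf_eq_one_iff.1 (by rw [hk, e, pow_zero]))⟩
  by_cases heven : 2 ∣ PN.index
  · obtain ⟨T, hTN, hT2, hTc⟩ := hT 2 Nat.prime_two heven
    -- any two involutions of `N` agree modulo `P`
    have hinv : ∀ t ∈ N, t * t = 1 → t ≠ 1 → ∀ s ∈ N, s * s = 1 → s ≠ 1 → t⁻¹ * s ∈ (P : Subgroup G) := by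
      intro t ht htt ht1 s hs hss hs1
      obtain ⟨k, hk⟩ := P.2.exists_card_eq
      haveI : Nontrivial P := (Subgroup.nontrivial_iff_ne_bot _).2 hP1
      haveI := P.2.center_nontrivial
      obtain ⟨n, hn, hcn⟩ := (P.2.to_subgroup (Subgroup.center P)).nontrivial_iff_card.1 inferInstance
      obtain ⟨c, hc⟩ := exists_prime_orderOf_dvd_card' (G := Subgroup.center P) p (hcn ▸ dvd_pow_self p hn.ne')
      set z : G := ((c : P) : G) with hz
      have hzo : orderOf z = p := by rw [hz, Subgroup.orderOf_coe, Subgroup.orderOf_coe, hc]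
      have hinv' : ∀ t ∈ N, t * t = 1 → t ≠ 1 → t * z * t⁻¹ = z⁻¹ := by
        intro t ht htt ht1
        have hb : t * z * t⁻¹ ∈ (P : Subgroup G) := (Subgroup.mem_normalizer_iff.1 ht z).1 (c : P).2
        have hcomm : t * z * t⁻¹ * z = z * (t * z * t⁻¹) :=
          (congrArg Subtype.val (Subgroup.mem_center_iff.1 c.2 ⟨_, hb⟩) :)
        have htinv : t⁻¹ = t := inv_eq_of_mul_eq_one_right htt
        have hct : Commute t (t * z * t⁻¹ * z) := by
          show t * (t * z * t⁻¹ * z) = t * z * t⁻¹ * z * t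
          rw [hcomm]
          conv_rhs => rw [show z * (t * z * t⁻¹) * t = z * (t * z) by group]
          rw [htinv]
          calc t * (z * (t * z * t)) = (t * z * t) * (z * t) := by group
            _ = (t * z * t⁻¹) * z * t := by rw [htinv]; group
            _ = z * (t * z * t⁻¹) * t := by rw [hcomm]
            _ = z * (t * z) := by group
        apply eq_inv_of_mul_eq_one_left
        by_contra hne'
        exact hfix t ⟨2, Nat.prime_two, Ne.symm hp2, (orderOf_eq_prime (by rw [pow_two, htt]) ht1).symm.dvd⟩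
          _ (mul_mem hb (c : P).2) hne' hct
      have h1 := hinv' t ht htt ht1
      have h2 := hinv' s hs hss hs1
      have hts : t⁻¹ * s ∈ Subgroup.centralizer ({z} : Set G) := by
        rw [Subgroup.mem_centralizer_iff]
        rintro _ rfl
        have hsv : s⁻¹ = s := inv_eq_of_mul_eq_one_right hss
        calc z * (t⁻¹ * s) = t⁻¹ * (t * z * t⁻¹) * s := by group
          _ = t⁻¹ * (s * z * s⁻¹) * s := by rw [h1, h2]
          _ = t⁻¹ * s * z := by group
      obtain ⟨j, hj⟩ := IsPGroup.iff_orderOf.1 (h.centralizer_isPGroup hzo) ⟨_, hts⟩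
      rw [Subgroup.orderOf_mk] at hj
      have hmemN : t⁻¹ * s ∈ N := N.mul_mem (N.inv_mem ht) hs
      have hdvd : orderOf (QuotientGroup.mk' PN ⟨_, hmemN⟩) ∣ p ^ j := by
        rw [← hj, ← Subgroup.orderOf_mk _ hmemN]; exact orderOf_map_dvd _ _
      obtain ⟨i, -, hi⟩ := (Nat.dvd_prime_pow hp.out).1 hdvd
      rcases i with _ | i
      · rw [pow_zero, orderOf_eq_one_iff] at hi
        exact ((QuotientGroup.eq_one_iff _).1 hi : (⟨_, hmemN⟩ : N) ∈ PN)
      · exfalso
        apply hcop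
        rw [Subgroup.index_eq_card]
        exact dvd_trans (hi ▸ dvd_pow_self p i.succ_ne_zero) (orderOf_dvd_natCard _)
    have hTP : ∀ a ∈ T, a ∈ (P : Subgroup G) → a = 1 := fun a ha haP => by
      have hmem : a ∈ T ⊓ (P : Subgroup G) := ⟨ha, haP⟩
      rwa [disjoint_iff.1 (IsPGroup.disjoint_of_ne 2 p (Ne.symm hp2) T P hT2 P.2), Subgroup.mem_bot] at hmem
    have hall : ∀ s : ℕ, s.Prime → s ∣ PN.index → s = 2 := by
      intro s hs hsd
      by_contra hs2
      haveI := Fact.mk hs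
      rw [Subgroup.index_eq_card] at hsd
      obtain ⟨xb, hxb⟩ := exists_prime_orderOf_dvd_card' (G := N ⧸ PN) s hsd
      obtain ⟨x, rfl⟩ := QuotientGroup.mk'_surjective PN xb
      have hT1 : T ≠ ⊥ := fun e => by
        rw [e, Subgroup.card_bot] at hTc
        have := Nat.prime_two.factorization_pos_of_dvd (show PN.index ≠ 0 from fun e => hcop (by rw [e]; exact dvd_zero p)) heven
        exact absurd hTc.symm (Nat.one_lt_two_pow this.ne').ne'
      haveI : Nontrivial T := T.nontrivial_iff_ne_bot.2 hT1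
      obtain ⟨n, hn, hcn⟩ := hT2.nontrivial_iff_card.1 inferInstance
      obtain ⟨c, hc⟩ := exists_prime_orderOf_dvd_card' (G := T) 2 (hcn ▸ dvd_pow_self 2 hn.ne')
      have hto : orderOf (c : G) = 2 := by rw [Subgroup.orderOf_coe, hc]
      have htt : (c : G) * c = 1 := by rw [← pow_two, ← hto]; exact pow_orderOf_eq_one _
      have ht1 : (c : G) ≠ 1 := fun e => by rw [e, orderOf_one] at hto; norm_num at hto
      have hcomm : Commute (QuotientGroup.mk' PN ⟨c, hTN c.2⟩) (QuotientGroup.mk' PN x) := by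
        have hm := hinv c (hTN c.2) htt ht1 ((x : G) * c * (x : G)⁻¹)
          (N.mul_mem (N.mul_mem x.2 (hTN c.2)) (N.inv_mem x.2))
          (by rw [show (x : G) * c * (x : G)⁻¹ * ((x : G) * c * (x : G)⁻¹) = x * ((c : G) * c) * (x : G)⁻¹ by group,
            htt, mul_one, mul_inv_cancel])
          (fun e => ht1 (conj_eq_one_iff.1 e))
        have he : QuotientGroup.mk' PN ⟨c, hTN c.2⟩ = QuotientGroup.mk' PN (x * ⟨c, hTN c.2⟩ * x⁻¹) :=
          QuotientGroup.eq.2 hm
        rw [map_mul, map_mul, map_inv] at he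
        exact (eq_mul_inv_iff_mul_eq.1 he : _)
      refine ((h.sub N).quot PN).not_commute Nat.prime_two hs (Ne.symm hs2) ?_ hxb hcomm
      refine orderOf_eq_prime ?_ ?_
      · rw [pow_two, ← map_mul, show (⟨c, hTN c.2⟩ * ⟨c, hTN c.2⟩ : N) = 1 from Subtype.ext htt, map_one]
      · intro e
        exact ht1 (hTP c c.2 ((QuotientGroup.eq_one_iff _).1 e : (⟨c, hTN c.2⟩ : N) ∈ PN))
    refine ⟨hdiv 2 Nat.prime_two hall heven T hTN hT2 hTc, ?_⟩
    rw [← hsingle 2 Nat.prime_two hall] at hTc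
    -- `T` has a unique involution and exponent four
    have huniq : ∀ a ∈ T, a * a = 1 → a ≠ 1 → ∀ b ∈ T, b * b = 1 → b ≠ 1 → a = b := by
      intro a ha haa ha1 b hb hbb hb1
      have := hTP _ (mul_mem (inv_mem ha) hb) (hinv a (hTN ha) haa ha1 b (hTN hb) hbb hb1)
      rwa [inv_mul_eq_one] at this
    obtain ⟨k, hk⟩ := hT2.exists_card_eq
    have hle : k ≤ 3 := card_unique_involution hT2 (fun a ha => h.two_pow_four hT2 ha) huniq hk
    rw [← hTc, hk]
    interval_cases k <;> simp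
  · -- the index is a power of an odd prime `r`
    have hall0 : ∀ s : ℕ, s.Prime → s ∣ PN.index → s = 3 ∨ s = 5 := by
      intro s hs hsd
      rcases h.prime_cases hs ((hsd.trans (dvd_mul_right _ _)).trans (hcard ▸ Subgroup.card_subgroup_dvd_card N)) with e | e
      · exact absurd (e ▸ hsd) heven
      · exact e
    obtain ⟨r, hr, hrd⟩ := Nat.exists_prime_and_dvd he
    haveI := Fact.mk hr
    have hr2 : r ≠ 2 := fun e => heven (e ▸ hrd)
    have hall : ∀ s : ℕ, s.Prime → s ∣ PN.index → s = r := by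
      intro s hs hsd
      have hp35 : p = 3 ∨ p = 5 := by
        have hpd : p ∣ Nat.card G := by
          obtain ⟨k, hk⟩ := P.2.exists_card_eq
          refine dvd_trans (hk ▸ dvd_pow_self p ?_) (Subgroup.card_subgroup_dvd_card (P : Subgroup G))
          intro e
          exact hP1 (Subgroup.card_eq_one.1 (by rw [hk, e, pow_zero]))
        rcases h.prime_cases hp.out hpd with e | e
        · exact absurd e hp2
        · exact e
      have hsp : s ≠ p := fun e => hcop (e ▸ hsd)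
      have hrp : r ≠ p := fun e => hcop (e ▸ hrd)
      rcases hall0 s hs hsd with e | e <;> rcases hall0 r hr hrd with f | f <;> omega
    obtain ⟨T, hTN, hTr, hTc⟩ := hT r hr hrd
    refine ⟨hdiv r hr hall hrd T hTN hTr hTc, Or.inr (Or.inr (Or.inr (Or.inr ?_)))⟩
    have hle : Nat.card T ≤ r := h.card_le hr2 (show r ≠ p from fun e => hcop (e ▸ hrd)) hTr P.2 hP1 hTN
    rw [← hsingle r hr hall] at hTc
    have heq : PN.index = r := le_antisymm (hTc ▸ hle) (Nat.le_of_dvd (Nat.pos_of_ne_zero fun e => hcop (e ▸ dvd_zero p)) hrd)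
    rw [heq]
    exact ⟨hr, hr2, fun e => hcop (e ▸ hrd), (heq ▸ hcard ▸ Subgroup.card_subgroup_dvd_card N : r * Nat.card P ∣ _) |> dvd_of_mul_right_dvd⟩
where
  /-- A 2-group of exponent four with a single involution has order at most eight. -/
  card_unique_involution {G : Type u} [Group G] [Finite G] {T : Subgroup G} (hT : IsPGroup 2 T)
      (hexp : ∀ a ∈ T, a ^ 4 = 1)
      (huniq : ∀ a ∈ T, a * a = 1 → a ≠ 1 → ∀ b ∈ T, b * b = 1 → b ≠ 1 → a = b)
      {k : ℕ} (hk : Nat.card T = 2 ^ k) : k ≤ 3 := by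
    haveI : Fact (Nat.Prime 2) := ⟨Nat.prime_two⟩
    by_contra hk4
    push Not at hk4
    haveI : Nontrivial T := hT.nontrivial_iff_card.2 ⟨k, by omega, hk⟩
    obtain ⟨c, hc⟩ := exists_prime_orderOf_dvd_card' (G := T) 2 (hk ▸ dvd_pow_self 2 (by omega))
    set z : G := (c : G) with hzdef
    have hzo : orderOf z = 2 := by rw [hzdef, Subgroup.orderOf_coe, hc]
    have hz2 : z * z = 1 := by rw [← pow_two, ← hzo]; exact pow_orderOf_eq_one _
    have hz1 : z ≠ 1 := fun e => by rw [e, orderOf_one] at hzo; norm_num at hzo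
    have hzc : ∀ a ∈ T, a * z * a⁻¹ = z := fun a ha => huniq _ (mul_mem (mul_mem ha c.2) (inv_mem ha))
      (by rw [show a * z * a⁻¹ * (a * z * a⁻¹) = a * (z * z) * a⁻¹ by group, hz2, mul_one, mul_inv_cancel])
      (fun e => hz1 (conj_eq_one_iff.1 e)) z c.2 hz2 hz1
    have hzC : ∀ a ∈ T, a * z = z * a := fun a ha => mul_inv_eq_iff_eq_mul.1 (hzc a ha)
    -- `Zs = {1, z}`; elements outside square to `z`
    have hsq : ∀ a ∈ T, a ∉ Subgroup.zpowers z → a * a = z := by
      intro a ha hna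
      refine huniq _ (mul_mem ha ha) ?_ ?_ z c.2 hz2 hz1
      · rw [← hexp a ha]; simp [pow_succ, mul_assoc]
      · intro e
        exact hna (huniq a ha e (fun e1 => hna (e1 ▸ one_mem _)) z c.2 hz2 hz1 ▸ Subgroup.mem_zpowers z)
    have hanti : ∀ a ∈ T, ∀ b ∈ T, a ∉ Subgroup.zpowers z → b ∉ Subgroup.zpowers z →
        a * b ∉ Subgroup.zpowers z → a * b = z * (b * a) := by
      intro a ha b hb h1 h2 h3
      have e := hsq _ (mul_mem ha hb) h3
      calc a * b = (a * b * (a * b)) * (b⁻¹ * a⁻¹) := by group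
        _ = z * (b⁻¹ * a⁻¹) := by rw [e]
        _ = z * ((b * b)⁻¹ * b * (a * (a * a)⁻¹)) := by group
        _ = z * (z⁻¹ * b * (a * z⁻¹)) := by rw [hsq a ha h1, hsq b hb h2]
        _ = z * (b * a) := by
          rw [inv_eq_of_mul_eq_one_right hz2, hzC a ha]
          rw [show z * b * (z * a) = (z * b) * z * a by group, mul_assoc z b z, hzC b hb,
            ← mul_assoc z z b, hz2, one_mul]
    have hpick : ∀ F : Finset G, F.card < Nat.card T → ∃ a ∈ T, a ∉ F := by
      intro F hF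
      by_contra hall
      push Not at hall
      have : Nat.card T ≤ F.card := by
        rw [← Nat.card_eq_finsetCard F]
        exact Nat.card_le_card_of_injective (fun a : T => (⟨a, hall a a.2⟩ : F))
          fun a b e => Subtype.ext (congrArg (fun x : F => (x : G)) e)
      omega
    have hzmem : ∀ a, a ∈ Subgroup.zpowers z ↔ a = 1 ∨ a = z := by
      intro a
      constructor
      · intro ha
        obtain ⟨m, rfl⟩ := Subgroup.mem_zpowers_iff.1 ha
        rcases Int.even_or_odd m with ⟨j, rfl⟩ | ⟨j, rfl⟩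
        · left; rw [zpow_add, ← (Commute.refl z).mul_zpow, hz2, one_zpow]
        · right; rw [zpow_add, zpow_one, two_mul, zpow_add, ← (Commute.refl z).mul_zpow, hz2, one_zpow, one_mul]
      · rintro (rfl | rfl)
        exacts [one_mem _, Subgroup.mem_zpowers _]
    have h16 : 16 ≤ Nat.card T := by
      rw [hk]; calc 16 = 2 ^ 4 := rfl
        _ ≤ 2 ^ k := Nat.pow_le_pow_right two_pos (by omega)
    classical
    obtain ⟨a, ha, haF⟩ := hpick {1, z} (by
      have := Finset.card_le_two (a := (1 : G)) (b := z); omega)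
    simp only [Finset.mem_insert, Finset.mem_singleton] at haF
    have haz : a ∉ Subgroup.zpowers z := fun e => haF ((hzmem a).1 e)
    obtain ⟨b, hb, hbF⟩ := hpick {1, z, a⁻¹, a⁻¹ * z} (by
      have := Finset.card_le_four (a := (1 : G)) (b := z) (c := a⁻¹) (d := a⁻¹ * z); omega)
    simp only [Finset.mem_insert, Finset.mem_singleton, not_or] at hbF
    have hbz : b ∉ Subgroup.zpowers z := fun e => ((hzmem b).1 e).elim hbF.1 hbF.2.1
    have habz : a * b ∉ Subgroup.zpowers z := fun e => ((hzmem _).1 e).elim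
      (fun e => hbF.2.2.1 (eq_inv_of_mul_eq_one_right e))
      (fun e => hbF.2.2.2 (by rw [← e, inv_mul_cancel_left]))
    obtain ⟨d, hd, hdF⟩ := hpick {1, z, a⁻¹, a⁻¹ * z, b⁻¹, b⁻¹ * z, (a * b)⁻¹, (a * b)⁻¹ * z} (by
      have h1 := Finset.card_le_four (a := b⁻¹) (b := b⁻¹ * z) (c := (a * b)⁻¹) (d := (a * b)⁻¹ * z)
      have h2 := Finset.card_insert_le (1 : G) {z, a⁻¹, a⁻¹ * z, b⁻¹, b⁻¹ * z, (a * b)⁻¹, (a * b)⁻¹ * z}
      have h3 := Finset.card_insert_le z ({a⁻¹, a⁻¹ * z, b⁻¹, b⁻¹ * z, (a * b)⁻¹, (a * b)⁻¹ * z} : Finset G)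
      have h4 := Finset.card_insert_le a⁻¹ ({a⁻¹ * z, b⁻¹, b⁻¹ * z, (a * b)⁻¹, (a * b)⁻¹ * z} : Finset G)
      have h5 := Finset.card_insert_le (a⁻¹ * z) ({b⁻¹, b⁻¹ * z, (a * b)⁻¹, (a * b)⁻¹ * z} : Finset G)
      omega)
    simp only [Finset.mem_insert, Finset.mem_singleton, not_or] at hdF
    obtain ⟨d1, d2, d3, d4, d5, d6, d7, d8⟩ := hdF
    have hdz : d ∉ Subgroup.zpowers z := fun e => ((hzmem d).1 e).elim d1 d2
    have hadz : a * d ∉ Subgroup.zpowers z := fun e => ((hzmem _).1 e).elim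
      (fun e => d3 (eq_inv_of_mul_eq_one_right e)) (fun e => d4 (by rw [← e, inv_mul_cancel_left]))
    have hbdz : b * d ∉ Subgroup.zpowers z := fun e => ((hzmem _).1 e).elim
      (fun e => d5 (eq_inv_of_mul_eq_one_right e)) (fun e => d6 (by rw [← e, inv_mul_cancel_left]))
    have habdz : a * b * d ∉ Subgroup.zpowers z := fun e => ((hzmem _).1 e).elim
      (fun e => d7 (eq_inv_of_mul_eq_one_right e)) (fun e => d8 (by rw [← e, inv_mul_cancel_left]))
    have h1 := hanti _ (mul_mem ha hb) _ hd habz hdz habdz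
    have h2 := hanti a ha d hd haz hdz hadz
    have h3 := hanti b hb d hd hbz hdz hbdz
    have h4 : a * b * d = d * (a * b) := by
      rw [mul_assoc, h3, ← mul_assoc a z, hzC a ha, mul_assoc z a, ← mul_assoc a d b, h2,
        mul_assoc z (d * a), ← mul_assoc z z, hz2, one_mul, mul_assoc]
    rw [h4] at h1
    exact hz1 (by
      have := mul_right_cancel (b := d * (a * b)) (show (1 : G) * (d * (a * b)) = z * (d * (a * b)) by rw [one_mul]; exact h1)
      exact this.symm)

end Cfsg.Agent.FiveOrders
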